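import Groth.Agent.H58.DT

set_option autoImplicit false
universe u
open CategoryTheory CategoryTheory.Limits Opposite

namespace Groth.Agent.H58

variable {R : Type u} [CommRing R] (I : Ideal R)

section
variable {M : Type u} [AddCommGroup M] [Module R M]

/-- A finitely generated submodule consisting of power-torsion elements is killed by one power. -/
theorem exists_pow_smul_eq_zero_of_fg (P : Submodule R M) (hP : P.FG)
    (ht : ∀ p ∈ P, ∃ n : ℕ, ∀ a ∈ I ^ n, a • p = 0) :
    ∃ k : ℕ, ∀ a ∈ I ^ k, ∀ p ∈ P, a • p = 0 := by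
  obtain ⟨S, rfl⟩ := hP
  have hS : ∀ s ∈ S, ∃ n : ℕ, ∀ a ∈ I ^ n, a • s = 0 := fun s hs =>
    ht s (Submodule.subset_span hs)
  choose! k hk using hS
  refine ⟨S.sup k, fun a ha p hp => ?_⟩
  refine Submodule.span_induction (p := fun p _ => a • p = 0) ?_ ?_ ?_ ?_ hp
  · intro s hs
    exact hk s hs a (Ideal.pow_le_pow_right (Finset.le_sup hs) ha)
  · exact smul_zero a
  · intro x y _ _ hx hy
    rw [smul_add, hx, hy, add_zero]
  · intro c x _ hx
    rw [smul_comm, hx, smul_zero]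

/-- If `I^k` kills the values of `f : I^n → M` then `f` vanishes on `I^(n+k)`. -/
theorem eq_zero_on_pow_add {n k : ℕ} (f : ↥(I ^ n) →ₗ[R] M)
    (hf : ∀ b ∈ I ^ k, ∀ x : ↥(I ^ n), b • f x = 0) (r : ↥(I ^ (n + k))) :
    f (Submodule.inclusion (Ideal.pow_le_pow_right (Nat.le_add_right n k)) r) = 0 := by
  obtain ⟨r, hr⟩ := r
  have key : r ∈ I ^ n ∧ ∀ h : r ∈ I ^ n, f ⟨r, h⟩ = 0 := by
    rw [pow_add, mul_comm] at hr
    refine Submodule.mul_induction_on hr ?_ ?_
    · intro b hb x hx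
      refine ⟨Ideal.mul_mem_left _ _ hx, fun h => ?_⟩
      have : (⟨b * x, h⟩ : ↥(I ^ n)) = b • ⟨x, hx⟩ := rfl
      rw [this, map_smul]
      exact hf b hb _
    · rintro x y ⟨hx, hx'⟩ ⟨hy, hy'⟩
      refine ⟨Ideal.add_mem _ hx hy, fun h => ?_⟩
      have : (⟨x + y, h⟩ : ↥(I ^ n)) = ⟨x, hx⟩ + ⟨y, hy⟩ := rfl
      rw [this, map_add, hx' hx, hy' hy, add_zero]
  exact key.2 _

end

variable [IsNoetherianRing R]

theorem dt_subsingleton_of_isPowerTorsion (N : Type u) [AddCommGroup N] [Module R N]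
    (hN : LocCoh.IsPowerTorsion I N) : Subsingleton (LocCoh.DT I N) := by
  refine ⟨fun x y => ?_⟩
  have key : ∀ z : LocCoh.DT I N, z = 0 := by
    intro z
    obtain ⟨n, f, rfl⟩ := dt_exists_rep I N z
    rw [dtι_eq_zero_iff]
    have hfg : (LinearMap.range f).FG := by
      rw [LinearMap.range_eq_map]
      exact Submodule.FG.map f (Submodule.fg_top _ |>.mpr (IsNoetherian.noetherian (I ^ n)))
    obtain ⟨k, hk⟩ := exists_pow_smul_eq_zero_of_fg I (LinearMap.range f) hfg (fun p _ => hN p)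
    refine ⟨n + k, Nat.le_add_right n k, fun r => ?_⟩
    exact eq_zero_on_pow_add I f (fun b hb x => hk b hb _ ⟨x, rfl⟩) r
  rw [key x, key y]

/-- Artin–Rees consequence: a submodule of power-torsion elements inside a finitely generated
submodule `E'` meets `I^j • E'` trivially for large `j`. -/
theorem exists_pow_smul_inf_eq_bot {E : Type u} [AddCommGroup E] [Module R E]
    (E' T : Submodule R E) (hE' : E'.FG)
    (hT : ∀ t ∈ T, ∃ n : ℕ, ∀ a ∈ I ^ n, a • t = 0) :
    ∃ j : ℕ, (I ^ j • E') ⊓ T = ⊥ := by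
  haveI : Module.Finite R ↥E' := Module.Finite.iff_fg.mpr hE'
  let N : Submodule R ↥E' := T.comap E'.subtype
  obtain ⟨c, hc⟩ := Ideal.exists_pow_inf_eq_pow_smul I N
  have hNfg : N.FG := IsNoetherian.noetherian N
  have hNt : ∀ p ∈ N, ∃ n : ℕ, ∀ a ∈ I ^ n, a • p = 0 := by
    intro p hp
    obtain ⟨n, hn⟩ := hT (p : E) hp
    refine ⟨n, fun a ha => ?_⟩
    apply Subtype.ext
    simpa using hn a ha
  obtain ⟨k, hk⟩ := exists_pow_smul_eq_zero_of_fg I N hNfg hNt
  refine ⟨c + k, ?_⟩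
  rw [eq_bot_iff]
  rintro x ⟨hx1, hx2⟩
  have hmap : I ^ (c + k) • E' = Submodule.map E'.subtype (I ^ (c + k) • ⊤) := by
    rw [Submodule.map_smul'', Submodule.map_top, Submodule.range_subtype]
  rw [hmap] at hx1
  obtain ⟨y, hy, rfl⟩ := hx1
  have hyN : y ∈ N := hx2
  have h1 : y ∈ I ^ (c + k) • ⊤ ⊓ N := ⟨hy, hyN⟩
  rw [hc (c + k) (Nat.le_add_right c k), Nat.add_sub_cancel_left] at h1
  have h2 : I ^ k • (I ^ c • ⊤ ⊓ N) ≤ (⊥ : Submodule R ↥E') := by
    rw [Submodule.smul_le]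
    intro a ha p hp
    rw [Submodule.mem_bot]
    exact hk a ha p hp.2
  have h3 := h2 h1
  rw [Submodule.mem_bot] at h3 ⊢
  rw [h3]; rfl

theorem inclusion_mem_pow_smul_top (n j : ℕ) (r : ↥(I ^ (n + j))) :
    Submodule.inclusion (Ideal.pow_le_pow_right (Nat.le_add_right n j)) r ∈
      I ^ j • (⊤ : Submodule R ↥(I ^ n)) := by
  obtain ⟨r, hr⟩ := r
  have key : ∃ h : r ∈ I ^ n, (⟨r, h⟩ : ↥(I ^ n)) ∈ I ^ j • (⊤ : Submodule R ↥(I ^ n)) := by
    rw [pow_add, mul_comm] at hr
    refine Submodule.mul_induction_on hr ?_ ?_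
    · intro b hb x hx
      refine ⟨Ideal.mul_mem_left _ _ hx, ?_⟩
      have : (⟨b * x, Ideal.mul_mem_left _ _ hx⟩ : ↥(I ^ n)) = b • ⟨x, hx⟩ := rfl
      rw [this]
      exact Submodule.smul_mem_smul hb Submodule.mem_top
    · rintro x y ⟨hx, hx'⟩ ⟨hy, hy'⟩
      refine ⟨Ideal.add_mem _ hx hy, ?_⟩
      have : (⟨x + y, Ideal.add_mem _ hx hy⟩ : ↥(I ^ n)) = ⟨x, hx⟩ + ⟨y, hy⟩ := rfl
      rw [this]
      exact Submodule.add_mem _ hx' hy'
  obtain ⟨h, hmem⟩ := key
  exact hmem

/-- Lifting a map `I^n → M'` with values in the range of `e : M → M'` (torsion kernel) to `M`,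
after restricting to a higher power of `I`. -/
theorem exists_lift_of_range_le {M M' : Type u} [AddCommGroup M] [Module R M] [AddCommGroup M']
    [Module R M'] (e : M →ₗ[R] M') (hker : LinearMap.ker e ≤ DRing.torsionSub I M) {n : ℕ}
    (g : ↥(I ^ n) →ₗ[R] M') (hg : LinearMap.range g ≤ LinearMap.range e) :
    ∃ (j : ℕ) (f : ↥(I ^ (n + j)) →ₗ[R] M),
      e ∘ₗ f = g ∘ₗ Submodule.inclusion (Ideal.pow_le_pow_right (Nat.le_add_right n j)) := by
  classical
  let A := ↥(I ^ n)
  let Rel : Submodule R (A × M) :=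
    LinearMap.ker (g ∘ₗ LinearMap.fst R A M - e ∘ₗ LinearMap.snd R A M)
  have hRel : ∀ x : A × M, x ∈ Rel ↔ g x.1 = e x.2 := by
    intro x
    simp only [Rel, LinearMap.mem_ker, LinearMap.sub_apply, LinearMap.coe_comp,
      Function.comp_apply, LinearMap.fst_apply, LinearMap.snd_apply, sub_eq_zero]
  have hAfg : (⊤ : Submodule R A).FG := Module.Finite.fg_top
  obtain ⟨S, hS⟩ := hAfg
  have hlift : ∀ s : A, ∃ m : M, e m = g s := fun s => hg ⟨s, rfl⟩
  choose mOf hmOf using hlift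
  let X : Set (A × M) := (fun s => (s, mOf s)) '' (S : Set A)
  let E' : Submodule R (A × M) := Submodule.span R X
  have hE'fg : E'.FG := Submodule.fg_span (S.finite_toSet.image _)
  have hE'Rel : E' ≤ Rel := by
    rw [Submodule.span_le]
    rintro _ ⟨s, -, rfl⟩
    rw [SetLike.mem_coe, hRel]
    exact (hmOf s).symm
  have hE'fst : Submodule.map (LinearMap.fst R A M) E' = ⊤ := by
    rw [Submodule.map_span, ← Set.image_comp]
    have : (LinearMap.fst R A M ∘ fun s => (s, mOf s)) = id := rfl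
    rw [this, Set.image_id, hS]
  let T : Submodule R (A × M) := E' ⊓ LinearMap.ker (LinearMap.fst R A M)
  have hT : ∀ t ∈ T, ∃ k : ℕ, ∀ a ∈ I ^ k, a • t = 0 := by
    rintro ⟨a, m⟩ ⟨h1, h2⟩
    have ha : a = 0 := h2
    subst ha
    have hm : m ∈ LinearMap.ker e := by
      have := (hRel _).mp (hE'Rel h1)
      rw [LinearMap.mem_ker]
      simpa using this.symm
    obtain ⟨k, hk⟩ := hker hm
    refine ⟨k, fun r hr => ?_⟩
    rw [Prod.smul_mk, smul_zero, hk r hr]
    rfl
  obtain ⟨j, hj⟩ := exists_pow_smul_inf_eq_bot I E' T hE'fg hT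
  let G : Submodule R (A × M) := I ^ j • E'
  have hGE' : G ≤ E' := Submodule.smul_le_right
  have hG : ∀ (x : A × M) (_ : x ∈ G) (_ : x.fst = 0), x.snd = 0 := by
    intro x hx hx0
    have : x ∈ (I ^ j • E') ⊓ T := ⟨hx, hGE' hx, hx0⟩
    rw [hj, Submodule.mem_bot] at this
    rw [this]; rfl
  have hGfst : Submodule.map (LinearMap.fst R A M) G = I ^ j • (⊤ : Submodule R A) := by
    rw [Submodule.map_smul'', hE'fst]
  let incl : ↥(I ^ (n + j)) →ₗ[R] ↥(Submodule.map (LinearMap.fst R A M) G) :=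
    LinearMap.codRestrict _ (Submodule.inclusion (Ideal.pow_le_pow_right (Nat.le_add_right n j)))
      (fun r => by rw [hGfst]; exact inclusion_mem_pow_smul_top I n j r)
  refine ⟨j, (Submodule.toLinearPMapAux G hG) ∘ₗ incl, ?_⟩
  ext r
  have hmem : ((incl r : A), Submodule.toLinearPMapAux G hG (incl r)) ∈ G :=
    Submodule.valFromGraph_mem hG (incl r).2
  have := (hRel _).mp (hE'Rel (hGE' hmem))
  exact this.symm

theorem range_fg {M : Type u} [AddCommGroup M] [Module R M] {n : ℕ} (f : ↥(I ^ n) →ₗ[R] M) :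
    (LinearMap.range f).FG := by
  rw [LinearMap.range_eq_map]
  exact Submodule.FG.map f Module.Finite.fg_top

theorem idealTransform_map_injective {M M' : Type u} [AddCommGroup M] [Module R M]
    [AddCommGroup M'] [Module R M'] (e : M →ₗ[R] M')
    (hker : LinearMap.ker e ≤ DRing.torsionSub I M) :
    Function.Injective ((LocCoh.idealTransform I).map (ModuleCat.ofHom e)).hom := by
  rw [injective_iff_map_eq_zero]
  intro x hx
  obtain ⟨n, f, rfl⟩ := dt_exists_rep I M x
  rw [idealTransform_map_dtι, dtι_eq_zero_iff] at hx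
  obtain ⟨m, hm, hr⟩ := hx
  let f' : ↥(I ^ m) →ₗ[R] M := f ∘ₗ Submodule.inclusion (Ideal.pow_le_pow_right hm)
  have hf' : ∀ p ∈ LinearMap.range f', ∃ k : ℕ, ∀ a ∈ I ^ k, a • p = 0 := by
    rintro _ ⟨r, rfl⟩
    exact hker (hr r)
  obtain ⟨k, hk⟩ := exists_pow_smul_eq_zero_of_fg I _ (range_fg I f') hf'
  have hzero := eq_zero_on_pow_add I f' (fun b hb x => hk b hb _ ⟨x, rfl⟩)
  rw [← dtι_restrict I M hm f, dtι_eq_zero_iff]
  exact ⟨m + k, Nat.le_add_right m k, hzero⟩

theorem idealTransform_map_surjective {M M' : Type u} [AddCommGroup M] [Module R M]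
    [AddCommGroup M'] [Module R M'] (e : M →ₗ[R] M')
    (hker : LinearMap.ker e ≤ DRing.torsionSub I M)
    (hcoker : LocCoh.IsPowerTorsion I (M' ⧸ LinearMap.range e)) :
    Function.Surjective ((LocCoh.idealTransform I).map (ModuleCat.ofHom e)).hom := by
  intro y
  obtain ⟨n, g, rfl⟩ := dt_exists_rep I M' y
  -- Step 1: restrict so that the range lies in the range of `e`
  let π := (LinearMap.range e).mkQ
  obtain ⟨k, hk⟩ := exists_pow_smul_eq_zero_of_fg I _ (range_fg I (π ∘ₗ g)) (fun p _ => hcoker p)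
  have hzero := eq_zero_on_pow_add I (π ∘ₗ g) (fun b hb x => hk b hb _ ⟨x, rfl⟩)
  let g' : ↥(I ^ (n + k)) →ₗ[R] M' :=
    g ∘ₗ Submodule.inclusion (Ideal.pow_le_pow_right (Nat.le_add_right n k))
  have hg' : LinearMap.range g' ≤ LinearMap.range e := by
    rintro _ ⟨r, rfl⟩
    have := hzero r
    rwa [LinearMap.comp_apply, Submodule.mkQ_apply, Submodule.Quotient.mk_eq_zero] at this
  obtain ⟨j, f, hf⟩ := exists_lift_of_range_le I e hker g' hg'
  refine ⟨dtι I M (n + k + j) f, ?_⟩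
  rw [idealTransform_map_dtι, hf, dtι_restrict I M' (Nat.le_add_right (n + k) j) g',
    dtι_restrict I M' (Nat.le_add_right n k) g]

theorem idealTransform_map_bijective {M M' : Type u} [AddCommGroup M] [Module R M]
    [AddCommGroup M'] [Module R M'] (e : M →ₗ[R] M')
    (hker : LinearMap.ker e ≤ DRing.torsionSub I M)
    (hcoker : LocCoh.IsPowerTorsion I (M' ⧸ LinearMap.range e)) :
    Function.Bijective ((LocCoh.idealTransform I).map (ModuleCat.ofHom e)).hom :=
  ⟨idealTransform_map_injective I e hker, idealTransform_map_surjective I e hker hcoker⟩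

omit [IsNoetherianRing R] in
theorem smul_dtι_eq_toDT {M : Type u} [AddCommGroup M] [Module R M] {n : ℕ}
    (f : ↥(I ^ n) →ₗ[R] M) (r : R) (hr : r ∈ I ^ n) :
    r • dtι I M n f = LocCoh.toDT I M (f ⟨r, hr⟩) := by
  rw [← map_smul, toDT_apply, ← dtι_restrict I M (Nat.zero_le n)]
  congr 1
  ext s
  simp only [LinearMap.smul_apply, LinearMap.coe_comp, Function.comp_apply, smulMap_apply,
    Submodule.coe_inclusion]
  rw [← map_smul, ← map_smul]
  congr 1
  apply Subtype.ext
  simp [mul_comm]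

omit [IsNoetherianRing R] in
theorem isPowerTorsion_coker_toDT (M : Type u) [AddCommGroup M] [Module R M] :
    LocCoh.IsPowerTorsion I (LocCoh.DT I M ⧸ LinearMap.range (LocCoh.toDT I M)) := by
  intro q
  obtain ⟨x, rfl⟩ := Submodule.Quotient.mk_surjective _ q
  obtain ⟨n, f, rfl⟩ := dt_exists_rep I M x
  refine ⟨n, fun a ha => ?_⟩
  rw [← Submodule.Quotient.mk_smul, Submodule.Quotient.mk_eq_zero, smul_dtι_eq_toDT I f a ha]
  exact ⟨_, rfl⟩

theorem idealTransform_map_toDT_bijective (M : Type u) [AddCommGroup M] [Module R M] :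
    Function.Bijective ((LocCoh.idealTransform I).map (ModuleCat.ofHom (LocCoh.toDT I M))).hom :=
  idealTransform_map_bijective I _ (ker_toDT I M).le (isPowerTorsion_coker_toDT I M)

theorem idealTransform_map_mkQ_bijective (M : Type u) [AddCommGroup M] [Module R M] :
    Function.Bijective
      ((LocCoh.idealTransform I).map (ModuleCat.ofHom (DRing.torsionSub I M).mkQ)).hom := by
  apply idealTransform_map_bijective I
  · rw [Submodule.ker_mkQ]
  · intro q
    refine ⟨0, fun a _ => ?_⟩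
    have : LinearMap.range (DRing.torsionSub I M).mkQ = ⊤ := Submodule.range_mkQ _
    have hq : q = 0 := by
      obtain ⟨x, rfl⟩ := Submodule.Quotient.mk_surjective _ q
      rw [Submodule.Quotient.mk_eq_zero, this]
      exact Submodule.mem_top
    rw [hq, smul_zero]

end Groth.Agent.H58
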