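import Groth.Agent.H58.LCGamma
import Groth.Agent.H58.DT2

set_option autoImplicit false
universe u w
open CategoryTheory CategoryTheory.Limits Opposite

namespace Groth.Agent.H58.LC

variable {R : Type u} [CommRing R] (I : Ideal R)

/-- Artin–Rees: for an ideal `J` of a Noetherian ring, `I^m ⊓ J ≤ I^n * J` for `m` large. -/
theorem exists_pow_inf_le [IsNoetherianRing R] (J : Ideal R) (n : ℕ) :
    ∃ m : ℕ, n ≤ m ∧ I ^ m ⊓ J ≤ I ^ n * J := by
  obtain ⟨k, hk⟩ := Ideal.exists_pow_inf_eq_pow_smul I (J : Submodule R R)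
  refine ⟨n + k, Nat.le_add_right n k, ?_⟩
  have h1 := hk (n + k) (Nat.le_add_left k n)
  rw [Nat.add_sub_cancel] at h1
  have h2 : (I ^ (n + k) • (⊤ : Submodule R R) : Submodule R R) = I ^ (n + k) := by
    rw [Ideal.smul_top_eq_map]; simp
  rw [h2] at h1
  intro x hx
  have hx' : x ∈ (I ^ (n + k) ⊓ J : Submodule R R) := hx
  rw [h1] at hx'
  have h3 : I ^ n • (I ^ k • (⊤ : Submodule R R) ⊓ J) ≤ I ^ n • (J : Submodule R R) :=
    Submodule.smul_mono le_rfl inf_le_right
  exact h3 hx'

/-- Over a Noetherian ring, the `I`-power-torsion submodule of an injective module is injective. -/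
theorem injective_torsionSub [IsNoetherianRing R] (E : Type u) [AddCommGroup E] [Module R E]
    [Module.Injective R E] : Module.Injective R (DRing.torsionSub I E) := by
  apply Module.Baer.injective
  intro J f
  let f' : J →ₗ[R] E := (DRing.torsionSub I E).subtype ∘ₗ f
  have hfg : (LinearMap.range f').FG := by
    rw [LinearMap.range_eq_map]
    exact Submodule.FG.map f' (Submodule.fg_top _ |>.mpr (IsNoetherian.noetherian J))
  obtain ⟨n, hn⟩ := exists_pow_smul_eq_zero_of_fg I (LinearMap.range f') hfg (by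
    rintro p ⟨j, rfl⟩
    exact (f j).2)
  obtain ⟨m, hnm, hm⟩ := exists_pow_inf_le I J n
  -- `f'` kills `I^m ⊓ J`
  have hkill : ∀ (x : R) (hxJ : x ∈ J), x ∈ I ^ m → f' ⟨x, hxJ⟩ = 0 := by
    intro x hxJ hxm
    have hx : x ∈ I ^ n * J := hm ⟨hxm, hxJ⟩
    have key : x ∈ J ∧ ∀ h : x ∈ J, f' ⟨x, h⟩ = 0 := by
      refine Submodule.mul_induction_on hx ?_ ?_
      · intro a ha j hj
        refine ⟨Ideal.mul_mem_left _ _ hj, fun h => ?_⟩
        have : (⟨a * j, h⟩ : J) = a • ⟨j, hj⟩ := rfl
        rw [this, map_smul]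
        exact hn a ha _ ⟨_, rfl⟩
      · rintro x y ⟨hx, hx'⟩ ⟨hy, hy'⟩
        refine ⟨Ideal.add_mem _ hx hy, fun h => ?_⟩
        have : (⟨x + y, h⟩ : J) = ⟨x, hx⟩ + ⟨y, hy⟩ := rfl
        rw [this, map_add, hx' hx, hy' hy, add_zero]
    exact key.2 hxJ
  let N : Submodule R ↥J := Submodule.comap (Submodule.subtype J) (I ^ m : Ideal R)
  have hN : N ≤ LinearMap.ker f' := by
    intro x hx
    rw [LinearMap.mem_ker]
    exact hkill x.1 x.2 hx
  let gbar : (↥J ⧸ N) →ₗ[R] E := N.liftQ f' hN
  let incl : (↥J ⧸ N) →ₗ[R] (R ⧸ I ^ m) := N.mapQ (I ^ m) (Submodule.subtype J) le_rfl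
  have hincl : Function.Injective incl := by
    rw [injective_iff_map_eq_zero]
    intro x hx
    obtain ⟨j, rfl⟩ := Submodule.Quotient.mk_surjective _ x
    rw [Submodule.mapQ_apply, Submodule.Quotient.mk_eq_zero] at hx
    rw [Submodule.Quotient.mk_eq_zero]
    exact hx
  obtain ⟨h, hh⟩ := Module.Injective.out incl hincl gbar
  have hmem : ∀ r : R, h (Submodule.Quotient.mk r) ∈ DRing.torsionSub I E := by
    intro r
    refine ⟨m, fun a ha => ?_⟩
    rw [← map_smul, ← Submodule.Quotient.mk_smul, smul_eq_mul,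
      (Submodule.Quotient.mk_eq_zero _).2 (Ideal.mul_mem_right _ _ ha), map_zero]
  refine ⟨(h ∘ₗ (I ^ m).mkQ).codRestrict _ hmem, fun x mem => ?_⟩
  ext
  change h (Submodule.Quotient.mk x) = f' ⟨x, mem⟩
  have := hh (Submodule.Quotient.mk ⟨x, mem⟩)
  rw [Submodule.mapQ_apply] at this
  rw [show (Submodule.Quotient.mk x : R ⧸ I ^ m) = Submodule.Quotient.mk (J.subtype ⟨x, mem⟩) from rfl,
    this]
  rfl

end Groth.Agent.H58.LC

namespace Groth.Agent.H58.LC
open Groth.Agent.H58.ExtCompare

variable {R : Type u} [CommRing R] (I : Ideal R)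

/-- short exact sequences from linear maps -/
theorem shortExact_of {A B C : Type u} [AddCommGroup A] [Module R A] [AddCommGroup B] [Module R B]
    [AddCommGroup C] [Module R C] (f : A →ₗ[R] B) (g : B →ₗ[R] C) (hf : Function.Injective f)
    (hg : Function.Surjective g) (hfg : Function.Exact f g) :
    (ShortComplex.mk (ModuleCat.ofHom f) (ModuleCat.ofHom g) (by
      ext x
      exact hfg.apply_apply_eq_zero x)).ShortExact :=
  ModuleCat.shortComplex_shortExact _ hfg hf hg

section Shift
variable {S : ShortComplex (ModuleCat.{u} R)} (hS : S.ShortExact)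

include hS in
/-- dimension shifting: if the middle term is injective then `H^{i+2}(X₁)` vanishes when
`H^{i+1}(X₃)` does. -/
theorem subsingleton_succ_of_ses [Injective S.X₂] (i : ℕ)
    (h : Subsingleton ((localCohomology I (i + 1)).obj S.X₃)) :
    Subsingleton ((localCohomology I (i + 1 + 1)).obj S.X₁) := by
  have hE := subsingleton_of_injective I S.X₂ (i + 1)
  refine ⟨fun x y => ?_⟩
  obtain ⟨x₃, rfl⟩ := exact₁ I (i + 1) hS x (Subsingleton.elim _ _)
  obtain ⟨y₃, rfl⟩ := exact₁ I (i + 1) hS y (Subsingleton.elim _ _)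
  rw [Subsingleton.elim x₃ y₃]

include hS in
/-- if the middle term is injective and `Γ_I(X₂) → Γ_I(X₃)` is onto then `H^1(X₁) = 0`. -/
theorem subsingleton_one_of_ses [Injective S.X₂]
    (hsurj : ∀ c : S.X₃, c ∈ DRing.torsionSub I S.X₃ →
      ∃ e : S.X₂, e ∈ DRing.torsionSub I S.X₂ ∧ S.g.hom e = c) :
    Subsingleton ((localCohomology I (0 + 1)).obj S.X₁) := by
  have hE := subsingleton_of_injective I S.X₂ 0
  have key : ∀ x : (localCohomology I (0 + 1)).obj S.X₁, x = 0 := by
    intro x
    obtain ⟨x₃, rfl⟩ := exact₁ I 0 hS x (Subsingleton.elim _ _)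
    obtain ⟨e, he, hec⟩ := hsurj (H0equiv I S.X₃ x₃ : S.X₃) (H0equiv I S.X₃ x₃).2
    have hx₃ : x₃ = ((localCohomology I 0).map S.g).hom ((H0equiv I S.X₂).symm ⟨e, he⟩) := by
      apply (H0equiv I S.X₃).injective
      ext
      rw [H0equiv_map, LinearEquiv.apply_symm_apply]
      exact hec.symm
    rw [hx₃, δ_map_g]
  exact ⟨fun x y => by rw [key x, key y]⟩

end Shift

/-- For a power-torsion module `N` over a Noetherian ring there is a short exact sequence
`0 → N → E → C → 0` with `E` injective and `E`, `C` power-torsion. -/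
theorem exists_torsion_ses [IsNoetherianRing R] (N : Type u) [AddCommGroup N] [Module R N]
    (hN : ∀ x : N, x ∈ DRing.torsionSub I N) :
    ∃ (S : ShortComplex (ModuleCat.{u} R)) (_ : S.ShortExact) (_ : (ModuleCat.of R N) ≅ S.X₁),
      Injective S.X₂ ∧ (∀ e : S.X₂, e ∈ DRing.torsionSub I S.X₂) ∧
        (∀ c : S.X₃, c ∈ DRing.torsionSub I S.X₃) := by
  let E₀ : ModuleCat.{u} R := Injective.under (ModuleCat.of R N)
  let j : N →ₗ[R] E₀ := (Injective.ι (ModuleCat.of R N)).hom
  have hj : Function.Injective j := (ModuleCat.mono_iff_injective _).1 inferInstance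
  have hE₀' : Injective (ModuleCat.of R E₀) :=
    (inferInstance : Injective (Injective.under (ModuleCat.of R N)))
  have hE₀ : Module.Injective R E₀ := Module.injective_module_of_injective_object R E₀
  have hE : Module.Injective R (DRing.torsionSub I E₀) := injective_torsionSub I E₀
  let f : N →ₗ[R] DRing.torsionSub I E₀ :=
    j.codRestrict _ (fun x => DRing.map_mem_torsionSub I j (hN x))
  have hf : Function.Injective f := fun x y h => hj (congrArg Subtype.val h)
  let g := (LinearMap.range f).mkQ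
  have hS := shortExact_of f g hf (Submodule.mkQ_surjective _) (LinearMap.exact_map_mkQ_range f)
  have htE : ∀ e : DRing.torsionSub I E₀, e ∈ DRing.torsionSub I (DRing.torsionSub I E₀) := by
    rintro ⟨e, n, hn⟩
    refine ⟨n, fun a ha => ?_⟩
    ext
    exact hn a ha
  refine ⟨_, hS, Iso.refl _, ?_, htE, ?_⟩
  · exact Module.injective_object_of_injective_module R _
  · intro c
    obtain ⟨e, rfl⟩ := Submodule.mkQ_surjective _ c
    exact DRing.map_mem_torsionSub I g (htE e)

/-- Over a Noetherian ring, `H^i_I` vanishes in positive degrees on `I`-power-torsion modules. -/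
theorem subsingleton_of_isPowerTorsion [IsNoetherianRing R] (i : ℕ) :
    ∀ (N : ModuleCat.{u} R), (∀ x : N, x ∈ DRing.torsionSub I N) →
      Subsingleton ((localCohomology I (i + 1)).obj N) := by
  induction i with
  | zero =>
    intro N hN
    obtain ⟨S, hS, e, hinj, htE, htC⟩ := exists_torsion_ses I N hN
    have := subsingleton_one_of_ses I hS (fun c _ => by
      obtain ⟨x, rfl⟩ := (ModuleCat.epi_iff_surjective _).1 hS.epi_g c
      exact ⟨x, htE x, rfl⟩)
    exact (((localCohomology I (0 + 1)).mapIso e).toLinearEquiv.toEquiv).subsingleton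
  | succ i ih =>
    intro N hN
    obtain ⟨S, hS, e, hinj, htE, htC⟩ := exists_torsion_ses I N hN
    have := subsingleton_succ_of_ses I hS i (ih S.X₃ htC)
    exact (((localCohomology I (i + 1 + 1)).mapIso e).toLinearEquiv.toEquiv).subsingleton

end Groth.Agent.H58.LC
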