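import Mathlib
import Groth.Prelude.Def_Wider

set_option autoImplicit false

namespace Groth.Agent.H58.InjHullQuot

universe u

variable {R : Type u} [CommRing R] (b : Ideal R)

/-- `E[b]` is injective over `R ⧸ b` when `E` is injective over `R`. -/
theorem injective_torsionBySet (E : Type u) [AddCommGroup E] [Module R E]
    [Module.Injective R E] :
    Module.Injective (R ⧸ b) (Submodule.torsionBySet R E (b : Set R)) := by
  apply Module.Baer.injective
  intro J g
  -- pull back to R
  let I : Ideal R := J.comap (Ideal.Quotient.mk b)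
  let gR : I →ₗ[R] E :=
    { toFun := fun x => ((g ⟨Ideal.Quotient.mk b x.1, x.2⟩ : Submodule.torsionBySet R E (b : Set R)) : E)
      map_add' := by
        intro x y
        have : (⟨Ideal.Quotient.mk b (x + y).1, (x + y).2⟩ : J) =
            ⟨Ideal.Quotient.mk b x.1, x.2⟩ + ⟨Ideal.Quotient.mk b y.1, y.2⟩ := by
          ext; simp
        rw [this, map_add]; rfl
      map_smul' := by
        intro r x
        have : (⟨Ideal.Quotient.mk b (r • x).1, (r • x).2⟩ : J) =
            (Ideal.Quotient.mk b r) • ⟨Ideal.Quotient.mk b x.1, x.2⟩ := by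
          ext; simp
        rw [this, map_smul]; rfl }
  obtain ⟨g', hg'⟩ := Module.Baer.of_injective (inferInstance : Module.Injective R E) I gR
  have he : g' 1 ∈ Submodule.torsionBySet R E (b : Set R) := by
    rw [Submodule.mem_torsionBySet_iff]
    rintro ⟨r, hr⟩
    have hrI : r ∈ I := by
      show Ideal.Quotient.mk b r ∈ J
      rw [Ideal.Quotient.eq_zero_iff_mem.2 hr]; exact J.zero_mem
    have h1 : g' r = gR ⟨r, hrI⟩ := hg' r hrI
    have h2 : gR ⟨r, hrI⟩ = 0 := by
      show ((g ⟨Ideal.Quotient.mk b r, _⟩ : Submodule.torsionBySet R E (b : Set R)) : E) = 0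
      have : (⟨Ideal.Quotient.mk b r, hrI⟩ : J) = 0 := by
        ext; exact Ideal.Quotient.eq_zero_iff_mem.2 hr
      rw [this, map_zero]; rfl
    show r • g' 1 = 0
    rw [← map_smul, smul_eq_mul, mul_one, h1, h2]
  refine ⟨LinearMap.toSpanSingleton (R ⧸ b) _ ⟨g' 1, he⟩, ?_⟩
  intro x hx
  obtain ⟨r, rfl⟩ := Ideal.Quotient.mk_surjective x
  rw [LinearMap.toSpanSingleton_apply]
  ext
  have hrI : r ∈ I := hx
  show r • g' 1 = _
  rw [← map_smul, smul_eq_mul, mul_one, hg' r hrI]
  rfl

theorem injHull_quot (M : Type u) [AddCommGroup M] [Module R M] [Module (R ⧸ b) M]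
    [IsScalarTower R (R ⧸ b) M] (E : Type u) [AddCommGroup E] [Module R E] (f : M →ₗ[R] E)
    (hf : InjHull.IsInjectiveHull f) :
    ∃ g : M →ₗ[R ⧸ b] ↥(LocCoh.torsionBy b E), InjHull.IsInjectiveHull g ∧
      ∀ x : M, ((g x : LocCoh.torsionBy b E) : E) = f x := by
  have hmk : ∀ (r : R) (x : M), (Ideal.Quotient.mk b r) • x = r • x := by
    intro r x
    have : (Ideal.Quotient.mk b r) = r • (1 : R ⧸ b) := by
      rw [Algebra.smul_def, mul_one]; rfl
    rw [this, smul_assoc, one_smul]
  have hmem : ∀ x : M, f x ∈ LocCoh.torsionBy b E := by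
    intro x
    rw [Submodule.mem_torsionBySet_iff]
    rintro ⟨r, hr⟩
    show r • f x = 0
    rw [← map_smul, ← hmk, Ideal.Quotient.eq_zero_iff_mem.2 hr, zero_smul, map_zero]
  let g : M →ₗ[R ⧸ b] ↥(LocCoh.torsionBy b E) :=
    { toFun := fun x => ⟨f x, hmem x⟩
      map_add' := fun x y => by ext; simp
      map_smul' := by
        intro q x
        obtain ⟨r, rfl⟩ := Ideal.Quotient.mk_surjective q
        ext
        show f (Ideal.Quotient.mk b r • x) = r • f x
        rw [hmk, map_smul] }
  have := hf.isInjective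
  refine ⟨g, ⟨⟨?_, ?_⟩, injective_torsionBySet b E⟩, fun x => rfl⟩
  · intro x y hxy
    exact hf.injective (congrArg Subtype.val hxy)
  · intro N hN
    -- view N as an R-submodule of E
    let N' : Submodule R E :=
      { carrier := {e | ∃ h : e ∈ LocCoh.torsionBy b E, (⟨e, h⟩ : LocCoh.torsionBy b E) ∈ N}
        add_mem' := by
          rintro x y ⟨hx, hxN⟩ ⟨hy, hyN⟩
          exact ⟨Submodule.add_mem _ hx hy, N.add_mem hxN hyN⟩
        zero_mem' := ⟨Submodule.zero_mem _, N.zero_mem⟩
        smul_mem' := by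
          rintro r x ⟨hx, hxN⟩
          refine ⟨Submodule.smul_mem _ r hx, ?_⟩
          exact N.smul_mem (Ideal.Quotient.mk b r) hxN }
    have hN' : N' ≠ ⊥ := by
      intro h
      apply hN
      rw [eq_bot_iff]
      intro x hx
      have : (x : E) ∈ N' := ⟨x.2, hx⟩
      rw [h, Submodule.mem_bot] at this
      rw [Submodule.mem_bot]
      exact Subtype.ext this
    have hess := hf.essential N' hN'
    obtain ⟨e, he, hene⟩ := Submodule.exists_mem_ne_zero_of_ne_bot hess
    obtain ⟨⟨he1, he2⟩, ⟨x, rfl⟩⟩ := he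
    intro hbot
    have : (⟨f x, he1⟩ : LocCoh.torsionBy b E) ∈ N ⊓ LinearMap.range g := ⟨he2, ⟨x, rfl⟩⟩
    rw [hbot, Submodule.mem_bot] at this
    exact hene (congrArg Subtype.val this)

end Groth.Agent.H58.InjHullQuot
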