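import Groth.Agent.H58.LCFlat

set_option autoImplicit false
set_option linter.unusedSectionVars false
universe u
open CategoryTheory CategoryTheory.Limits Opposite TensorProduct

namespace Groth.Agent.H58.LC
open Groth.Agent.H58 Groth.Agent.H58.ExtCompare

/-- linear version of `exists_addEquiv_of_surjective` -/
theorem exists_linearEquiv_of_surjective {S : Type*} [Ring S] {A' B' A B : Type*}
    [AddCommGroup A'] [AddCommGroup B'] [AddCommGroup A] [AddCommGroup B]
    [Module S A'] [Module S B'] [Module S A] [Module S B]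
    (p' : A' →ₗ[S] B') (p : A →ₗ[S] B)
    (hp' : Function.Surjective p') (hp : Function.Surjective p) (φ₀ : A' ≃ₗ[S] A)
    (h : ∀ x, p' x = 0 ↔ p (φ₀ x) = 0) :
    ∃ φ₁ : B' ≃ₗ[S] B, ∀ x, φ₁ (p' x) = p (φ₀ x) := by
  obtain ⟨φ, hφ⟩ := exists_addEquiv_of_surjective p'.toAddMonoidHom p.toAddMonoidHom hp' hp
    φ₀.toAddEquiv h
  refine ⟨{ φ with
    map_smul' := ?_ }, hφ⟩
  intro s y
  obtain ⟨x, rfl⟩ := hp' y
  have h1 := hφ (s • x)
  have h2 := hφ x
  simp only [LinearMap.toAddMonoidHom_coe, LinearEquiv.coe_toAddEquiv] at h1 h2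
  change φ (s • p' x) = s • φ (p' x)
  rw [← map_smul p' s x, h1, h2]
  change p (φ₀ (s • x)) = s • p (φ₀ x)
  rw [map_smul φ₀, map_smul p]

variable {R : Type u} [CommRing R] [IsNoetherianRing R] {R' : Type u} [CommRing R']
  [Algebra R R'] (I : Ideal R) [Module.Flat R R']
  (M : Type u) [AddCommGroup M] [Module R M]

/-- `R' ⊗ Γ_I(M) → R' ⊗ M` -/
noncomputable def tauBC : R' ⊗[R] ↥(DRing.torsionSub I M) →ₗ[R'] R' ⊗[R] M :=
  LinearMap.baseChange R' (DRing.torsionSub I M).subtype

theorem tauBC_injective : Function.Injective (tauBC (R' := R') I M) := by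
  have := Module.Flat.lTensor_preserves_injective_linearMap (M := R')
    (DRing.torsionSub I M).subtype (Submodule.subtype_injective _)
  rw [← LinearMap.baseChange_eq_ltensor] at this
  exact this

theorem tauBC_mem (t : R' ⊗[R] ↥(DRing.torsionSub I M)) :
    tauBC (R' := R') I M t ∈ DRing.torsionSub (Ideal.map (algebraMap R R') I) (R' ⊗[R] M) := by
  induction t using TensorProduct.induction_on with
  | zero => rw [map_zero]; exact Submodule.zero_mem _
  | add a b ha hb => rw [map_add]; exact Submodule.add_mem _ ha hb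
  | tmul x γ =>
    obtain ⟨n, hn⟩ := γ.2
    refine ⟨n, ?_⟩
    refine forall_mem_map_pow I (P := fun a => a • tauBC (R' := R') I M (x ⊗ₜ γ) = 0) ?_ ?_ ?_ ?_
    · intro r hr
      change algebraMap R R' r • (x ⊗ₜ[R] (γ : M)) = 0
      rw [algebraMap_smul, TensorProduct.smul_tmul', TensorProduct.smul_tmul, hn r hr,
        TensorProduct.tmul_zero]
    · exact zero_smul _ _
    · intro c d hc hd
      rw [add_smul, hc, hd, add_zero]
    · intro c d hd
      rw [mul_smul, hd, smul_zero]

theorem mem_range_tauBC (z : R' ⊗[R] M)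
    (hz : z ∈ DRing.torsionSub (Ideal.map (algebraMap R R') I) (R' ⊗[R] M)) :
    z ∈ LinearMap.range (tauBC (R' := R') I M) := by
  obtain ⟨n, hn⟩ := hz
  haveI : Module.FinitePresentation R (R ⧸ I ^ n) := Module.finitePresentation_of_finite R _
  have hbc := Module.FinitePresentation.isBaseChange_map R (R ⧸ I ^ n) M R'
  have key : ∀ h : R' ⊗[R] (R ⧸ I ^ n) →ₗ[R'] R' ⊗[R] M,
      h (1 ⊗ₜ (Submodule.Quotient.mk 1 : R ⧸ I ^ n)) ∈ LinearMap.range (tauBC (R' := R') I M) := by
    intro h
    refine IsBaseChange.inductionOn hbc h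
      (fun h => h (1 ⊗ₜ (Submodule.Quotient.mk 1 : R ⧸ I ^ n)) ∈
        LinearMap.range (tauBC (R' := R') I M)) ?_ ?_ ?_ ?_
    · exact Submodule.zero_mem _
    · intro f
      have hmem : f (Submodule.Quotient.mk 1) ∈ DRing.torsionSub I M := by
        refine ⟨n, fun r hr => ?_⟩
        rw [← map_smul, ← Submodule.Quotient.mk_smul, smul_eq_mul, mul_one,
          (Submodule.Quotient.mk_eq_zero _).2 hr, map_zero]
      exact ⟨1 ⊗ₜ ⟨f (Submodule.Quotient.mk 1), hmem⟩, rfl⟩
    · intro s h hh
      exact Submodule.smul_mem _ s hh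
    · intro h₁ h₂ hh₁ hh₂
      exact Submodule.add_mem _ hh₁ hh₂
  let ℓ : (R ⧸ I ^ n) →ₗ[R] R' ⊗[R] M :=
    (I ^ n).liftQ (LinearMap.toSpanSingleton R (R' ⊗[R] M) z) (by
      intro r hr
      rw [LinearMap.mem_ker, LinearMap.toSpanSingleton_apply, ← algebraMap_smul R' r z]
      exact hn _ (algebraMap_mem_map_pow I hr))
  have := key (LinearMap.liftBaseChange R' ℓ)
  rw [LinearMap.liftBaseChange_tmul, one_smul] at this
  have hℓ : ℓ (Submodule.Quotient.mk 1) = z := by
    change (I ^ n).liftQ _ _ (Submodule.Quotient.mk 1) = z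
    rw [Submodule.liftQ_apply, LinearMap.toSpanSingleton_apply, one_smul]
  rwa [hℓ] at this

theorem range_tauBC : LinearMap.range (tauBC (R' := R') I M) =
    DRing.torsionSub (Ideal.map (algebraMap R R') I) (R' ⊗[R] M) := by
  apply le_antisymm
  · rintro _ ⟨t, rfl⟩
    exact tauBC_mem I M t
  · exact fun z hz => mem_range_tauBC I M z hz

/-- `R' ⊗ Γ_I(M) ≃ Γ_{IR'}(R' ⊗ M)` -/
noncomputable def gammaBC : R' ⊗[R] ↥(DRing.torsionSub I M) ≃ₗ[R']
    ↥(DRing.torsionSub (Ideal.map (algebraMap R R') I) (R' ⊗[R] M)) :=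
  (LinearEquiv.ofInjective (tauBC (R' := R') I M) (tauBC_injective I M)).trans
    (LinearEquiv.ofEq _ _ (range_tauBC I M))

theorem gammaBC_coe (t : R' ⊗[R] ↥(DRing.torsionSub I M)) :
    ((gammaBC (R' := R') I M t : ↥(DRing.torsionSub (Ideal.map (algebraMap R R') I) (R' ⊗[R] M))) :
      R' ⊗[R] M) = tauBC I M t := rfl

/-- degree-zero flat base change -/
noncomputable def ψ₀ [IsNoetherianRing R'] : R' ⊗[R] LocCoh.H I 0 M ≃ₗ[R']
    LocCoh.H (Ideal.map (algebraMap R R') I) 0 (R' ⊗[R] M) :=
  ((TensorProduct.AlgebraTensorModule.congr (LinearEquiv.refl R' R')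
    (H0equiv I (ModuleCat.of R M))).trans (gammaBC (R' := R') I M)).trans
    (H0equiv (Ideal.map (algebraMap R R') I) (ModuleCat.of R' (R' ⊗[R] M))).symm

theorem H0equiv_ψ₀_tmul [IsNoetherianRing R'] (x : R') (h : LocCoh.H I 0 M) :
    (H0equiv (Ideal.map (algebraMap R R') I) (ModuleCat.of R' (R' ⊗[R] M))
      (ψ₀ (R' := R') I M (x ⊗ₜ h)) : R' ⊗[R] M) =
      x ⊗ₜ (H0equiv I (ModuleCat.of R M) h : M) := by
  unfold ψ₀
  simp only [LinearEquiv.trans_apply, LinearEquiv.apply_symm_apply]
  rw [gammaBC_coe]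
  rfl


theorem ψ₀_naturality [IsNoetherianRing R'] (N : Type u) [AddCommGroup N] [Module R N]
    (g : M →ₗ[R] N) (t : R' ⊗[R] LocCoh.H I 0 M) :
    ψ₀ (R' := R') I N
      (LinearMap.baseChange R' ((localCohomology I 0).map (ModuleCat.ofHom g)).hom t) =
      ((localCohomology (Ideal.map (algebraMap R R') I) 0).map
        (ModuleCat.ofHom (g.baseChange R'))).hom (ψ₀ (R' := R') I M t) := by
  induction t using TensorProduct.induction_on with
  | zero => simp
  | add a b ha hb => rw [map_add, map_add, ha, hb, map_add, map_add]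
  | tmul x h =>
    apply (H0equiv (Ideal.map (algebraMap R R') I) (ModuleCat.of R' (R' ⊗[R] N))).injective
    apply Subtype.ext
    rw [LinearMap.baseChange_tmul, H0equiv_ψ₀_tmul, H0equiv_map, H0equiv_map, H0equiv_ψ₀_tmul]
    rfl

/-- the flat base change property in degree `i` -/
def FBProp [IsNoetherianRing R'] (i : ℕ) : Prop :=
  ∀ (M : Type u) [AddCommGroup M] [Module R M],
    Nonempty (R' ⊗[R] LocCoh.H I i M ≃ₗ[R']
      LocCoh.H (Ideal.map (algebraMap R R') I) i (R' ⊗[R] M))

theorem fbProp_zero [IsNoetherianRing R'] : FBProp (R' := R') I 0 :=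
  fun M _ _ => ⟨ψ₀ I M⟩

theorem fb_step [IsNoetherianRing R'] (i : ℕ)
    (hcase : i = 0 ∨ (∃ k, i = k + 1) ∧ FBProp (R' := R') I i) :
    Nonempty (R' ⊗[R] LocCoh.H I (i + 1) M ≃ₗ[R']
      LocCoh.H (Ideal.map (algebraMap R R') I) (i + 1) (R' ⊗[R] M)) := by
  let E : ModuleCat.{u} R := Injective.under (ModuleCat.of R M)
  let j : M →ₗ[R] E := (Injective.ι (ModuleCat.of R M)).hom
  have hj : Function.Injective j :=
    (ModuleCat.mono_iff_injective (Injective.ι (ModuleCat.of R M))).mp inferInstance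
  haveI : Module.Injective R E :=
    (Module.injective_iff_injective_object R E).mpr (inferInstance : Injective E)
  let C := E ⧸ LinearMap.range j
  let q : E →ₗ[R] C := (LinearMap.range j).mkQ
  have hS := shortExact_of j q hj (Submodule.mkQ_surjective _) (LinearMap.exact_map_mkQ_range j)
  let j' : R' ⊗[R] M →ₗ[R'] R' ⊗[R] E := j.baseChange R'
  let q' : R' ⊗[R] E →ₗ[R'] R' ⊗[R] C := q.baseChange R'
  have hj' : Function.Injective j' := by
    have := Module.Flat.lTensor_preserves_injective_linearMap (M := R') j hj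
    rw [← LinearMap.baseChange_eq_ltensor] at this
    exact this
  have hq' : Function.Surjective q' := by
    have := LinearMap.lTensor_surjective R' (Submodule.mkQ_surjective (LinearMap.range j))
    rw [← LinearMap.baseChange_eq_ltensor] at this
    exact this
  have hex' : Function.Exact j' q' := by
    have := Module.Flat.lTensor_exact R' (LinearMap.exact_map_mkQ_range j)
    rw [← LinearMap.baseChange_eq_ltensor, ← LinearMap.baseChange_eq_ltensor] at this
    exact this
  have hS' := shortExact_of j' q' hj' hq' hex'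
  let I' := Ideal.map (algebraMap R R') I
  have hE1 : Subsingleton ((localCohomology I (i + 1)).obj E) := subsingleton_of_injective I E i
  have hE'1 : Subsingleton ((localCohomology I' (i + 1)).obj (ModuleCat.of R' (R' ⊗[R] E))) :=
    subsingleton_H_baseChange_injective I E i
  have hδsurj := δ_surjective_of_subsingleton I i hS hE1
  have hδ'surj := δ_surjective_of_subsingleton I' i hS' hE'1
  let pT : R' ⊗[R] LocCoh.H I i C →ₗ[R'] R' ⊗[R] LocCoh.H I (i + 1) M :=
    (δ I i hS).baseChange R'
  have hpTsurj : Function.Surjective pT := by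
    have := LinearMap.lTensor_surjective R' hδsurj
    rw [← LinearMap.baseChange_eq_ltensor] at this
    exact this
  obtain ⟨φC, hker⟩ : ∃ φC : R' ⊗[R] LocCoh.H I i C ≃ₗ[R'] LocCoh.H I' i (R' ⊗[R] C),
      ∀ x, pT x = 0 ↔ δ I' i hS' (φC x) = 0 := by
    rcases hcase with rfl | ⟨⟨k, rfl⟩, hi⟩
    · refine ⟨ψ₀ (R' := R') I C, fun x => ?_⟩
      have hexδ : Function.Exact ((localCohomology I 0).map (ModuleCat.ofHom q)).hom
          (δ I 0 hS) := by
        intro y
        rw [δ_eq_zero_iff]
        rfl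
      have hexT := Module.Flat.lTensor_exact R' hexδ
      rw [← LinearMap.baseChange_eq_ltensor, ← LinearMap.baseChange_eq_ltensor] at hexT
      rw [hexT x, δ_eq_zero_iff]
      constructor
      · rintro ⟨x₂, rfl⟩
        exact ⟨ψ₀ (R' := R') I E x₂, (ψ₀_naturality (R' := R') I E C q x₂).symm⟩
      · rintro ⟨y₂, hy₂⟩
        obtain ⟨x₂, rfl⟩ := (ψ₀ (R' := R') I E).surjective y₂
        refine ⟨x₂, ?_⟩
        apply (ψ₀ (R' := R') I C).injective
        rw [ψ₀_naturality (R' := R') I E C q x₂]
        exact hy₂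
    · obtain ⟨φC⟩ := hi C
      refine ⟨φC, fun x => ?_⟩
      have hinj := δ_injective_of_subsingleton I (k + 1) hS (subsingleton_of_injective I E k)
      have hinj' := δ_injective_of_subsingleton I' (k + 1) hS'
        (subsingleton_H_baseChange_injective I E k)
      have hpTinj : Function.Injective pT := by
        have := Module.Flat.lTensor_preserves_injective_linearMap (M := R') _ hinj
        rw [← LinearMap.baseChange_eq_ltensor] at this
        exact this
      constructor
      · intro hx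
        have : x = 0 := hpTinj (hx.trans (map_zero _).symm)
        rw [this, map_zero, map_zero]
      · intro hx
        have h1 : φC x = 0 := hinj' (hx.trans (map_zero _).symm)
        have : x = 0 := φC.injective (h1.trans (map_zero _).symm)
        rw [this, map_zero]
  obtain ⟨φ, -⟩ := exists_linearEquiv_of_surjective pT (δ I' i hS') hpTsurj hδ'surj φC hker
  exact ⟨φ⟩

theorem fbProp [IsNoetherianRing R'] (i : ℕ) : FBProp (R' := R') I i := by
  induction i with
  | zero => exact fbProp_zero I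
  | succ i ih =>
    intro M _ _
    apply fb_step I M i
    cases i with
    | zero => exact Or.inl rfl
    | succ k => exact Or.inr ⟨⟨k, rfl⟩, ih⟩

end Groth.Agent.H58.LC
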