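import Groth.Agent.H58.LCTorsion2

set_option autoImplicit false
set_option linter.unusedSectionVars false
universe u
open CategoryTheory CategoryTheory.Limits Opposite
open scoped Pointwise

namespace Groth.Agent.H58.LC

variable {R : Type u} [CommRing R] (I : Ideal R)

theorem smul_eq_mk₀_comp {X Y : ModuleCat.{u} R} {n : ℕ} (r : R) (e : Abelian.Ext X Y n) :
    r • e = (Abelian.Ext.mk₀ (r • 𝟙 X)).comp e (zero_add n) := by
  rw [Abelian.Ext.mk₀_smul, Abelian.Ext.smul_comp, Abelian.Ext.mk₀_id_comp]

/-- Every element of `H^i_I(M)` is killed by a power of `I`. -/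
theorem isTors_H (i : ℕ) (M : ModuleCat.{u} R) : IsTors I ((localCohomology I i).obj M) := by
  intro x
  obtain ⟨n, e, rfl⟩ := exists_rep I i M x
  refine ⟨n, fun a ha => ?_⟩
  rw [← map_smul, smul_eq_mk₀_comp]
  have : a • 𝟙 (Q I n) = 0 := by
    apply ModuleCat.hom_ext
    apply LinearMap.ext
    intro y
    obtain ⟨r, rfl⟩ := Submodule.Quotient.mk_surjective _ y
    change a • (Submodule.Quotient.mk r : R ⧸ I ^ n) = 0
    rw [← Submodule.Quotient.mk_smul, Submodule.Quotient.mk_eq_zero]
    exact Ideal.mul_mem_right _ _ ha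
  rw [this, Abelian.Ext.mk₀_zero, Abelian.Ext.zero_comp, map_zero]

theorem torsionSub_eq_bot_of_isSMulRegular (M : Type u) [AddCommGroup M] [Module R M] {x : R}
    (hx : x ∈ I) (hreg : IsSMulRegular M x) : DRing.torsionSub I M = ⊥ := by
  rw [eq_bot_iff]
  rintro m ⟨n, hn⟩
  have h1 : x ^ n • m = 0 := hn _ (Ideal.pow_mem_pow hx n)
  have h2 : IsSMulRegular M (x ^ n) := hreg.pow n
  apply h2
  show x ^ n • m = x ^ n • 0
  rw [h1, smul_zero]

theorem subsingleton_H0_of_isSMulRegular (M : Type u) [AddCommGroup M] [Module R M] {x : R}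
    (hx : x ∈ I) (hreg : IsSMulRegular M x) :
    Subsingleton ((localCohomology I 0).obj (ModuleCat.of R M)) := by
  have h := torsionSub_eq_bot_of_isSMulRegular I M hx hreg
  have : Subsingleton (DRing.torsionSub I (ModuleCat.of R M)) := by
    change Subsingleton (DRing.torsionSub I M)
    rw [h]; infer_instance
  exact (H0equiv I (ModuleCat.of R M)).toEquiv.subsingleton

/-- the short exact sequence `0 → M --x--> M → M/xM → 0`. -/
theorem shortExact_smul (M : Type u) [AddCommGroup M] [Module R M] {x : R}
    (hreg : IsSMulRegular M x) :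
    (ShortComplex.mk (ModuleCat.ofHom (LinearMap.lsmul R M x))
      (ModuleCat.ofHom (x • (⊤ : Submodule R M)).mkQ) (by
        apply ModuleCat.hom_ext
        apply LinearMap.ext
        intro m
        change Submodule.Quotient.mk (x • m) = 0
        rw [Submodule.Quotient.mk_eq_zero]
        exact Submodule.smul_mem_pointwise_smul m x ⊤ trivial)).ShortExact := by
  refine shortExact_of (LinearMap.lsmul R M x) (x • (⊤ : Submodule R M)).mkQ hreg
    (Submodule.mkQ_surjective _) ?_
  intro m
  rw [Submodule.mkQ_apply, Submodule.Quotient.mk_eq_zero]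
  constructor
  · intro h
    obtain ⟨m', -, rfl⟩ := (Submodule.mem_smul_pointwise_iff_exists m x ⊤).1 h
    exact ⟨m', rfl⟩
  · rintro ⟨m', rfl⟩
    exact Submodule.smul_mem_pointwise_smul m' x ⊤ trivial

/-- If `x ∈ I` is `M`-regular and `H^i_I(M/xM) = 0` then `H^{i+1}_I(M) = 0`. -/
theorem subsingleton_succ_of_isSMulRegular (M : Type u) [AddCommGroup M] [Module R M] {x : R}
    (hx : x ∈ I) (hreg : IsSMulRegular M x) (i : ℕ)
    (h : Subsingleton ((localCohomology I i).obj (ModuleCat.of R (QuotSMulTop x M)))) :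
    Subsingleton ((localCohomology I (i + 1)).obj (ModuleCat.of R M)) := by
  have hS := shortExact_smul M hreg
  have hinj : ∀ z : (localCohomology I (i + 1)).obj (ModuleCat.of R M), x • z = 0 → z = 0 := by
    intro z hz
    have h1 : ((localCohomology I (i + 1)).map (ModuleCat.ofHom (LinearMap.lsmul R M x))).hom z
        = x • z := by
      have : ModuleCat.ofHom (LinearMap.lsmul R M x) = x • 𝟙 (ModuleCat.of R M) := by
        apply ModuleCat.hom_ext
        apply LinearMap.ext
        intro m; rfl
      rw [this, map_smul', CategoryTheory.Functor.map_id]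
      rfl
    obtain ⟨z₃, rfl⟩ := exact₁ I i hS z (by rw [h1, hz])
    have : z₃ = 0 := Subsingleton.elim (h := h) _ _
    rw [this, map_zero]
  have key : ∀ z : (localCohomology I (i + 1)).obj (ModuleCat.of R M), z = 0 := by
    intro z
    obtain ⟨n, hn⟩ := isTors_H I (i + 1) (ModuleCat.of R M) z
    have h1 : x ^ n • z = 0 := hn _ (Ideal.pow_mem_pow hx n)
    clear hn
    induction n with
    | zero => simpa using h1
    | succ n ih =>
      apply ih
      apply hinj
      rw [← mul_smul, ← pow_succ']
      exact h1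
  exact ⟨fun a b => by rw [key a, key b]⟩

end Groth.Agent.H58.LC
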