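import Groth.Agent.H58.LCCd
import Groth.Agent.H58.LCDepth
import Groth.Agent.S11610

/-!
# Grothendieck's vanishing theorem
-/
set_option autoImplicit false
set_option linter.unusedSectionVars false
universe u
open CategoryTheory CategoryTheory.Limits Opposite

namespace Groth.Agent.H58.LC

variable {R : Type u} [CommRing R] [IsNoetherianRing R] (I : Ideal R)

theorem torsionSub_quotient_eq_bot (M : Type u) [AddCommGroup M] [Module R M] :
    DRing.torsionSub I (M ⧸ DRing.torsionSub I M) = ⊥ := by
  classical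
  rw [eq_bot_iff]
  rintro y ⟨n, hn⟩
  obtain ⟨x, rfl⟩ := Submodule.Quotient.mk_surjective _ y
  rw [Submodule.mem_bot, Submodule.Quotient.mk_eq_zero]
  have h1 : ∀ a ∈ I ^ n, a • x ∈ DRing.torsionSub I M := fun a ha => by
    rw [← Submodule.Quotient.mk_eq_zero, Submodule.Quotient.mk_smul]; exact hn a ha
  obtain ⟨s, hs⟩ : (I ^ n).FG := IsNoetherian.noetherian _
  have h2 : ∀ t : Finset R, (∀ a ∈ t, a ∈ I ^ n) → ∃ m, ∀ a ∈ t, ∀ b ∈ I ^ m, b • a • x = 0 := by
    intro t
    induction t using Finset.induction_on with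
    | empty => exact fun _ => ⟨0, fun a ha => by simp at ha⟩
    | insert a t _ ih =>
      intro ht
      obtain ⟨m, hm⟩ := ih (fun a ha => ht a (Finset.mem_insert_of_mem ha))
      obtain ⟨m', hm'⟩ := h1 a (ht a (Finset.mem_insert_self a t))
      refine ⟨m + m', fun c hc b hb => ?_⟩
      rcases Finset.mem_insert.mp hc with rfl | hc
      · exact hm' b (Ideal.pow_le_pow_right (Nat.le_add_left m' m) hb)
      · exact hm c hc b (Ideal.pow_le_pow_right (Nat.le_add_right m m') hb)
  obtain ⟨m, hm⟩ := h2 s (fun a ha => hs ▸ Submodule.subset_span ha)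
  refine ⟨m + n, fun c hc => ?_⟩
  rw [pow_add] at hc
  refine Submodule.mul_induction_on hc ?_ ?_
  · intro b hb a ha
    rw [mul_smul]
    rw [← hs] at ha
    refine Submodule.span_induction (p := fun a _ => b • a • x = 0) ?_ ?_ ?_ ?_ ha
    · intro a ha; exact hm a ha b hb
    · rw [zero_smul, smul_zero]
    · intro a a' _ _ h h'; rw [add_smul, smul_add, h, h', add_zero]
    · intro r a _ h; rw [smul_eq_mul, mul_smul, smul_comm, h, smul_zero]
  · intro c d hc hd; rw [add_smul, hc, hd, add_zero]

theorem lt_of_add_one_le_of_lt {a b : WithBot ℕ∞} {i : ℕ} (h1 : a + 1 ≤ b)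
    (h2 : b < ((i + 1 : ℕ) : WithBot ℕ∞)) : a < (i : WithBot ℕ∞) := by
  have h3 : a + 1 < ((i + 1 : ℕ) : WithBot ℕ∞) := lt_of_le_of_lt h1 h2
  induction a using WithBot.recBotCoe with
  | bot => exact WithBot.bot_lt_coe _
  | coe a =>
    induction a using ENat.recTopCoe with
    | top =>
      exfalso
      have : ((⊤ : ℕ∞) : WithBot ℕ∞) + 1 = ((⊤ : ℕ∞) : WithBot ℕ∞) := rfl
      rw [this] at h3
      have h4 : ((⊤ : ℕ∞) : WithBot ℕ∞) < (((i + 1 : ℕ) : ℕ∞) : WithBot ℕ∞) := h3
      rw [WithBot.coe_lt_coe] at h4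
      exact not_top_lt h4
    | coe a =>
      have h4 : (((a + 1 : ℕ) : ℕ∞) : WithBot ℕ∞) < (((i + 1 : ℕ) : ℕ∞) : WithBot ℕ∞) := by
        exact_mod_cast h3
      rw [WithBot.coe_lt_coe, Nat.cast_lt] at h4
      have : ((a : ℕ∞) : WithBot ℕ∞) < ((i : ℕ∞) : WithBot ℕ∞) := by
        rw [WithBot.coe_lt_coe, Nat.cast_lt]; omega
      exact this

/-- Grothendieck vanishing for finitely generated modules. -/
theorem gv_fg : ∀ (i : ℕ) (M : Type u) [AddCommGroup M] [Module R M] [Module.Finite R M],
    Module.supportDim R M < (i : WithBot ℕ∞) → Subsingleton (LocCoh.H I i M)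
  | 0, M, _, _, _, h => by
    have h0 : Module.supportDim R M = ⊥ := by
      by_contra hne
      have hne := (Module.supportDim_ne_bot_iff_nontrivial R M).1 hne
      have : (0 : WithBot ℕ∞) ≤ Module.supportDim R M := by
        have : Nonempty (Module.support R M) := Module.nonempty_support_of_nontrivial.to_subtype
        exact Order.krullDim_nonneg
      exact absurd h (not_lt.2 (by exact_mod_cast this))
    have : Subsingleton M := (Module.supportDim_eq_bot_iff_subsingleton R M).1 h0
    exact subsingleton_H_of_subsingleton I (ModuleCat.of R M) 0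
  | i + 1, M, _, _, _, h => by
    have hbij := map_mkQ_torsionSub_bijective I M i
    suffices hs : Subsingleton (LocCoh.H I (i + 1) (M ⧸ DRing.torsionSub I M)) from
      hbij.1.subsingleton
    have htf := torsionSub_quotient_eq_bot I M
    have htf' : DRing.torsionSub (Ideal.map (algebraMap R R) I) (M ⧸ DRing.torsionSub I M) = ⊥ := by
      rw [Algebra.algebraMap_self, Ideal.map_id]; exact htf
    obtain ⟨r, hr, hreg⟩ := Groth.Agent.S11610.result R R I (M ⧸ DRing.torsionSub I M) htf'
    have hreg' : IsSMulRegular (M ⧸ DRing.torsionSub I M) r := hreg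
    have hd1 : Module.supportDim R (QuotSMulTop r (M ⧸ DRing.torsionSub I M)) + 1 ≤
        Module.supportDim R (M ⧸ DRing.torsionSub I M) :=
      Module.supportDim_quotSMulTop_succ_le_of_notMem_minimalPrimes
        (fun _ => hreg'.notMem_of_mem_minimalPrimes)
    have hd2 : Module.supportDim R (M ⧸ DRing.torsionSub I M) ≤ Module.supportDim R M :=
      Module.supportDim_le_of_surjective (DRing.torsionSub I M).mkQ (Submodule.mkQ_surjective _)
    have hd3 := lt_of_add_one_le_of_lt hd1 (lt_of_le_of_lt hd2 h)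
    have ih := gv_fg i (QuotSMulTop r (M ⧸ DRing.torsionSub I M)) hd3
    exact subsingleton_succ_of_isSMulRegular I (M ⧸ DRing.torsionSub I M) hr hreg' i ih

/-- Grothendieck's vanishing theorem. -/
theorem gv (i : ℕ) (M : Type u) [AddCommGroup M] [Module R M]
    (h : Module.supportDim R M < (i : WithBot ℕ∞)) : Subsingleton (LocCoh.H I i M) := by
  apply LCColim.subsingleton_H_of_fg M I i
  intro N hN
  have : Module.Finite R N := Module.Finite.iff_fg.2 hN
  exact gv_fg I i N (lt_of_le_of_lt
    (Module.supportDim_le_of_injective N.subtype (Submodule.injective_subtype _)) h)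

end Groth.Agent.H58.LC
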