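import Groth.Agent.H58.LCLocSeq
import Groth.Agent.H58.LCGV
import Groth.Agent.H58.LCFlat2

/-!
# Top vanishing descends along ideals inside the Jacobson radical
-/
set_option autoImplicit false
set_option linter.unusedSectionVars false
universe u
open CategoryTheory CategoryTheory.Limits Opposite TensorProduct

namespace Groth.Agent.H58.LC

variable {A : Type u} [CommRing A] [IsNoetherianRing A]

theorem ringKrullDim_away_lt (d : ℕ) (hd : ringKrullDim A = d) (f : A)
    (hf : f ∈ (⊥ : Ideal A).jacobson) : ringKrullDim (Localization.Away f) < (d : WithBot ℕ∞) := by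
  by_contra hcon
  rw [not_lt] at hcon
  obtain ⟨l, hl⟩ := Order.le_krullDim_iff.1 hcon
  have hinj := PrimeSpectrum.localization_comap_injective (Localization.Away f)
    (Submonoid.powers f)
  have hmono : StrictMono (PrimeSpectrum.comap (algebraMap A (Localization.Away f))) := by
    apply Monotone.strictMono_of_injective _ hinj
    intro p q hpq
    exact Ideal.comap_mono hpq
  let l' : LTSeries (PrimeSpectrum A) := l.map _ hmono
  have hl' : l'.length = d := hl
  -- the last prime does not contain `f`
  have hlast : f ∉ l'.last.asIdeal := by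
    intro hmem
    have h1 : algebraMap A (Localization.Away f) f ∈ l.last.asIdeal := hmem
    have h2 : IsUnit (algebraMap A (Localization.Away f) f) :=
      IsLocalization.map_units (Localization.Away f)
        (⟨f, Submonoid.mem_powers f⟩ : Submonoid.powers f)
    exact l.last.2.ne_top (Ideal.eq_top_of_isUnit_mem _ h1 h2)
  obtain ⟨m, hm, hle⟩ := Ideal.exists_le_maximal l'.last.asIdeal l'.last.2.ne_top
  have hfm : f ∈ m := (Ideal.mem_sInf.1 hf) ⟨bot_le, hm⟩
  have hlt : l'.last < (⟨m, hm.isPrime⟩ : PrimeSpectrum A) := by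
    refine lt_of_le_of_ne hle ?_
    intro heq
    apply hlast
    rw [heq]
    exact hfm
  have h3 : ((d + 1 : ℕ) : WithBot ℕ∞) ≤ ringKrullDim A := by
    rw [ringKrullDim, Order.le_krullDim_iff]
    exact ⟨l'.snoc ⟨m, hm.isPrime⟩ hlt, by simp [hl']⟩
  rw [hd] at h3
  have : ((d + 1 : ℕ) : WithBot ℕ∞) ≤ ((d : ℕ) : WithBot ℕ∞) := h3
  rw [Nat.cast_le] at this
  omega

/-- every element of `H^d_a(M)` is killed by a power of `f ∈ Jac(A)` when `d = dim A`. -/
theorem exists_pow_smul_eq_zero_top (d : ℕ) (hd : ringKrullDim A = d) (a : Ideal A) (f : A)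
    (hf : f ∈ (⊥ : Ideal A).jacobson) (M : Type u) [AddCommGroup M] [Module A M]
    (x : LocCoh.H a d M) : ∃ n : ℕ, f ^ n • x = 0 := by
  have hN : IsNoetherianRing (Localization.Away f) :=
    IsLocalization.isNoetherianRing (Submonoid.powers f) _ inferInstance
  obtain ⟨e⟩ := fbProp (R' := Localization.Away f) a d M
  have hsub : Subsingleton (LocCoh.H (Ideal.map (algebraMap A (Localization.Away f)) a) d
      (Localization.Away f ⊗[A] M)) := by
    apply gv
    exact lt_of_le_of_lt (Module.supportDim_le_ringKrullDim _ _) (ringKrullDim_away_lt d hd f hf)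
  have hsub' : Subsingleton (Localization.Away f ⊗[A] LocCoh.H a d M) := e.toEquiv.subsingleton
  have hloc : IsLocalizedModule (Submonoid.powers f)
      (TensorProduct.mk A (Localization.Away f) (LocCoh.H a d M) 1) :=
    (isLocalizedModule_iff_isBaseChange (Submonoid.powers f) (Localization.Away f) _).mpr
      (TensorProduct.isBaseChange A (LocCoh.H a d M) (Localization.Away f))
  have h0 : TensorProduct.mk A (Localization.Away f) (LocCoh.H a d M) 1 x = 0 :=
    Subsingleton.elim _ _
  obtain ⟨⟨s, n, rfl⟩, hs⟩ := (IsLocalizedModule.eq_zero_iff (Submonoid.powers f)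
    (TensorProduct.mk A (Localization.Away f) (LocCoh.H a d M) 1)).1 h0
  exact ⟨n, hs⟩

theorem top_vanishing_step (d : ℕ) (hd : ringKrullDim A = d) (a : Ideal A) (f : A)
    (hf : f ∈ (⊥ : Ideal A).jacobson)
    (h : ∀ (M : Type u) [AddCommGroup M] [Module A M] (i : ℕ), d ≤ i →
      Subsingleton (LocCoh.H (a ⊔ Ideal.span {f}) i M))
    (M : Type u) [AddCommGroup M] [Module A M] (i : ℕ) (hi : d ≤ i) :
    Subsingleton (LocCoh.H a i M) := by
  rcases Nat.lt_or_ge d i with h1 | h1
  · apply gv
    refine lt_of_le_of_lt ((Module.supportDim_le_ringKrullDim A M).trans hd.le) ?_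
    exact_mod_cast h1
  · obtain rfl : i = d := by omega
    have key : ∀ x : LocCoh.H a i M, x = 0 := by
      intro x
      obtain ⟨n, hn⟩ := exists_pow_smul_eq_zero_top i hd a f hf M x
      obtain ⟨w, rfl⟩ := (mem_range_HmapOfLE_iff a f
        (CategoryTheory.injectiveResolution (ModuleCat.of A M)) i x).2 ⟨n, hn⟩
      have hw : w = 0 := Subsingleton.elim (h := h M i le_rfl) _ _
      rw [hw, map_zero]
    exact ⟨fun x y => by rw [key x, key y]⟩

theorem top_vanishing_finset (d : ℕ) (hd : ringKrullDim A = d) (I : Ideal A) :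
    ∀ t : Finset A, (∀ x ∈ t, x ∈ (⊥ : Ideal A).jacobson) →
      (∀ (M : Type u) [AddCommGroup M] [Module A M] (i : ℕ), d ≤ i →
        Subsingleton (LocCoh.H (I ⊔ Ideal.span (t : Set A)) i M)) →
      ∀ (M : Type u) [AddCommGroup M] [Module A M] (i : ℕ), d ≤ i →
        Subsingleton (LocCoh.H I i M) := by
  classical
  intro t
  induction t using Finset.induction_on with
  | empty =>
    intro _ h M _ _ i hi
    have := h M i hi
    simpa using this
  | insert f t _ ih =>
    intro ht h
    apply ih (fun x hx => ht x (Finset.mem_insert_of_mem hx))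
    intro M _ _ i hi
    apply top_vanishing_step d hd (I ⊔ Ideal.span (t : Set A)) f (ht f (Finset.mem_insert_self f t))
      _ M i hi
    intro M' _ _ i' hi'
    have := h M' i' hi'
    have heq : I ⊔ Ideal.span ((insert f t : Finset A) : Set A) =
        I ⊔ Ideal.span (t : Set A) ⊔ Ideal.span {f} := by
      rw [Finset.coe_insert, Ideal.span_insert, sup_assoc, sup_comm (Ideal.span (t : Set A))]
    rw [heq] at this
    exact this

theorem top_vanishing_of_le_jacobson (d : ℕ) (hd : ringKrullDim A = d) (I I' : Ideal A)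
    (hII' : I ≤ I') (hJ : I' ≤ (⊥ : Ideal A).jacobson)
    (h : ∀ (M : Type u) [AddCommGroup M] [Module A M] (i : ℕ), d ≤ i →
      Subsingleton (LocCoh.H I' i M))
    (M : Type u) [AddCommGroup M] [Module A M] (i : ℕ) (hi : d ≤ i) :
    Subsingleton (LocCoh.H I i M) := by
  obtain ⟨s, hs⟩ : (I' : Submodule A A).FG := IsNoetherian.noetherian I'
  have hs' : Ideal.span (s : Set A) = I' := hs
  apply top_vanishing_finset d hd I s (fun x hx => hJ (hs' ▸ Ideal.subset_span hx)) _ M i hi
  intro M' _ _ i' hi'
  have heq : I ⊔ Ideal.span (s : Set A) = I' := by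
    rw [hs']; exact sup_eq_right.2 hII'
  rw [heq]
  exact h M' i' hi'

end Groth.Agent.H58.LC
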