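import Groth.Agent.H58.LCFinDim

/-!
# Faltings: finiteness of `H^i_I(M)` for `i ≤ n` iff annihilated by an ideal with `I ⊆ rad J`
-/
set_option autoImplicit false
set_option linter.unusedSectionVars false
universe u
open CategoryTheory CategoryTheory.Limits Opposite

namespace Groth.Agent.H58.LC
open Groth.Agent.H58

variable {R : Type u} [CommRing R]

theorem radKills_of_surjective {b : Ideal R} {X Y : Type u} [AddCommGroup X] [Module R X]
    [AddCommGroup Y] [Module R Y] (f : X →ₗ[R] Y) (hf : Function.Surjective f)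
    (h : RadKills b X) : RadKills b Y := by
  intro r hr
  obtain ⟨k, hk⟩ := h r hr
  refine ⟨k, fun y => ?_⟩
  obtain ⟨x, rfl⟩ := hf y
  rw [← map_smul, hk, map_zero]

theorem radKills_of_injective {b : Ideal R} {X Y : Type u} [AddCommGroup X] [Module R X]
    [AddCommGroup Y] [Module R Y] (f : X →ₗ[R] Y) (hf : Function.Injective f)
    (h : RadKills b Y) : RadKills b X := by
  intro r hr
  obtain ⟨k, hk⟩ := h r hr
  refine ⟨k, fun x => ?_⟩
  apply hf
  rw [map_smul, hk, map_zero]

theorem radKills_of_subsingleton (b : Ideal R) (X : Type u) [AddCommGroup X] [Module R X]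
    [Subsingleton X] : RadKills b X :=
  fun _ _ => ⟨0, fun _ => Subsingleton.elim _ _⟩

variable [IsNoetherianRing R] (I : Ideal R)

theorem finite_H0 (M : Type u) [AddCommGroup M] [Module R M] [Module.Finite R M] :
    Module.Finite R (LocCoh.H I 0 M) := by
  have hN : IsNoetherian R M := isNoetherian_of_isNoetherianRing_of_finite R M
  have : Module.Finite R (DRing.torsionSub I (ModuleCat.of R M)) :=
    Module.Finite.of_fg (IsNoetherian.noetherian (DRing.torsionSub I M))
  exact Module.Finite.equiv (H0equiv I (ModuleCat.of R M)).symm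

theorem subsingleton_H0_quotient (M : Type u) [AddCommGroup M] [Module R M] :
    Subsingleton (LocCoh.H I 0 (M ⧸ DRing.torsionSub I M)) := by
  have : Subsingleton (DRing.torsionSub I (M ⧸ DRing.torsionSub I M)) := by
    rw [torsionSub_quotient_eq_bot]; infer_instance
  exact (H0equiv I (ModuleCat.of R (M ⧸ DRing.torsionSub I M))).toEquiv.subsingleton

theorem radKills_quotient_of (M : Type u) [AddCommGroup M] [Module R M] (i : ℕ)
    (h : RadKills I (LocCoh.H I i M)) : RadKills I (LocCoh.H I i (M ⧸ DRing.torsionSub I M)) := by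
  cases i with
  | zero =>
    have := subsingleton_H0_quotient I M
    exact radKills_of_subsingleton _ _
  | succ i =>
    exact radKills_of_surjective _ (map_mkQ_torsionSub_bijective I M i).2 h

theorem map_lsmul_apply (N : Type u) [AddCommGroup N] [Module R N] (s : R) (i : ℕ)
    (y : LocCoh.H I i N) :
    ((localCohomology I i).map (ModuleCat.ofHom (LinearMap.lsmul R N s))).hom y = s • y := by
  have : ModuleCat.ofHom (LinearMap.lsmul R N s) = s • 𝟙 (ModuleCat.of R N) := by
    apply ModuleCat.hom_ext
    apply LinearMap.ext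
    intro m; rfl
  rw [this, map_smul', CategoryTheory.Functor.map_id]
  rfl

/-- Faltings' criterion, the nontrivial direction -/
theorem finite_H_of_radKills : ∀ (n : ℕ) (M : Type u) [AddCommGroup M] [Module R M]
    [Module.Finite R M], (∀ i : ℕ, i ≤ n → RadKills I (LocCoh.H I i M)) →
    ∀ i : ℕ, i ≤ n → Module.Finite R (LocCoh.H I i M)
  | 0, M, _, _, _, _, i, hi => by
    obtain rfl : i = 0 := by omega
    exact finite_H0 I M
  | n + 1, M, _, _, _, h, i, hi => by
    rcases Nat.lt_or_ge i (n + 1) with h1 | h1
    · exact finite_H_of_radKills n M (fun j hj => h j (by omega)) i (by omega)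
    · obtain rfl : i = n + 1 := by omega
      -- pass to `M' = M/Γ_I(M)`
      have hbij := map_mkQ_torsionSub_bijective I M n
      suffices hfin : Module.Finite R (LocCoh.H I (n + 1) (M ⧸ DRing.torsionSub I M)) from
        Module.Finite.equiv (LinearEquiv.ofBijective _ hbij).symm
      have hrad' : ∀ j : ℕ, j ≤ n + 1 →
          RadKills I (LocCoh.H I j (M ⧸ DRing.torsionSub I M)) :=
        fun j hj => radKills_quotient_of I M j (h j hj)
      have htf := torsionSub_quotient_eq_bot I M
      have htf' : DRing.torsionSub (Ideal.map (algebraMap R R) I) (M ⧸ DRing.torsionSub I M) = ⊥ := by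
        rw [Algebra.algebraMap_self, Ideal.map_id]; exact htf
      obtain ⟨r, hr, hreg⟩ := Groth.Agent.S11610.result R R I (M ⧸ DRing.torsionSub I M) htf'
      have hreg' : IsSMulRegular (M ⧸ DRing.torsionSub I M) r := hreg
      obtain ⟨u, hu⟩ := hrad' (n + 1) le_rfl r hr
      have hsI : r ^ (u + 1) ∈ I := Ideal.pow_mem_of_mem I hr (u + 1) (Nat.succ_pos u)
      have hsreg : IsSMulRegular (M ⧸ DRing.torsionSub I M) (r ^ (u + 1)) := hreg'.pow (u + 1)
      have hskill : ∀ x : LocCoh.H I (n + 1) (M ⧸ DRing.torsionSub I M), r ^ (u + 1) • x = 0 := by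
        intro x
        rw [pow_succ', mul_smul, hu, smul_zero]
      have hS := shortExact_smul (M ⧸ DRing.torsionSub I M) hsreg
      -- radical annihilation for the quotient by `s`
      have hradQ : ∀ j : ℕ, j ≤ n → RadKills I
          (LocCoh.H I j (QuotSMulTop (r ^ (u + 1)) (M ⧸ DRing.torsionSub I M))) := by
        intro j hj
        exact radKills_of_exact _ (δ I j hS) (fun x hx => exact₃ I j hS x hx)
          (hrad' j (by omega)) (hrad' (j + 1) (by omega))
      have hfinQ := finite_H_of_radKills n
        (QuotSMulTop (r ^ (u + 1)) (M ⧸ DRing.torsionSub I M)) hradQ n le_rfl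
      -- `δ` is surjective
      have hsurj : Function.Surjective (δ I n hS) := by
        intro y
        apply exact₁ I n hS y
        exact (map_lsmul_apply I (M ⧸ DRing.torsionSub I M) (r ^ (u + 1)) (n + 1) y).trans
          (hskill y)
      exact Module.Finite.of_surjective (δ I n hS) hsurj

theorem faltings_iff (M : Type u) [AddCommGroup M] [Module R M] [Module.Finite R M] (n : ℕ) :
    (∀ i : ℕ, i ≤ n → Module.Finite R (LocCoh.H I i M)) ↔
      ∃ J : Ideal R, I ≤ J.radical ∧ ∀ i : ℕ, i ≤ n → ∀ a ∈ J, ∀ x : LocCoh.H I i M, a • x = 0 := by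
  constructor
  · intro h
    have key : ∀ m : ℕ, m ≤ n + 1 → ∃ k : ℕ, ∀ i : ℕ, i < m → ∀ a ∈ I ^ k,
        ∀ x : LocCoh.H I i M, a • x = 0 := by
      intro m
      induction m with
      | zero => exact fun _ => ⟨0, fun i hi => by omega⟩
      | succ m ih =>
        intro hm
        obtain ⟨k, hk⟩ := ih (by omega)
        have hfin := h m (by omega)
        obtain ⟨k', hk'⟩ := exists_pow_smul_eq_zero_of_fg I (⊤ : Submodule R (LocCoh.H I m M))
          hfin.fg_top (fun p _ => isTors_H I m (ModuleCat.of R M) p)
        refine ⟨max k k', fun i hi a ha x => ?_⟩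
        rcases Nat.lt_or_ge i m with h1 | h1
        · exact hk i h1 a (Ideal.pow_le_pow_right (le_max_left k k') ha) x
        · obtain rfl : i = m := by omega
          exact hk' a (Ideal.pow_le_pow_right (le_max_right k k') ha) x Submodule.mem_top
    obtain ⟨k, hk⟩ := key (n + 1) le_rfl
    refine ⟨I ^ (k + 1), ?_, fun i hi a ha x => ?_⟩
    · rw [Ideal.radical_pow I (Nat.succ_ne_zero k)]
      exact Ideal.le_radical
    · exact hk i (by omega) a (Ideal.pow_le_pow_right (Nat.le_succ k) ha) x
  · rintro ⟨J, hJ, hkill⟩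
    apply finite_H_of_radKills I n M
    intro i hi r hr
    obtain ⟨k, hk⟩ := hJ hr
    exact ⟨k, fun x => hkill i hi _ hk x⟩

end Groth.Agent.H58.LC
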