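import Groth.Agent.H58.LCIndep

set_option autoImplicit false
set_option linter.unusedSectionVars false
universe u
open CategoryTheory CategoryTheory.Limits Opposite

namespace Groth.Agent.H58.LC
open Groth.Agent.H58 Groth.Agent.H58.ExtCompare

/-- descending an additive equivalence along surjections with matching kernels -/
theorem exists_addEquiv_of_surjective {A' B' A B : Type*} [AddCommGroup A'] [AddCommGroup B']
    [AddCommGroup A] [AddCommGroup B] (p' : A' →+ B') (p : A →+ B)
    (hp' : Function.Surjective p') (hp : Function.Surjective p) (φ₀ : A' ≃+ A)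
    (h : ∀ x, p' x = 0 ↔ p (φ₀ x) = 0) :
    ∃ φ₁ : B' ≃+ B, ∀ x, φ₁ (p' x) = p (φ₀ x) := by
  let F : B' → B := fun y => p (φ₀ (Function.surjInv hp' y))
  have hF : ∀ x, F (p' x) = p (φ₀ x) := by
    intro x
    have h1 : p' (Function.surjInv hp' (p' x) - x) = 0 := by
      rw [map_sub, Function.surjInv_eq hp', sub_self]
    have h2 := (h _).mp h1
    rw [map_sub, map_sub, sub_eq_zero] at h2
    exact h2
  have hadd : ∀ y₁ y₂, F (y₁ + y₂) = F y₁ + F y₂ := by
    intro y₁ y₂
    obtain ⟨x₁, rfl⟩ := hp' y₁
    obtain ⟨x₂, rfl⟩ := hp' y₂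
    rw [← map_add, hF, hF, hF, map_add, map_add]
  let Fh : B' →+ B := AddMonoidHom.mk' F hadd
  have hbij : Function.Bijective Fh := by
    constructor
    · rw [injective_iff_map_eq_zero]
      intro y hy
      obtain ⟨x, rfl⟩ := hp' y
      exact (h x).mpr ((hF x).symm.trans hy)
    · intro b
      obtain ⟨a, rfl⟩ := hp b
      exact ⟨p' (φ₀.symm a), by
        change F (p' (φ₀.symm a)) = p a
        rw [hF, AddEquiv.apply_symm_apply]⟩
  exact ⟨AddEquiv.ofBijective Fh hbij, hF⟩

variable {R : Type u} [CommRing R]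

section DeltaBij
variable (I : Ideal R) (i : ℕ) {S : ShortComplex (ModuleCat.{u} R)} (hS : S.ShortExact)

theorem δ_injective_of_subsingleton (h1 : Subsingleton ((localCohomology I i).obj S.X₂)) :
    Function.Injective (δ I i hS) := by
  rw [injective_iff_map_eq_zero]
  intro x hx
  obtain ⟨x₂, rfl⟩ := exact₃ I i hS x hx
  rw [Subsingleton.elim x₂ 0, map_zero]

theorem δ_surjective_of_subsingleton
    (h2 : Subsingleton ((localCohomology I (i + 1)).obj S.X₂)) :
    Function.Surjective (δ I i hS) := by
  intro y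
  exact exact₁ I i hS y (Subsingleton.elim _ _)

theorem δ_eq_zero_iff (x : (localCohomology I i).obj S.X₃) :
    δ I i hS x = 0 ↔ ∃ x₂, ((localCohomology I i).map S.g).hom x₂ = x := by
  constructor
  · exact exact₃ I i hS x
  · rintro ⟨x₂, rfl⟩
    exact δ_map_g I i hS x₂

end DeltaBij

section Indep
variable [IsNoetherianRing R] {R' : Type u} [CommRing R'] [IsNoetherianRing R'] [Algebra R R']
  (I : Ideal R)

theorem mem_torsionSub_map_iff (N' : Type u) [AddCommGroup N'] [Module R' N'] [Module R N']
    [IsScalarTower R R' N'] (x : N') :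
    x ∈ DRing.torsionSub (Ideal.map (algebraMap R R') I) N' ↔ x ∈ DRing.torsionSub I N' := by
  constructor
  · rintro ⟨n, hn⟩
    refine ⟨n, fun r hr => ?_⟩
    rw [← algebraMap_smul R' r x]
    exact hn _ (algebraMap_mem_map_pow I hr)
  · rintro ⟨n, hn⟩
    refine ⟨n, ?_⟩
    refine forall_mem_map_pow I (P := fun a => a • x = 0) ?_ ?_ ?_ ?_
    · intro r hr
      rw [algebraMap_smul]
      exact hn r hr
    · exact zero_smul _ _
    · intro c d hc hd
      rw [add_smul, hc, hd, add_zero]
    · intro c d hd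
      rw [mul_smul, hd, smul_zero]

/-- `Γ_{IR'}(N') ≃+ Γ_I(N')` (identity on elements) -/
def torsionSubEquiv (N' : Type u) [AddCommGroup N'] [Module R' N'] [Module R N']
    [IsScalarTower R R' N'] :
    DRing.torsionSub (Ideal.map (algebraMap R R') I) N' ≃+ DRing.torsionSub I N' where
  toFun x := ⟨x.1, (mem_torsionSub_map_iff I N' x.1).mp x.2⟩
  invFun x := ⟨x.1, (mem_torsionSub_map_iff I N' x.1).mpr x.2⟩
  left_inv _ := rfl
  right_inv _ := rfl
  map_add' _ _ := rfl

/-- degree-zero comparison -/
noncomputable def φ₀ (N' : Type u) [AddCommGroup N'] [Module R' N'] [Module R N']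
    [IsScalarTower R R' N'] :
    LocCoh.H (Ideal.map (algebraMap R R') I) 0 N' ≃+ LocCoh.H I 0 N' :=
  ((H0equiv (Ideal.map (algebraMap R R') I) (ModuleCat.of R' N')).toAddEquiv.trans
    (torsionSubEquiv I N')).trans (H0equiv I (ModuleCat.of R N')).toAddEquiv.symm

theorem H0equiv_φ₀ (N' : Type u) [AddCommGroup N'] [Module R' N'] [Module R N']
    [IsScalarTower R R' N'] (x : LocCoh.H (Ideal.map (algebraMap R R') I) 0 N') :
    (H0equiv I (ModuleCat.of R N') (φ₀ I N' x) : N') =
      (H0equiv (Ideal.map (algebraMap R R') I) (ModuleCat.of R' N') x : N') := by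
  unfold φ₀
  simp only [AddEquiv.trans_apply]
  have : H0equiv I (ModuleCat.of R N') ((H0equiv I (ModuleCat.of R N')).toAddEquiv.symm
      (torsionSubEquiv I N' ((H0equiv (Ideal.map (algebraMap R R') I)
        (ModuleCat.of R' N')).toAddEquiv x))) =
      torsionSubEquiv I N' ((H0equiv (Ideal.map (algebraMap R R') I)
        (ModuleCat.of R' N')).toAddEquiv x) :=
    (H0equiv I (ModuleCat.of R N')).apply_symm_apply _
  rw [this]
  rfl

theorem φ₀_smul (N' : Type u) [AddCommGroup N'] [Module R' N'] [Module R N']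
    [IsScalarTower R R' N'] (r : R) (x : LocCoh.H (Ideal.map (algebraMap R R') I) 0 N') :
    φ₀ I N' (algebraMap R R' r • x) = r • φ₀ I N' x := by
  apply (H0equiv I (ModuleCat.of R N')).injective
  apply Subtype.ext
  rw [H0equiv_φ₀, map_smul, map_smul]
  change algebraMap R R' r • _ = r • _
  rw [H0equiv_φ₀, algebraMap_smul]

theorem φ₀_naturality (N' P' : Type u) [AddCommGroup N'] [Module R' N'] [Module R N']
    [IsScalarTower R R' N'] [AddCommGroup P'] [Module R' P'] [Module R P']
    [IsScalarTower R R' P'] (g : N' →ₗ[R'] P')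
    (x : LocCoh.H (Ideal.map (algebraMap R R') I) 0 N') :
    φ₀ I P' (((localCohomology (Ideal.map (algebraMap R R') I) 0).map (ModuleCat.ofHom g)).hom x) =
      ((localCohomology I 0).map (ModuleCat.ofHom (g.restrictScalars R))).hom (φ₀ I N' x) := by
  apply (H0equiv I (ModuleCat.of R P')).injective
  apply Subtype.ext
  rw [H0equiv_φ₀, H0equiv_map, H0equiv_map, H0equiv_φ₀]
  rfl


/-- the independence property in degree `i` -/
def IndepProp (i : ℕ) : Prop :=
  ∀ (M' : Type u) [AddCommGroup M'] [Module R' M'] [Module R M'] [IsScalarTower R R' M'],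
    ∃ φ : LocCoh.H (Ideal.map (algebraMap R R') I) i M' ≃+ LocCoh.H I i M',
      ∀ (r : R) (x : LocCoh.H (Ideal.map (algebraMap R R') I) i M'),
        φ (algebraMap R R' r • x) = r • φ x

theorem indepProp_zero : IndepProp (R' := R') I 0 := by
  intro M' _ _ _ _
  exact ⟨φ₀ I M', φ₀_smul I M'⟩

/-- the common inductive step -/
theorem indep_step (i : ℕ) (M' : Type u) [AddCommGroup M'] [Module R' M'] [Module R M']
    [IsScalarTower R R' M']
    (hcase : i = 0 ∨ (∃ k, i = k + 1) ∧ IndepProp (R' := R') I i) :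
    ∃ φ : LocCoh.H (Ideal.map (algebraMap R R') I) (i + 1) M' ≃+ LocCoh.H I (i + 1) M',
      ∀ (r : R) (x : LocCoh.H (Ideal.map (algebraMap R R') I) (i + 1) M'),
        φ (algebraMap R R' r • x) = r • φ x := by
  let E' : ModuleCat.{u} R' := Injective.under (ModuleCat.of R' M')
  let j : M' →ₗ[R'] E' := (Injective.ι (ModuleCat.of R' M')).hom
  have hj : Function.Injective j :=
    (ModuleCat.mono_iff_injective (Injective.ι (ModuleCat.of R' M'))).mp inferInstance
  letI : Module R E' := Module.compHom E' (algebraMap R R')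
  haveI : IsScalarTower R R' E' := IsScalarTower.of_algebraMap_smul (fun r x => rfl)
  haveI : Module.Injective R' E' :=
    (Module.injective_iff_injective_object R' E').mpr (inferInstance : Injective E')
  let C' := E' ⧸ LinearMap.range j
  letI instC : Module R C' := Module.compHom C' (algebraMap R R')
  haveI : IsScalarTower R R' C' := IsScalarTower.of_algebraMap_smul (fun r x => rfl)
  let q : E' →ₗ[R'] C' := (LinearMap.range j).mkQ
  have hS' := shortExact_of j q hj (Submodule.mkQ_surjective _) (LinearMap.exact_map_mkQ_range j)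
  have hS := shortExact_of (j.restrictScalars R) (q.restrictScalars R) hj
    (Submodule.mkQ_surjective _) (LinearMap.exact_map_mkQ_range j)
  let I' := Ideal.map (algebraMap R R') I
  have hE'1 : Subsingleton ((localCohomology I' (i + 1)).obj E') :=
    subsingleton_of_injective I' E' i
  have hE1 : Subsingleton ((localCohomology I (i + 1)).obj (ModuleCat.of R E')) :=
    subsingleton_H_of_injective_baseChange (R' := R') I E' i
  have hδ'surj := δ_surjective_of_subsingleton I' i hS' hE'1
  have hδsurj := δ_surjective_of_subsingleton I i hS hE1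
  -- the degree `i` comparison for `C'` with kernel condition
  obtain ⟨φC, hφC, hker⟩ : ∃ φC : LocCoh.H I' i C' ≃+ LocCoh.H I i C',
      (∀ (r : R) (x : LocCoh.H I' i C'), φC (algebraMap R R' r • x) = r • φC x) ∧
      ∀ x, δ I' i hS' x = 0 ↔ δ I i hS (φC x) = 0 := by
    rcases hcase with rfl | ⟨⟨k, rfl⟩, hi⟩
    · refine ⟨φ₀ (R' := R') I C', φ₀_smul (R' := R') I C', fun x => ?_⟩
      rw [δ_eq_zero_iff, δ_eq_zero_iff]
      constructor
      · rintro ⟨x₂, rfl⟩
        exact ⟨φ₀ (R' := R') I E' x₂, (φ₀_naturality (R' := R') I E' C' q x₂).symm⟩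
      · rintro ⟨y₂, hy₂⟩
        obtain ⟨x₂, rfl⟩ := (φ₀ (R' := R') I E').surjective y₂
        refine ⟨x₂, ?_⟩
        apply (φ₀ (R' := R') I C').injective
        rw [φ₀_naturality (R' := R') I E' C' q x₂]
        exact hy₂
    · obtain ⟨φC, hφC⟩ := hi C'
      refine ⟨φC, hφC, fun x => ?_⟩
      have hinj' := δ_injective_of_subsingleton I' (k + 1) hS' (subsingleton_of_injective I' E' k)
      have hinj := δ_injective_of_subsingleton I (k + 1) hS
        (subsingleton_H_of_injective_baseChange (R' := R') I E' k)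
      constructor
      · intro hx
        have : x = 0 := hinj' (hx.trans (map_zero _).symm)
        rw [this, map_zero, map_zero]
      · intro hx
        have h1 : φC x = 0 := hinj (hx.trans (map_zero _).symm)
        have : x = 0 := φC.injective (h1.trans (map_zero _).symm)
        rw [this, map_zero]
  obtain ⟨φ, hφ⟩ := exists_addEquiv_of_surjective (δ I' i hS').toAddMonoidHom
    (δ I i hS).toAddMonoidHom hδ'surj hδsurj φC hker
  refine ⟨φ, fun r y => ?_⟩
  obtain ⟨x, rfl⟩ := hδ'surj y
  have h1 : algebraMap R R' r • δ I' i hS' x = δ I' i hS' (algebraMap R R' r • x) :=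
    (map_smul _ _ _).symm
  rw [h1]
  have h2 := hφ (algebraMap R R' r • x)
  have h3 := hφ x
  simp only [LinearMap.toAddMonoidHom_coe] at h2 h3
  rw [h2, h3, hφC, map_smul]

theorem indepProp (i : ℕ) : IndepProp (R' := R') I i := by
  induction i with
  | zero => exact indepProp_zero I
  | succ i ih =>
    intro M' _ _ _ _
    apply indep_step I i M'
    cases i with
    | zero => exact Or.inl rfl
    | succ k => exact Or.inr ⟨⟨k, rfl⟩, ih⟩

end Indep

end Groth.Agent.H58.LC
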