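import Groth.Agent.H58.LCCompare
import Groth.Agent.H58.LCFaltings
import Groth.Agent.H58.LCIndep2

/-!
# Non-annihilation of `H^1_a(M)` at an associated prime (Brodmann–Sharp 9.3.5)
-/
set_option autoImplicit false
set_option linter.unusedSectionVars false
universe u
open CategoryTheory CategoryTheory.Limits Opposite Pointwise

namespace Groth.Agent.H58.LC

variable {R : Type u} [CommRing R] [IsNoetherianRing R]

/-- Lemma U: if `u a^m N = 0` then `u` kills `H^{i+1}_a(N)`. -/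
theorem smul_eq_zero_of_smul_pow (a : Ideal R) (N : Type u) [AddCommGroup N] [Module R N]
    (u : R) (m : ℕ) (h : ∀ r ∈ a ^ m, ∀ x : N, (u * r) • x = 0) (i : ℕ)
    (ξ : LocCoh.H a (i + 1) N) : u • ξ = 0 := by
  let f : N →ₗ[R] LinearMap.range (LinearMap.lsmul R N u) := (LinearMap.lsmul R N u).rangeRestrict
  let g : LinearMap.range (LinearMap.lsmul R N u) →ₗ[R] N := (LinearMap.range _).subtype
  have hgf : ModuleCat.ofHom (LinearMap.lsmul R N u) = ModuleCat.ofHom f ≫ ModuleCat.ofHom g := by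
    apply ModuleCat.hom_ext
    apply LinearMap.ext
    intro x
    rfl
  have hsub : Subsingleton ((localCohomology a (i + 1)).obj
      (ModuleCat.of R (LinearMap.range (LinearMap.lsmul R N u)))) := by
    apply subsingleton_of_isPowerTorsion a i
    rintro ⟨x, y, rfl⟩
    refine ⟨m, fun r hr => ?_⟩
    apply Subtype.ext
    change r • (u • y) = 0
    rw [smul_smul, mul_comm]
    exact h r hr y
  rw [← map_lsmul_apply a N u (i + 1) ξ, hgf, Functor.map_comp, ModuleCat.hom_comp,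
    LinearMap.comp_apply,
    Subsingleton.elim (((localCohomology a (i + 1)).map (ModuleCat.ofHom f)).hom ξ) 0, map_zero]

/-- Lemma V: if `Q` is minimal over `J` and `a ≤ Q`, then `u a^m ⊆ J` for some `u ∉ Q`. -/
theorem exists_mul_pow_le_of_mem_minimalPrimes {J Q : Ideal R} (hQ : Q ∈ J.minimalPrimes)
    (a : Ideal R) (ha : a ≤ Q) : ∃ u : R, u ∉ Q ∧ ∃ m : ℕ, ∀ r ∈ a ^ m, u * r ∈ J := by
  haveI : Q.IsPrime := hQ.1.1
  -- the `Q`-saturation of `J`
  let J' : Ideal R :=
    { carrier := {r | ∃ t : R, t ∉ Q ∧ t * r ∈ J}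
      add_mem' := by
        rintro x y ⟨t, ht, hx⟩ ⟨t', ht', hy⟩
        refine ⟨t * t', fun h => ?_, ?_⟩
        · rcases Ideal.IsPrime.mem_or_mem ‹Q.IsPrime› h with h | h
          · exact ht h
          · exact ht' h
        · have : t * t' * (x + y) = t' * (t * x) + t * (t' * y) := by ring
          rw [this]
          exact J.add_mem (J.mul_mem_left _ hx) (J.mul_mem_left _ hy)
      zero_mem' := ⟨1, fun h => (Ideal.IsPrime.ne_top ‹Q.IsPrime›) ((Ideal.eq_top_iff_one Q).2 h),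
        by simp⟩
      smul_mem' := by
        rintro c x ⟨t, ht, hx⟩
        refine ⟨t, ht, ?_⟩
        have : t * (c • x) = c * (t * x) := by rw [smul_eq_mul]; ring
        rw [this]
        exact J.mul_mem_left _ hx }
  have hrad : a ≤ J'.radical := by
    intro g hg
    obtain ⟨t, ht, n, hn⟩ := exists_mul_pow_mem_of_mem_minimalPrimes hQ (ha hg)
    exact ⟨n, t, ht, hn⟩
  obtain ⟨m, hm⟩ := Ideal.exists_pow_le_of_le_radical_of_fg hrad (IsNoetherian.noetherian a)
  obtain ⟨s, hs⟩ : (a ^ m).FG := IsNoetherian.noetherian (a ^ m)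
  -- choose multipliers for the generators
  have hchoose : ∀ c : R, c ∈ a ^ m → ∃ t : R, t ∉ Q ∧ t * c ∈ J := fun c hc => hm hc
  classical
  let tt : R → R := fun c => if hc : c ∈ a ^ m then (hchoose c hc).choose else 1
  have htt1 : ∀ c ∈ s, tt c ∉ Q := by
    intro c hc
    have hc' : c ∈ a ^ m := by rw [← hs]; exact Submodule.subset_span hc
    simp only [tt, dif_pos hc']
    exact (hchoose c hc').choose_spec.1
  have htt2 : ∀ c ∈ s, tt c * c ∈ J := by
    intro c hc
    have hc' : c ∈ a ^ m := by rw [← hs]; exact Submodule.subset_span hc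
    simp only [tt, dif_pos hc']
    exact (hchoose c hc').choose_spec.2
  refine ⟨∏ c ∈ s, tt c, fun h => ?_, m, fun r hr => ?_⟩
  · obtain ⟨c, hc, hcQ⟩ := Ideal.IsPrime.prod_mem_iff.1 h
    exact htt1 c hc hcQ
  · rw [← hs] at hr
    induction hr using Submodule.span_induction with
    | mem c hc =>
      have hc' : c ∈ s := hc
      rw [← Finset.mul_prod_erase s tt hc']
      have : (tt c * ∏ x ∈ s.erase c, tt x) * c = (∏ x ∈ s.erase c, tt x) * (tt c * c) := by ring
      rw [this]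
      exact J.mul_mem_left _ (htt2 c hc')
    | zero => simp
    | add x y _ _ hx hy => rw [mul_add]; exact J.add_mem hx hy
    | smul c x _ hx =>
      have : (∏ c ∈ s, tt c) * (c • x) = c * ((∏ c ∈ s, tt c) * x) := by rw [smul_eq_mul]; ring
      rw [this]
      exact J.mul_mem_left _ hx

section AtQ
variable (a p Q : Ideal R) [hp : p.IsPrime] [hQ : Q.IsPrime]

theorem isSMulRegular_quot (y : R) (hy : y ∉ p) : IsSMulRegular (R ⧸ p) y := by
  intro x x' h
  obtain ⟨r, rfl⟩ := Ideal.Quotient.mk_surjective x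
  obtain ⟨r', rfl⟩ := Ideal.Quotient.mk_surjective x'
  have h1 : Ideal.Quotient.mk p (y * r) = Ideal.Quotient.mk p (y * r') := h
  rw [Ideal.Quotient.eq] at h1 ⊢
  have h2 : y * (r - r') ∈ p := by rw [mul_sub]; exact h1
  rcases Ideal.IsPrime.mem_or_mem hp h2 with h3 | h3
  · exact absurd h3 hy
  · exact h3

variable (hpQ : p ≤ Q) (haQ : a ≤ Q)
  (hmin : ∀ y ∈ Q, y ∉ p → Q ∈ (p ⊔ Ideal.span {y}).minimalPrimes)

include haQ hmin in
/-- the module `(R/p)/y(R/p)` satisfies `u a^m N = 0` for some `u ∉ Q` -/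
theorem exists_kill_quot (y : R) (hy : y ∉ p) :
    ∃ u : R, u ∉ Q ∧ ∃ m : ℕ, ∀ r ∈ a ^ m, ∀ x : QuotSMulTop y (R ⧸ p), (u * r) • x = 0 := by
  by_cases hyQ : y ∈ Q
  · obtain ⟨u, hu, m, hm⟩ := exists_mul_pow_le_of_mem_minimalPrimes (hmin y hyQ hy) a haQ
    refine ⟨u, hu, m, fun r hr x => ?_⟩
    obtain ⟨x', rfl⟩ := Submodule.mkQ_surjective _ x
    obtain ⟨c, rfl⟩ := Ideal.Quotient.mk_surjective x'
    obtain ⟨p', hp', q', hq', hpq⟩ := Submodule.mem_sup.1 (hm r hr)
    obtain ⟨d, rfl⟩ := Ideal.mem_span_singleton'.1 hq'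
    rw [← map_smul, Submodule.mkQ_apply, Submodule.Quotient.mk_eq_zero]
    have h1 : (u * r) • (Ideal.Quotient.mk p c) = y • (Ideal.Quotient.mk p (d * c)) := by
      change Ideal.Quotient.mk p (u * r * c) = Ideal.Quotient.mk p (y * (d * c))
      rw [Ideal.Quotient.eq, ← hpq]
      have : (p' + d * y) * c - y * (d * c) = p' * c := by ring
      rw [this]
      exact p.mul_mem_right _ hp'
    rw [h1]
    exact Submodule.smul_mem_pointwise_smul _ y ⊤ trivial
  · refine ⟨y, hyQ, 0, fun r _ x => ?_⟩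
    obtain ⟨x', rfl⟩ := Submodule.mkQ_surjective _ x
    rw [← map_smul, Submodule.mkQ_apply, Submodule.Quotient.mk_eq_zero, mul_smul]
    exact Submodule.smul_mem_pointwise_smul _ y ⊤ trivial

include haQ hmin in
/-- F1: multiplication by `y ∉ p` on `H^1_a(R/p)` is surjective locally at `Q`. -/
theorem exists_smul_eq_smul (y : R) (hy : y ∉ p) (ξ : LocCoh.H a 1 (R ⧸ p)) :
    ∃ s : R, s ∉ Q ∧ ∃ ξ' : LocCoh.H a 1 (R ⧸ p), s • ξ = y • ξ' := by
  have hreg := isSMulRegular_quot p y hy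
  have hS := shortExact_smul (R ⧸ p) hreg
  obtain ⟨u, hu, m, hm⟩ := exists_kill_quot a p Q haQ hmin y hy
  have h0 := smul_eq_zero_of_smul_pow a (QuotSMulTop y (R ⧸ p)) u m hm 0
    (((localCohomology a 1).map
      (ModuleCat.ofHom (y • (⊤ : Submodule R (R ⧸ p))).mkQ)).hom ξ)
  obtain ⟨ξ', hξ'⟩ := exact₂ a 1 hS (u • ξ) (by rw [map_smul]; exact h0)
  refine ⟨u, hu, ξ', ?_⟩
  rw [← hξ']
  exact map_lsmul_apply a (R ⧸ p) y 1 ξ'

include hpQ haQ hmin in
/-- F3: `H^1_a(R/p)` does not vanish at `Q`. -/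
theorem exists_not_killed (z : R) (hza : z ∈ a) (hzp : z ∉ p) :
    ∃ ξ : LocCoh.H a 1 (R ⧸ p), ∀ s : R, s ∉ Q → s • ξ ≠ 0 := by
  have hreg := isSMulRegular_quot p z hzp
  have hS := shortExact_smul (R ⧸ p) hreg
  obtain ⟨u, hu, m, hm⟩ := exists_kill_quot a p Q haQ hmin z hzp
  let one : QuotSMulTop z (R ⧸ p) := Submodule.Quotient.mk (1 : R ⧸ p)
  have hθ₀ : u • one ∈ DRing.torsionSub a (QuotSMulTop z (R ⧸ p)) :=
    ⟨m, fun r hr => by rw [smul_smul, mul_comm]; exact hm r hr one⟩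
  let θ := (H0equiv a (ModuleCat.of R (QuotSMulTop z (R ⧸ p)))).symm ⟨u • one, hθ₀⟩
  refine ⟨δ a 0 hS θ, fun s hs h0 => ?_⟩
  rw [← map_smul] at h0
  have hinj := δ_injective_of_subsingleton a 0 hS
    (subsingleton_H0_of_isSMulRegular a (R ⧸ p) hza hreg)
  have h1 : s • θ = 0 := hinj (by rw [h0, map_zero])
  have h2 : s • (⟨u • one, hθ₀⟩ : DRing.torsionSub a (QuotSMulTop z (R ⧸ p))) = 0 := by
    have := congrArg (H0equiv a (ModuleCat.of R (QuotSMulTop z (R ⧸ p)))) h1
    rw [map_smul, map_zero, LinearEquiv.apply_symm_apply] at this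
    exact this
  have h3 : s • (u • one) = 0 := congrArg Subtype.val h2
  rw [smul_smul] at h3
  have h4 : (s * u) • (1 : R ⧸ p) ∈ z • (⊤ : Submodule R (R ⧸ p)) := by
    rw [← Submodule.Quotient.mk_eq_zero]
    exact h3
  obtain ⟨x', -, hx'⟩ := (Submodule.mem_smul_pointwise_iff_exists _ z ⊤).1 h4
  obtain ⟨d, rfl⟩ := Ideal.Quotient.mk_surjective x'
  have h5 : Ideal.Quotient.mk p (z * d) = Ideal.Quotient.mk p (s * u) := by
    have : (s * u) • (1 : R ⧸ p) = Ideal.Quotient.mk p (s * u) := by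
      change Ideal.Quotient.mk p (s * u * 1) = _
      rw [mul_one]
    rw [← this]
    exact hx'
  rw [Ideal.Quotient.eq] at h5
  have h6 : s * u ∈ Q := by
    have : s * u = z * d - (z * d - s * u) := by ring
    rw [this]
    exact Q.sub_mem (Q.mul_mem_right _ (haQ hza)) (hpQ h5)
  rcases Ideal.IsPrime.mem_or_mem hQ h6 with h | h
  · exact hs h
  · exact hu h

end AtQ

/-- uniform torsion for finite modules -/
theorem exists_pow_kill_of_finite (a : Ideal R) (N : Type u) [AddCommGroup N] [Module R N]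
    [Module.Finite R N] (h : ∀ x : N, ∃ n : ℕ, ∀ r ∈ a ^ n, r • x = 0) :
    ∃ n : ℕ, ∀ x : N, ∀ r ∈ a ^ n, r • x = 0 := by
  classical
  obtain ⟨s, hs⟩ := (Module.Finite.fg_top : (⊤ : Submodule R N).FG)
  choose nn hnn using h
  refine ⟨s.sup nn, fun x r hr => ?_⟩
  have hx : x ∈ Submodule.span R (s : Set N) := by rw [hs]; trivial
  induction hx using Submodule.span_induction with
  | mem g hg =>
    exact hnn g r (Ideal.pow_le_pow_right (Finset.le_sup (f := nn) hg) hr)
  | zero => exact smul_zero r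
  | add x y _ _ hx hy => rw [smul_add, hx, hy, add_zero]
  | smul c x _ hx => rw [smul_comm, hx, smul_zero]

/-- Brodmann–Sharp 9.3.5 -/
theorem not_le_radical_annihilator_H1 (a b : Ideal R) (M : Type u) [AddCommGroup M] [Module R M]
    [Module.Finite R M] (p : Ideal R) [hp : p.IsPrime] (hpass : p ∈ associatedPrimes R M)
    (hb : ¬ b ≤ p) (hht : ((a ⊔ p).map (Ideal.Quotient.mk p)).height = 1) :
    ¬ b ≤ (Module.annihilator R (LocCoh.H a 1 M)).radical := by
  intro hle
  -- the prime `Q`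
  obtain ⟨Qb, hQb, hQble, hQbh⟩ := Ideal.exists_isPrime_height_eq
    (show ((a ⊔ p).map (Ideal.Quotient.mk p)).height = ((1 : ℕ) : ℕ∞) by rw [hht]; rfl)
  let Q : Ideal R := Qb.comap (Ideal.Quotient.mk p)
  haveI hQ : Q.IsPrime := Ideal.comap_isPrime _ _
  have hsurj : Function.Surjective (Ideal.Quotient.mk p) := Ideal.Quotient.mk_surjective
  have hapQ : a ⊔ p ≤ Q := Ideal.map_le_iff_le_comap.1 hQble
  have hpQ : p ≤ Q := le_sup_right.trans hapQ
  have haQ : a ≤ Q := le_sup_left.trans hapQ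
  have hmin : ∀ y ∈ Q, y ∉ p → Q ∈ (p ⊔ Ideal.span {y}).minimalPrimes := by
    intro y hyQ hyp
    refine ⟨⟨hQ, sup_le hpQ ((Ideal.span_singleton_le_iff_mem Q).2 hyQ)⟩, ?_⟩
    rintro P ⟨hP, hPle⟩ hPQ
    haveI := hP
    have hpP : p ≤ P := le_sup_left.trans hPle
    have hyP : y ∈ P := hPle (Ideal.mem_sup_right (Ideal.mem_span_singleton_self y))
    have hker : RingHom.ker (Ideal.Quotient.mk p) ≤ P := by rw [Ideal.mk_ker]; exact hpP
    haveI hPb : (P.map (Ideal.Quotient.mk p)).IsPrime := Ideal.map_isPrime_of_surjective hsurj hker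
    have hcomapP : (P.map (Ideal.Quotient.mk p)).comap (Ideal.Quotient.mk p) = P := by
      rw [Ideal.comap_map_of_surjective _ hsurj, ← RingHom.ker_eq_comap_bot, sup_eq_left]
      exact hker
    have hPbQb : P.map (Ideal.Quotient.mk p) ≤ Qb := Ideal.map_le_iff_le_comap.2 hPQ
    have hPbne : (⊥ : Ideal (R ⧸ p)) < P.map (Ideal.Quotient.mk p) := by
      refine lt_of_le_of_ne bot_le (fun h => hyp ?_)
      have : Ideal.Quotient.mk p y ∈ P.map (Ideal.Quotient.mk p) := Ideal.mem_map_of_mem _ hyP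
      rw [← h, Ideal.mem_bot] at this
      exact Ideal.Quotient.eq_zero_iff_mem.1 this
    by_contra hnot
    have hlt : P.map (Ideal.Quotient.mk p) < Qb := by
      refine lt_of_le_of_ne hPbQb (fun h => hnot ?_)
      rw [← hcomapP, h]
    have h1 := Ideal.height_add_one_le_of_lt_of_isPrime hPbne
    have h2 := Ideal.height_add_one_le_of_lt_of_isPrime hlt
    rw [hQbh] at h2
    have h3 : (1 : ℕ∞) ≤ (P.map (Ideal.Quotient.mk p)).height := le_trans (by simp) h1
    have h4 : (1 : ℕ∞) + 1 ≤ ((1 : ℕ) : ℕ∞) := le_trans (add_le_add_left h3 1) h2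
    norm_num at h4
  -- an element of `a` outside `p`
  have hanp : ¬ a ≤ p := by
    intro hap
    have : (a ⊔ p).map (Ideal.Quotient.mk p) = ⊥ := by
      rw [sup_eq_right.2 hap, Ideal.map_quotient_self]
    rw [this, Ideal.height_bot] at hht
    exact zero_ne_one hht
  obtain ⟨z, hza, hzp⟩ := Set.not_subset.1 hanp
  -- `b^k` kills `H^1_a(M)`
  obtain ⟨k, hk⟩ := Ideal.exists_pow_le_of_le_radical_of_fg hle (IsNoetherian.noetherian b)
  have hbkp : ¬ b ^ k ≤ p := fun h => hb (Ideal.IsPrime.le_of_pow_le h)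
  obtain ⟨y, hyb, hyp⟩ := Set.not_subset.1 hbkp
  have hykill : ∀ x : LocCoh.H a 1 M, y • x = 0 := fun x => Module.mem_annihilator.1 (hk hyb) x
  -- the embedding `R/p → M`
  obtain ⟨-, j, hj⟩ := (isAssociatedPrime_iff_exists_injective_linearMap p M).1
    (AssociatedPrimes.mem_iff.1 hpass)
  have hS := shortExact_of j (LinearMap.range j).mkQ hj (Submodule.mkQ_surjective _)
    (fun x => by
      rw [Submodule.mkQ_apply, Submodule.Quotient.mk_eq_zero]
      rfl)
  -- uniform torsion of `H^0_a(M/(R/p))`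
  haveI := finite_H0 a (M ⧸ LinearMap.range j)
  obtain ⟨n, hn⟩ := exists_pow_kill_of_finite a (LocCoh.H a 0 (M ⧸ LinearMap.range j))
    (fun x => isTors_H a 0 (ModuleCat.of R (M ⧸ LinearMap.range j)) x)
  -- everything in `H^1_a(R/p)` dies at `Q`
  have hdie : ∀ ξ : LocCoh.H a 1 (R ⧸ p), ∃ s : R, s ∉ Q ∧ s • ξ = 0 := by
    intro ξ
    have hyz : y * z ^ n ∉ p := by
      intro h
      rcases Ideal.IsPrime.mem_or_mem hp h with h | h
      · exact hyp h
      · exact hzp (Ideal.IsPrime.mem_of_pow_mem hp n h)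
    obtain ⟨s, hs, ξ', hξ'⟩ := exists_smul_eq_smul a p Q haQ hmin (y * z ^ n) hyz ξ
    refine ⟨s, hs, ?_⟩
    rw [hξ', mul_comm, mul_smul]
    have h1 : ((localCohomology a 1).map (ModuleCat.ofHom j)).hom (y • ξ') = 0 := by
      rw [map_smul]
      exact hykill _
    obtain ⟨w, hw⟩ := exact₁ a 0 hS (y • ξ') h1
    rw [← hw, ← map_smul, hn w _ (Ideal.pow_mem_pow hza n), map_zero]
  obtain ⟨ξ, hξ⟩ := exists_not_killed a p Q hpQ haQ hmin z hza hzp
  obtain ⟨s, hs, hs0⟩ := hdie ξ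
  exact hξ s hs hs0

end Groth.Agent.H58.LC
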