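import Groth.Agent.H58.LCFaltings
import Groth.Agent.H58.LCAssNonAnnih
import Groth.Agent.S11610

/-!
# Faltings' local-global principle for finiteness of local cohomology
-/
set_option autoImplicit false
set_option linter.unusedSectionVars false
set_option linter.style.haveILetI false
universe u
open CategoryTheory CategoryTheory.Limits Opposite Pointwise

namespace Groth.Agent.H58.LG

open Groth.Agent.H58 Groth.Agent.H58.LC

variable {R : Type u} [CommRing R]

/-- `(0 :_N I)` -/
def annSub (I : Ideal R) (N : Type u) [AddCommGroup N] [Module R N] : Submodule R N where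
  carrier := {ξ | ∀ a ∈ I, a • ξ = 0}
  zero_mem' := fun a _ => smul_zero a
  add_mem' := fun {x y} hx hy a ha => by rw [smul_add, hx a ha, hy a ha, add_zero]
  smul_mem' := fun c x hx a ha => by rw [smul_comm, hx a ha, smul_zero]

theorem mem_annSub {I : Ideal R} {N : Type u} [AddCommGroup N] [Module R N] {ξ : N} :
    ξ ∈ annSub I N ↔ ∀ a ∈ I, a • ξ = 0 := Iff.rfl

/-- `(T :_N I)` -/
def colonSub (I : Ideal R) {N : Type u} [AddCommGroup N] [Module R N] (T : Submodule R N) :
    Submodule R N where
  carrier := {ξ | ∀ a ∈ I, a • ξ ∈ T}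
  zero_mem' := fun a _ => by rw [smul_zero]; exact T.zero_mem
  add_mem' := fun {x y} hx hy a ha => by rw [smul_add]; exact T.add_mem (hx a ha) (hy a ha)
  smul_mem' := fun c x hx a ha => by rw [smul_comm]; exact T.smul_mem c (hx a ha)

variable [IsNoetherianRing R]

/-- if `T` and `(0 :_N I)` are finitely generated then so is `(T :_N I)` -/
theorem colonSub_fg (I : Ideal R) {N : Type u} [AddCommGroup N] [Module R N] (T : Submodule R N)
    (hT : T.FG) (h0 : (annSub I N).FG) : (colonSub I T).FG := by
  classical
  obtain ⟨s, hs⟩ : (I : Submodule R R).FG := IsNoetherian.noetherian I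
  let f : N →ₗ[R] (s → N) := LinearMap.pi (fun a : s => LinearMap.lsmul R N a.1)
  apply Submodule.fg_of_fg_map_of_fg_inf_ker f
  · have hP : (Submodule.pi Set.univ (fun _ : s => T)).FG := Submodule.fg_pi (fun _ => hT)
    refine Submodule.FG.of_le hP ?_
    rintro _ ⟨h, hh, rfl⟩ a _
    exact hh a.1 (by rw [← hs]; exact Submodule.subset_span a.2)
  · refine Submodule.FG.of_le h0 ?_
    rintro h ⟨-, hker⟩ a ha
    have hker' : ∀ b : s, b.1 • h = 0 := fun b => congrFun hker b
    have ha' : a ∈ Submodule.span R (s : Set R) := by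
      have : Submodule.span R (s : Set R) = I := hs
      rw [this]; exact ha
    clear ha
    induction ha' using Submodule.span_induction with
    | mem x hx => exact hker' ⟨x, hx⟩
    | zero => exact zero_smul _ _
    | add x y _ _ hx hy => rw [add_smul, hx, hy, add_zero]
    | smul c x _ hx => rw [smul_assoc, hx, smul_zero]

/-- the middle term of an exact sequence with finitely generated ends is finitely generated -/
theorem finite_of_exact {A B C : Type u} [AddCommGroup A] [Module R A] [AddCommGroup B]
    [Module R B] [AddCommGroup C] [Module R C] (f : A →ₗ[R] B) (g : B →ₗ[R] C)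
    (hex : ∀ b, g b = 0 → ∃ a, f a = b) [Module.Finite R A] [Module.Finite R C] :
    Module.Finite R B := by
  refine ⟨?_⟩
  apply Submodule.fg_of_fg_map_of_fg_inf_ker g
  · have hC : IsNoetherian R C := isNoetherian_of_isNoetherianRing_of_finite R C
    exact IsNoetherian.noetherian _
  · rw [top_inf_eq]
    have : LinearMap.ker g ≤ LinearMap.range f := fun b hb => hex b hb
    have hr : (LinearMap.range f).FG := by
      rw [LinearMap.range_eq_map]
      exact Submodule.FG.map f Module.Finite.fg_top
    exact Submodule.FG.of_le hr this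

/-- Brodmann–Lashgari: if `H^i_I(M)` is finitely generated for all `i < n` then `(0 :_{H^n_I(M)} I)`
is finitely generated. -/
theorem annSub_H_fg (I : Ideal R) : ∀ (n : ℕ) (M : Type u) [AddCommGroup M] [Module R M]
    [Module.Finite R M], (∀ i : ℕ, i < n → Module.Finite R (LocCoh.H I i M)) →
    (annSub I (LocCoh.H I n M)).FG
  | 0, M, _, _, _, _ => by
    haveI := finite_H0 I M
    have hN : IsNoetherian R (LocCoh.H I 0 M) := isNoetherian_of_isNoetherianRing_of_finite R _
    exact IsNoetherian.noetherian _
  | n + 1, M, _, _, _, h => by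
    have hbij := fun k => map_mkQ_torsionSub_bijective I M k
    -- reduce to `M' = M / Γ_I(M)`
    suffices h' : (annSub I (LocCoh.H I (n + 1) (M ⧸ DRing.torsionSub I M))).FG by
      let e := LinearEquiv.ofBijective _ (hbij n)
      apply Submodule.fg_of_fg_map_injective e.toLinearMap e.injective
      refine Submodule.FG.of_le h' ?_
      rintro _ ⟨ξ, hξ, rfl⟩ a ha
      have : a • e.toLinearMap ξ = e.toLinearMap (a • ξ) := (map_smul _ _ _).symm
      rw [this, hξ a ha, map_zero]
    -- finiteness hypotheses for `M'`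
    have hfin' : ∀ i : ℕ, i < n + 1 →
        Module.Finite R (LocCoh.H I i (M ⧸ DRing.torsionSub I M)) := by
      intro i hi
      cases i with
      | zero =>
        haveI := subsingleton_H0_quotient I M
        exact ⟨⟨∅, by rw [Finset.coe_empty, Submodule.span_empty]; exact Subsingleton.elim _ _⟩⟩
      | succ k =>
        haveI := h (k + 1) hi
        exact Module.Finite.equiv (LinearEquiv.ofBijective _ (hbij k))
    have htf := torsionSub_quotient_eq_bot I M
    have htf' : DRing.torsionSub (Ideal.map (algebraMap R R) I) (M ⧸ DRing.torsionSub I M) = ⊥ := by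
      rw [Algebra.algebraMap_self, Ideal.map_id]; exact htf
    obtain ⟨x, hxI, hreg⟩ := Groth.Agent.S11610.result R R I (M ⧸ DRing.torsionSub I M) htf'
    have hreg' : IsSMulRegular (M ⧸ DRing.torsionSub I M) x := hreg
    have hS := shortExact_smul (M ⧸ DRing.torsionSub I M) hreg'
    -- finiteness hypotheses for `M'' = M'/xM'`
    have hfin'' : ∀ i : ℕ, i < n →
        Module.Finite R (LocCoh.H I i (QuotSMulTop x (M ⧸ DRing.torsionSub I M))) := by
      intro i hi
      haveI := hfin' i (by omega)
      haveI := hfin' (i + 1) (by omega)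
      exact finite_of_exact ((localCohomology I i).map (ModuleCat.ofHom
        (x • (⊤ : Submodule R (M ⧸ DRing.torsionSub I M))).mkQ)).hom (δ I i hS)
        (fun b hb => exact₃ I i hS b hb)
    have ih := annSub_H_fg I n (QuotSMulTop x (M ⧸ DRing.torsionSub I M)) hfin''
    -- the image `T` of `H^n(M') → H^n(M'')`
    haveI := hfin' n (by omega)
    let gmap := ((localCohomology I n).map (ModuleCat.ofHom
        (x • (⊤ : Submodule R (M ⧸ DRing.torsionSub I M))).mkQ)).hom
    have hT : (LinearMap.range gmap).FG := by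
      rw [LinearMap.range_eq_map]
      exact Submodule.FG.map _ Module.Finite.fg_top
    have hW := colonSub_fg I (LinearMap.range gmap) hT ih
    refine Submodule.FG.of_le (Submodule.FG.map (δ I n hS) hW) ?_
    intro ξ hξ
    have hxξ : ((localCohomology I (n + 1)).map (ModuleCat.ofHom
        (LinearMap.lsmul R (M ⧸ DRing.torsionSub I M) x))).hom ξ = 0 :=
      (map_lsmul_apply I (M ⧸ DRing.torsionSub I M) x (n + 1) ξ).trans (hξ x hxI)
    obtain ⟨η, hη⟩ := exact₁ I n hS ξ hxξ
    refine ⟨η, ?_, hη⟩
    intro a ha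
    have h1 : δ I n hS (a • η) = 0 := by
      rw [map_smul, hη, hξ a ha]
    exact exact₃ I n hS (a • η) h1

/-- local uniform annihilation from finiteness of the localization -/
theorem exists_pow_kill_at (I : Ideal R) (H : Type u) [AddCommGroup H] [Module R H]
    (htors : ∀ ξ : H, ∃ n : ℕ, ∀ a ∈ I ^ n, a • ξ = 0) (p : Ideal R) [p.IsPrime]
    [hfin : Module.Finite (Localization.AtPrime p) (LocalizedModule p.primeCompl H)] :
    ∃ k : ℕ, ∀ ξ : H, ∀ a ∈ I ^ k, ∃ s ∈ p.primeCompl, s • a • ξ = 0 := by
  classical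
  obtain ⟨T, hT⟩ := (Module.Finite.fg_top :
    (⊤ : Submodule (Localization.AtPrime p) (LocalizedModule p.primeCompl H)).FG)
  -- each generator is killed by a power of `I`
  have hgen : ∀ g : LocalizedModule p.primeCompl H, ∃ n : ℕ, ∀ a ∈ I ^ n, a • g = 0 := by
    intro g
    induction g using LocalizedModule.induction_on with
    | h ξ s =>
      obtain ⟨n, hn⟩ := htors ξ
      refine ⟨n, fun a ha => ?_⟩
      rw [LocalizedModule.smul'_mk, hn a ha, LocalizedModule.zero_mk]
  choose nn hnn using hgen
  refine ⟨T.sup nn, fun ξ a ha => ?_⟩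
  have hall : ∀ y : LocalizedModule p.primeCompl H, a • y = 0 := by
    intro y
    have hy : y ∈ Submodule.span (Localization.AtPrime p) (T : Set (LocalizedModule p.primeCompl H)) := by
      rw [hT]; trivial
    induction hy using Submodule.span_induction with
    | mem g hg => exact hnn g a (Ideal.pow_le_pow_right (Finset.le_sup (f := nn) hg) ha)
    | zero => exact smul_zero a
    | add x y _ _ hx hy => rw [smul_add, hx, hy, add_zero]
    | smul c x _ hx => rw [smul_comm, hx, smul_zero]
  have h1 := hall (LocalizedModule.mk ξ 1)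
  rw [LocalizedModule.smul'_mk, ← LocalizedModule.zero_mk (1 : p.primeCompl),
    LocalizedModule.mk_eq] at h1
  obtain ⟨u, hu⟩ := h1
  refine ⟨u.1, u.2, ?_⟩
  rw [one_smul, one_smul, smul_zero] at hu
  exact hu

/-- an `I`-torsion module with `(0 :_H I)` finitely generated whose localizations are all finitely
generated is killed by a power of `I` -/
theorem exists_pow_kill (I : Ideal R) (H : Type u) [AddCommGroup H] [Module R H]
    (htors : ∀ ξ : H, ∃ n : ℕ, ∀ a ∈ I ^ n, a • ξ = 0) (hK : (annSub I H).FG)
    (hloc : ∀ (p : Ideal R) [p.IsPrime],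
      Module.Finite (Localization.AtPrime p) (LocalizedModule p.primeCompl H)) :
    ∃ k : ℕ, ∀ ξ : H, ∀ a ∈ I ^ k, a • ξ = 0 := by
  classical
  haveI : Module.Finite R (annSub I H) := Module.Finite.iff_fg.mpr hK
  have hAfin : (associatedPrimes R (annSub I H)).Finite := associatedPrimes.finite R _
  have hex : ∀ P : Ideal R, ∃ k : ℕ, P.IsPrime → ∀ ξ : H, ∀ a ∈ I ^ k,
      ∃ s : R, s ∉ P ∧ s • a • ξ = 0 := by
    intro P
    by_cases hP : P.IsPrime
    · haveI := hloc P
      obtain ⟨k, hk⟩ := exists_pow_kill_at I H htors P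
      exact ⟨k, fun _ ξ a ha => by
        obtain ⟨s, hs, h0⟩ := hk ξ a ha
        exact ⟨s, hs, h0⟩⟩
    · exact ⟨0, fun h => absurd h hP⟩
  choose kk hkk using hex
  refine ⟨hAfin.toFinset.sup kk, fun ξ a ha => ?_⟩
  by_contra hne
  -- an associated prime of the cyclic module generated by `a • ξ`
  haveI : Nontrivial (Submodule.span R {a • ξ}) :=
    ⟨⟨⟨a • ξ, Submodule.mem_span_singleton_self _⟩, 0, fun h => hne (congrArg Subtype.val h)⟩⟩
  obtain ⟨P, hP⟩ := associatedPrimes.nonempty R (Submodule.span R {a • ξ})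
  have hPass := isAssociatedPrime_iff.mp (AssociatedPrimes.mem_iff.mp hP)
  obtain ⟨hPprime, ⟨y, hy⟩, hPy⟩ := hPass
  obtain ⟨r, rfl⟩ := Submodule.mem_span_singleton.mp hy
  have hann : ∀ c : R, c ∈ P ↔ c • r • a • ξ = 0 := by
    intro c
    rw [hPy, Submodule.mem_colon_singleton, Submodule.mem_bot]
    constructor
    · intro h
      exact congrArg Subtype.val h
    · intro h
      exact Subtype.ext h
  have hy0 : r • a • ξ ≠ 0 := by
    intro h0
    have : (1 : R) ∈ P := (hann 1).mpr (by rw [one_smul, h0])
    exact hPprime.ne_top ((Ideal.eq_top_iff_one P).mpr this)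
  -- `I ≤ P`
  have hIP : I ≤ P := by
    obtain ⟨t, ht⟩ := htors (r • a • ξ)
    have : I ^ t ≤ P := fun c hc => (hann c).mpr (ht c hc)
    exact hPprime.le_of_pow_le this
  -- so `y ∈ K` and `P ∈ Ass K`
  have hyK : r • a • ξ ∈ annSub I H := fun c hc => (hann c).mp (hIP hc)
  have hPK : P ∈ associatedPrimes R (annSub I H) := by
    rw [AssociatedPrimes.mem_iff, isAssociatedPrime_iff]
    refine ⟨hPprime, ⟨r • a • ξ, hyK⟩, ?_⟩
    ext c
    rw [hann c, Submodule.mem_colon_singleton, Submodule.mem_bot]
    constructor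
    · intro h
      exact Subtype.ext h
    · intro h
      exact congrArg Subtype.val h
  have hle : kk P ≤ hAfin.toFinset.sup kk := Finset.le_sup (hAfin.mem_toFinset.mpr hPK)
  obtain ⟨s, hsP, hs0⟩ := hkk P hPprime (r • ξ) a (Ideal.pow_le_pow_right hle ha)
  apply hsP
  rw [hann s, smul_comm r a ξ]
  exact hs0

theorem radKills_of_pow_kill (I : Ideal R) (H : Type u) [AddCommGroup H] [Module R H]
    (h : ∃ k : ℕ, ∀ ξ : H, ∀ a ∈ I ^ k, a • ξ = 0) : RadKills I H := by
  obtain ⟨k, hk⟩ := h
  intro r hr
  exact ⟨k, fun x => hk x _ (Ideal.pow_mem_pow hr k)⟩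

/-- Faltings' local-global principle -/
theorem localGlobal (I : Ideal R) (M : Type u) [AddCommGroup M] [Module R M] [Module.Finite R M] :
    ∀ n : ℕ, (∀ (p : Ideal R) [p.IsPrime], ∀ i : ℕ, i ≤ n →
      Module.Finite (Localization.AtPrime p) (LocalizedModule p.primeCompl (LocCoh.H I i M))) →
    ∀ i : ℕ, i ≤ n → Module.Finite R (LocCoh.H I i M)
  | 0, _, i, hi => by
    obtain rfl : i = 0 := by omega
    exact finite_H0 I M
  | n + 1, h, i, hi => by
    have ih := localGlobal I M n (fun p _ i hi => h p i (by omega))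
    rcases Nat.lt_or_ge i (n + 1) with hlt | hge
    · exact ih i (by omega)
    obtain rfl : i = n + 1 := by omega
    have hK := annSub_H_fg I (n + 1) M (fun i hi => ih i (by omega))
    have htors : ∀ ξ : LocCoh.H I (n + 1) M, ∃ t : ℕ, ∀ a ∈ I ^ t, a • ξ = 0 :=
      fun ξ => isTors_H I (n + 1) (ModuleCat.of R M) ξ
    have hkill := exists_pow_kill I (LocCoh.H I (n + 1) M) htors hK
      (fun p _ => h p (n + 1) le_rfl)
    have hrad : ∀ j : ℕ, j ≤ n + 1 → RadKills I (LocCoh.H I j M) := by
      intro j hj
      rcases Nat.lt_or_ge j (n + 1) with hlt | hge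
      · haveI := ih j (by omega)
        exact radKills_of_pow_kill I _ (exists_pow_kill_of_finite I (LocCoh.H I j M)
          (fun x => isTors_H I j (ModuleCat.of R M) x))
      · obtain rfl : j = n + 1 := by omega
        exact radKills_of_pow_kill I _ hkill
    exact finite_H_of_radKills I (n + 1) M hrad (n + 1) le_rfl

theorem localGlobal_iff (I : Ideal R) (M : Type u) [AddCommGroup M] [Module R M]
    [Module.Finite R M] (n : ℕ) :
    (∀ i : ℕ, i ≤ n → Module.Finite R (LocCoh.H I i M)) ↔
      ∀ (p : Ideal R) [p.IsPrime], ∀ i : ℕ, i ≤ n →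
        Module.Finite (Localization.AtPrime p) (LocalizedModule p.primeCompl (LocCoh.H I i M)) := by
  constructor
  · intro h p _ i hi
    haveI := h i hi
    infer_instance
  · exact localGlobal I M n

end Groth.Agent.H58.LG
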