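import Groth.Agent.H58.LCColim3
import Groth.Agent.H58.LCTorsion

/-!
# Cohomological dimension is detected on the ring
-/
set_option autoImplicit false
set_option linter.unusedSectionVars false
universe u
open CategoryTheory CategoryTheory.Limits Opposite

namespace Groth.Agent.H58.LC

variable {R : Type u} [CommRing R] (I : Ideal R)

section ses
variable {S : ShortComplex (ModuleCat.{u} R)} (hS : S.ShortExact)

include hS in
theorem subsingleton_mid (i : ℕ) (h₁ : Subsingleton ((localCohomology I i).obj S.X₁))
    (h₃ : Subsingleton ((localCohomology I i).obj S.X₃)) :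
    Subsingleton ((localCohomology I i).obj S.X₂) := by
  refine ⟨fun x y => ?_⟩
  obtain ⟨x₁, rfl⟩ := exact₂ I i hS x (Subsingleton.elim _ _)
  obtain ⟨y₁, rfl⟩ := exact₂ I i hS y (Subsingleton.elim _ _)
  rw [Subsingleton.elim x₁ y₁]

include hS in
theorem subsingleton_right (i : ℕ) (h₂ : Subsingleton ((localCohomology I i).obj S.X₂))
    (h₁ : Subsingleton ((localCohomology I (i + 1)).obj S.X₁)) :
    Subsingleton ((localCohomology I i).obj S.X₃) := by
  refine ⟨fun x y => ?_⟩
  obtain ⟨x₂, rfl⟩ := exact₃ I i hS x (Subsingleton.elim _ _)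
  obtain ⟨y₂, rfl⟩ := exact₃ I i hS y (Subsingleton.elim _ _)
  rw [Subsingleton.elim x₂ y₂]

include hS in
theorem subsingleton_left (i : ℕ) (h₃ : Subsingleton ((localCohomology I i).obj S.X₃))
    (h₂ : Subsingleton ((localCohomology I (i + 1)).obj S.X₂)) :
    Subsingleton ((localCohomology I (i + 1)).obj S.X₁) := by
  refine ⟨fun x y => ?_⟩
  obtain ⟨x₃, rfl⟩ := exact₁ I i hS x (Subsingleton.elim _ _)
  obtain ⟨y₃, rfl⟩ := exact₁ I i hS y (Subsingleton.elim _ _)
  rw [Subsingleton.elim x₃ y₃]

end ses

theorem subsingleton_H_of_subsingleton (M : ModuleCat.{u} R) [Subsingleton M] (i : ℕ) :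
    Subsingleton ((localCohomology I i).obj M) := by
  have h0 : (𝟙 M : M ⟶ M) = 0 := by
    ext x; exact Subsingleton.elim _ _
  have key : ∀ x : (localCohomology I i).obj M, x = 0 := by
    intro x
    have h1 : ((localCohomology I i).map (𝟙 M)).hom x = x := by
      rw [CategoryTheory.Functor.map_id]; rfl
    rw [← h1, h0, map_zero']
  exact ⟨fun x y => by rw [key x, key y]⟩

theorem subsingleton_H_of_linearEquiv {M N : Type u} [AddCommGroup M] [Module R M]
    [AddCommGroup N] [Module R N] (e : M ≃ₗ[R] N) (i : ℕ) (h : Subsingleton (LocCoh.H I i M)) :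
    Subsingleton (LocCoh.H I i N) :=
  (((localCohomology I i).mapIso e.toModuleIso).symm.toLinearEquiv.toEquiv).subsingleton

theorem subsingleton_H_prod (M N : Type u) [AddCommGroup M] [Module R M]
    [AddCommGroup N] [Module R N] (i : ℕ) (hM : Subsingleton (LocCoh.H I i M))
    (hN : Subsingleton (LocCoh.H I i N)) : Subsingleton (LocCoh.H I i (M × N)) := by
  have hex : Function.Exact (LinearMap.inl R M N) (LinearMap.snd R M N) := by
    intro x
    constructor
    · intro hx
      exact ⟨x.1, Prod.ext rfl (by simpa using hx.symm)⟩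
    · rintro ⟨y, rfl⟩
      simp
  exact subsingleton_mid I (shortExact_of (LinearMap.inl R M N) (LinearMap.snd R M N)
    LinearMap.inl_injective LinearMap.snd_surjective hex) i hM hN

theorem subsingleton_H_pi_fin (i : ℕ) (h : Subsingleton (LocCoh.H I i R)) :
    ∀ k : ℕ, Subsingleton (LocCoh.H I i (Fin k → R))
  | 0 => subsingleton_H_of_subsingleton I (ModuleCat.of R (Fin 0 → R)) i
  | k + 1 => subsingleton_H_of_linearEquiv I (Fin.consLinearEquiv R (fun _ : Fin (k + 1) => R)) i
      (subsingleton_H_prod I R (Fin k → R) i h (subsingleton_H_pi_fin i h k))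

variable [IsNoetherianRing R]

theorem cdLE_step (d e : ℕ) (hde : d ≤ e) (h : ∀ i : ℕ, d < i → Subsingleton (LocCoh.H I i R))
    (hc : LocCoh.CdLE R I (e + 1)) : LocCoh.CdLE R I e := by
  intro M _ _ i hi
  rcases Nat.lt_or_ge (e + 1) i with h1 | h1
  · exact hc M i h1
  · obtain rfl : i = e + 1 := by omega
    apply LCColim.subsingleton_H_of_fg M I (e + 1)
    intro N hN
    have : Module.Finite R N := Module.Finite.iff_fg.2 hN
    obtain ⟨k, π, hπ⟩ := Module.Finite.exists_fin' R N
    have hS := shortExact_of (LinearMap.ker π).subtype π (Submodule.injective_subtype _) hπ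
      (LinearMap.exact_subtype_ker_map π)
    exact subsingleton_right I hS (e + 1)
      (subsingleton_H_pi_fin I (e + 1) (h (e + 1) (by omega)) k)
      (hc (LinearMap.ker π) (e + 1 + 1) (by omega))

theorem cdLE_of_ring (d : ℕ) (h : ∀ i : ℕ, d < i → Subsingleton (LocCoh.H I i R)) :
    LocCoh.CdLE R I d := by
  obtain ⟨N, hN⟩ := exists_cdLE I
  have key : ∀ j : ℕ, LocCoh.CdLE R I (d + j) → LocCoh.CdLE R I d := by
    intro j
    induction j with
    | zero => exact fun h => h
    | succ j ih => exact fun hj => ih (cdLE_step I d (d + j) (by omega) h hj)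
  exact key N (fun M _ _ i hi => hN M i (by omega))

end Groth.Agent.H58.LC
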