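import Groth.Agent.H58.LCBS33

set_option autoImplicit false
set_option linter.unusedSectionVars false
universe u
open CategoryTheory CategoryTheory.Limits Opposite

namespace Groth.Agent.H58.LC
open Groth.Agent.H58 Groth.Agent.H58.ExtCompare

variable {R : Type u} [CommRing R] [IsNoetherianRing R]

/-- local cohomology w.r.t. an ideal generated by `≤ k` elements vanishes above degree `k`. -/
theorem subsingleton_H_of_card_lt (k : ℕ) : ∀ (s : Finset R), s.card ≤ k →
    ∀ (M : ModuleCat.{u} R) (i : ℕ), k < i →
      Subsingleton ((localCohomology (Ideal.span (s : Set R)) i).obj M) := by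
  classical
  induction k with
  | zero =>
    intro s hs M i hi
    have : s = ∅ := Finset.card_eq_zero.mp (Nat.le_zero.mp hs)
    subst this
    rw [Finset.coe_empty, Ideal.span_empty]
    obtain ⟨j, rfl⟩ : ∃ j, i = j + 1 := ⟨i - 1, by omega⟩
    exact subsingleton_H_bot M j
  | succ k ih =>
    intro s hs M i hi
    rcases s.eq_empty_or_nonempty with rfl | ⟨x, hx⟩
    · rw [Finset.coe_empty, Ideal.span_empty]
      obtain ⟨j, rfl⟩ : ∃ j, i = j + 1 := ⟨i - 1, by omega⟩
      exact subsingleton_H_bot M j
    · let s' := s.erase x
      have hs' : s'.card ≤ k := by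
        have h1 : (s.erase x).card = s.card - 1 := Finset.card_erase_of_mem hx
        change (s.erase x).card ≤ k
        omega
      have hins : (s : Set R) = insert x (s' : Set R) := by
        rw [← Finset.coe_insert, Finset.insert_erase hx]
      let a : Ideal R := Ideal.span (s' : Set R)
      let b : Ideal R := Ideal.span {x}
      have hab : Ideal.span (s : Set R) = a ⊔ b := by
        rw [hins, Ideal.span_insert, sup_comm]
      obtain ⟨j, rfl⟩ : ∃ j, i = j + 1 := ⟨i - 1, by omega⟩
      have hj : k < j := by omega
      let s'' : Finset R := s'.image (fun y => y * x)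
      have hs''card : s''.card ≤ k := (Finset.card_image_le).trans hs'
      have hspan'' : Ideal.span (s'' : Set R) = a * b := by
        rw [Ideal.span_mul_span', Finset.coe_image, Set.mul_singleton]
      have hrad : (a ⊓ b).radical = (Ideal.span (s'' : Set R)).radical := by
        rw [hspan'', Ideal.radical_mul, Ideal.radical_inf]
      have h3 : Subsingleton ((localCohomology (a ⊓ b) j).obj M) :=
        subsingleton_of_iso ((localCohomology.isoOfSameRadical hrad j).app M)
          (ih s'' hs''card M j hj)
      have h1 : Subsingleton ((localCohomology a (j + 1)).obj M) := ih s' hs' M (j + 1) (by omega)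
      have h2 : Subsingleton ((localCohomology b (j + 1)).obj M) :=
        cdLE_span_singleton x M (j + 1) (by omega)
      rw [hab]
      let res := injectiveResolution M
      have hker := ker_Pmap_succ a b res j
      refine ⟨fun u v => ?_⟩
      have hu : u ∈ LinearMap.ker (Pmap a b (M := M) (j + 1)) := by
        rw [LinearMap.mem_ker]
        exact Subsingleton.elim _ _
      have hv : v ∈ LinearMap.ker (Pmap a b (M := M) (j + 1)) := by
        rw [LinearMap.mem_ker]
        exact Subsingleton.elim _ _
      rw [hker] at hu hv
      obtain ⟨u', rfl⟩ := hu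
      obtain ⟨v', rfl⟩ := hv
      rw [Subsingleton.elim u' v']

theorem cdLE_span_finset (s : Finset R) : LocCoh.CdLE R (Ideal.span (s : Set R)) s.card :=
  fun M _ _ i hi => subsingleton_H_of_card_lt s.card s le_rfl (ModuleCat.of R M) i hi

/-- every ideal of a Noetherian ring has finite cohomological dimension -/
theorem exists_cdLE (I : Ideal R) : ∃ d, LocCoh.CdLE R I d := by
  obtain ⟨s, hs⟩ : (I : Submodule R R).FG := IsNoetherian.noetherian I
  have hs' : Ideal.span (s : Set R) = I := hs
  exact ⟨s.card, hs' ▸ cdLE_span_finset s⟩

end Groth.Agent.H58.LC
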