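import Groth.Agent.H58.LCColim2
import Groth.Agent.H58.LCArith

/-!
# Reduction of vanishing of local cohomology to finitely generated modules
-/
set_option autoImplicit false
set_option linter.unusedSectionVars false
universe u
open CategoryTheory CategoryTheory.Limits Opposite

namespace Groth.Agent.H58.LCColim

variable {R : Type u} [CommRing R]

theorem localCohomology_preservesFiltered [IsNoetherianRing R] (I : Ideal R) (i : ℕ)
    (Λ : Type u) [SmallCategory Λ] [IsFiltered Λ] :
    PreservesColimitsOfShape Λ (localCohomology I i) := by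
  unfold localCohomology localCohomology.ofDiagram
  apply preservesColimitsOfShape_colimit
  intro j
  have hfin : Module.Finite R (R ⧸ (I ^ (unop (unop j)))) := inferInstance
  exact ext_preservesColimitsOfShape _ hfin i

section fg
variable (M : Type u) [AddCommGroup M] [Module R M]

/-- the poset of finitely generated submodules -/
abbrev FGSub := {N : Submodule R M // N.FG}

instance : IsDirected (FGSub (R := R) M) (· ≤ ·) :=
  ⟨fun a b => ⟨⟨a.1 ⊔ b.1, a.2.sup b.2⟩, le_sup_left, le_sup_right⟩⟩
instance : Nonempty (FGSub (R := R) M) := ⟨⟨⊥, Submodule.fg_bot⟩⟩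

/-- the diagram of f.g. submodules -/
def fgDiagram : FGSub (R := R) M ⥤ ModuleCat.{u} R where
  obj N := ModuleCat.of R N.1
  map h := ModuleCat.ofHom (Submodule.inclusion (leOfHom h))
  map_id _ := by ext; rfl
  map_comp _ _ := by ext; rfl

/-- the cocone of inclusions -/
def fgCocone : Cocone (fgDiagram (R := R) M) where
  pt := ModuleCat.of R M
  ι := { app := fun N => ModuleCat.ofHom N.1.subtype
         naturality := fun _ _ _ => by ext; rfl }

/-- a module is the filtered colimit of its f.g. submodules -/
noncomputable def fgIsColimit : IsColimit (fgCocone (R := R) M) := by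
  apply isColimitOfReflects (forget (ModuleCat.{u} R))
  apply Types.FilteredColimit.isColimitOf
  · intro x
    let x' : M := x
    exact ⟨⟨Submodule.span R {x'}, Submodule.fg_span_singleton x'⟩,
      (⟨x', Submodule.mem_span_singleton_self x'⟩ : ↥(Submodule.span R {x'})), rfl⟩
  · intro N N' x x' h
    refine ⟨⟨N.1 ⊔ N'.1, N.2.sup N'.2⟩, homOfLE le_sup_left, homOfLE le_sup_right, ?_⟩
    let y : ↥N.1 := x
    let y' : ↥N'.1 := x'
    have h' : (y : M) = (y' : M) := h
    change Submodule.inclusion (le_sup_left : N.1 ≤ N.1 ⊔ N'.1) y =
      Submodule.inclusion (le_sup_right : N'.1 ≤ N.1 ⊔ N'.1) y'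
    exact Subtype.ext h'

theorem subsingleton_H_of_fg [IsNoetherianRing R] (I : Ideal R) (i : ℕ)
    (h : ∀ N : Submodule R M, N.FG → Subsingleton (LocCoh.H I i N)) :
    Subsingleton (LocCoh.H I i M) := by
  have : PreservesColimitsOfShape (FGSub (R := R) M) (localCohomology I i) :=
    localCohomology_preservesFiltered I i _
  have hc := isColimitOfPreserves (localCohomology I i) (fgIsColimit (R := R) M)
  have hz : IsZero ((localCohomology I i).obj (ModuleCat.of R M)) := by
    rw [IsZero.iff_id_eq_zero]
    apply hc.hom_ext
    intro N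
    have : IsZero ((localCohomology I i).obj (ModuleCat.of R N.1)) :=
      @ModuleCat.isZero_of_subsingleton _ _ _ (h N.1 N.2)
    exact this.eq_of_src _ _
  exact ModuleCat.subsingleton_of_isZero hz

end fg

end Groth.Agent.H58.LCColim
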