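import Groth.Agent.H58.LCLes
import Groth.Prelude.Def_DRing3

set_option autoImplicit false
universe u w
open CategoryTheory CategoryTheory.Limits Opposite

namespace Groth.Agent.H58.LC
open Groth.Agent.H58.ExtCompare

variable {R : Type u} [CommRing R] (I : Ideal R) (M : ModuleCat.{u} R)

/-- evaluation at `1` of a degree-zero Ext class out of `R/I^n`. -/
noncomputable def ev (n : ℕ) : Abelian.Ext (Q I n) M 0 →ₗ[R] M where
  toFun e := (Abelian.Ext.linearEquiv₀ (R := R) e).hom (Submodule.Quotient.mk 1)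
  map_add' e e' := by rw [map_add]; rfl
  map_smul' r e := by rw [map_smul]; rfl

theorem ev_mk₀ (n : ℕ) (f : Q I n ⟶ M) :
    ev I M n (Abelian.Ext.mk₀ f) = f.hom (Submodule.Quotient.mk 1) := by
  change (Abelian.Ext.linearEquiv₀ (R := R) (Abelian.Ext.mk₀ f)).hom _ = _
  have : Abelian.Ext.linearEquiv₀ (R := R) (Abelian.Ext.mk₀ f) = f := by
    apply (Abelian.Ext.linearEquiv₀ (R := R)).symm.injective
    simp
  rw [this]

theorem exists_mk₀ {X Y : ModuleCat.{u} R} (e : Abelian.Ext X Y 0) : ∃ f : X ⟶ Y, e = Abelian.Ext.mk₀ f :=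
  ⟨Abelian.Ext.linearEquiv₀ (R := R) e, (Abelian.Ext.mk₀_linearEquiv₀_apply e).symm⟩

theorem ev_mem (n : ℕ) (e : Abelian.Ext (Q I n) M 0) : ev I M n e ∈ DRing.torsionSub I M := by
  obtain ⟨f, rfl⟩ := exists_mk₀ e
  rw [ev_mk₀]
  refine ⟨n, fun a ha => ?_⟩
  rw [← map_smul, ← Submodule.Quotient.mk_smul, smul_eq_mul, mul_one,
    (Submodule.Quotient.mk_eq_zero _).2 ha, map_zero]

theorem ev_compat {n m : ℕ} (h : n ≤ m) (e : Abelian.Ext (Q I n) M 0) :
    ev I M m ((Abelian.Ext.mk₀ (Qmap I h)).comp e (zero_add 0)) = ev I M n e := by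
  obtain ⟨f, rfl⟩ := exists_mk₀ e
  rw [Abelian.Ext.mk₀_comp_mk₀, ev_mk₀, ev_mk₀]
  rfl

theorem ev_injective (n : ℕ) : Function.Injective (ev I M n) := by
  rw [injective_iff_map_eq_zero]
  intro e he
  obtain ⟨f, rfl⟩ := exists_mk₀ e
  rw [ev_mk₀] at he
  have : f = 0 := by
    apply ModuleCat.hom_ext
    apply LinearMap.ext
    intro x
    obtain ⟨r, rfl⟩ := Submodule.Quotient.mk_surjective _ x
    have : (Submodule.Quotient.mk r : R ⧸ I ^ n) = r • Submodule.Quotient.mk 1 := by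
      rw [← Submodule.Quotient.mk_smul, smul_eq_mul, mul_one]
    rw [this, map_smul, he, smul_zero]; rfl
  rw [this, Abelian.Ext.mk₀_zero]

/-- the map `R/I^n → M` attached to an element killed by `I^n`. -/
noncomputable def ofTorsion (n : ℕ) (x : M) (hx : ∀ a ∈ I ^ n, a • x = 0) : Q I n ⟶ M :=
  ModuleCat.ofHom ((I ^ n).liftQ (LinearMap.toSpanSingleton R M x) (by
    intro a ha
    rw [LinearMap.mem_ker, LinearMap.toSpanSingleton_apply]
    exact hx a ha))

theorem ofTorsion_one (n : ℕ) (x : M) (hx : ∀ a ∈ I ^ n, a • x = 0) :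
    (ofTorsion I M n x hx).hom (Submodule.Quotient.mk 1) = x := by
  change (I ^ n).liftQ _ _ (Submodule.Quotient.mk 1) = x
  rw [Submodule.liftQ_apply, LinearMap.toSpanSingleton_apply, one_smul]

theorem evfam_compat {n m : ℕ} (h : n ≤ m) (e : Abelian.Ext (Q I n) M 0) :
    (ev I M m).codRestrict (DRing.torsionSub I M) (ev_mem I M m)
        ((Abelian.Ext.mk₀ (Qmap I h)).comp e (zero_add 0)) =
      (ev I M n).codRestrict (DRing.torsionSub I M) (ev_mem I M n) e := by
  ext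
  exact ev_compat I M h e

/-- `H^0_I(M) → Γ_I(M)` -/
noncomputable def H0toGamma : (localCohomology I 0).obj M →ₗ[R] DRing.torsionSub I M :=
  desc I 0 M (fun n => (ev I M n).codRestrict _ (ev_mem I M n)) (evfam_compat I M)

theorem H0toGamma_ι (n : ℕ) (e : Abelian.Ext (Q I n) M 0) :
    (H0toGamma I M (ι I 0 M n e) : M) = ev I M n e :=
  congrArg Subtype.val
    (desc_ι I 0 M (fun n => (ev I M n).codRestrict _ (ev_mem I M n)) (evfam_compat I M) n e)

theorem H0toGamma_bijective : Function.Bijective (H0toGamma I M) := by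
  constructor
  · rw [injective_iff_map_eq_zero]
    intro x hx
    obtain ⟨n, e, rfl⟩ := exists_rep I 0 M x
    have h1 := congrArg Subtype.val hx
    rw [H0toGamma_ι] at h1
    have : e = 0 := ev_injective I M n (by rw [map_zero]; exact h1)
    rw [this, map_zero]
  · rintro ⟨x, n, hn⟩
    refine ⟨ι I 0 M n (Abelian.Ext.mk₀ (ofTorsion I M n x hn)), ?_⟩
    ext
    rw [H0toGamma_ι, ev_mk₀, ofTorsion_one]

/-- `H^0_I(M) ≃ Γ_I(M)` -/
noncomputable def H0equiv : (localCohomology I 0).obj M ≃ₗ[R] DRing.torsionSub I M :=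
  LinearEquiv.ofBijective (H0toGamma I M) (H0toGamma_bijective I M)

theorem H0equiv_ι (n : ℕ) (e : Abelian.Ext (Q I n) M 0) :
    (H0equiv I M (ι I 0 M n e) : M) = ev I M n e := H0toGamma_ι I M n e

theorem H0equiv_map {M N : ModuleCat.{u} R} (g : M ⟶ N) (x : (localCohomology I 0).obj M) :
    (H0equiv I N (((localCohomology I 0).map g).hom x) : N) = g.hom (H0equiv I M x : M) := by
  obtain ⟨n, e, rfl⟩ := exists_rep I 0 M x
  rw [map_ι, H0equiv_ι, H0equiv_ι]
  obtain ⟨f, rfl⟩ := exists_mk₀ e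
  rw [Abelian.Ext.mk₀_comp_mk₀, ev_mk₀, ev_mk₀]
  rfl

end Groth.Agent.H58.LC
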