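import Groth.Agent.H58.LCBasic

set_option autoImplicit false
universe u w
open CategoryTheory CategoryTheory.Limits Opposite

namespace Groth.Agent.H58.LC
open Groth.Agent.H58.ExtCompare

variable {R : Type u} [CommRing R] (I : Ideal R) (i : ℕ) (M : ModuleCat.{u} R)

section Desc
variable {T : Type w} [AddCommGroup T] [Module R T]
  (φ : ∀ n, Abelian.Ext (Q I n) M i →ₗ[R] T)
  (hφ : ∀ {n m : ℕ} (h : n ≤ m) (e : Abelian.Ext (Q I n) M i),
    φ m ((Abelian.Ext.mk₀ (Qmap I h)).comp e (zero_add i)) = φ n e)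

include hφ in
theorem desc_wd {n n' : ℕ} (e : Abelian.Ext (Q I n) M i) (e' : Abelian.Ext (Q I n') M i)
    (h : ι I i M n e = ι I i M n' e') : φ n e = φ n' e' := by
  obtain ⟨m, h1, h2, heq⟩ := (ι_eq_iff I i M e e').1 h
  rw [← hφ h1 e, ← hφ h2 e', heq]

/-- Linear maps out of `H^i_I(M)` from compatible families on `Ext^i(R/I^n, M)`. -/
noncomputable def desc : (localCohomology I i).obj M →ₗ[R] T where
  toFun x := φ (exists_rep I i M x).choose (exists_rep I i M x).choose_spec.choose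
  map_add' x y := by
    obtain ⟨n, e, hx⟩ := exists_rep I i M x
    obtain ⟨n', e', hy⟩ := exists_rep I i M y
    have hxy : x + y = ι I i M (max n n')
        ((Abelian.Ext.mk₀ (Qmap I (le_max_left n n'))).comp e (zero_add i) +
          (Abelian.Ext.mk₀ (Qmap I (le_max_right n n'))).comp e' (zero_add i)) := by
      rw [map_add, ι_restrict, ι_restrict, hx, hy]
    rw [desc_wd I i M φ hφ _ _ ((exists_rep I i M (x + y)).choose_spec.choose_spec.trans hxy),
      desc_wd I i M φ hφ _ _ ((exists_rep I i M x).choose_spec.choose_spec.trans hx.symm),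
      desc_wd I i M φ hφ _ _ ((exists_rep I i M y).choose_spec.choose_spec.trans hy.symm),
      map_add, hφ, hφ]
  map_smul' r x := by
    obtain ⟨n, e, hx⟩ := exists_rep I i M x
    have hrx : r • x = ι I i M n (r • e) := by rw [map_smul, hx]
    rw [desc_wd I i M φ hφ _ _ ((exists_rep I i M (r • x)).choose_spec.choose_spec.trans hrx),
      desc_wd I i M φ hφ _ _ ((exists_rep I i M x).choose_spec.choose_spec.trans hx.symm),
      map_smul, RingHom.id_apply]

theorem desc_ι (n : ℕ) (e : Abelian.Ext (Q I n) M i) :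
    desc I i M φ hφ (ι I i M n e) = φ n e :=
  desc_wd I i M φ hφ _ _ (exists_rep I i M (ι I i M n e)).choose_spec.choose_spec

end Desc

section LES
variable {S : ShortComplex (ModuleCat.{u} R)} (hS : S.ShortExact)

theorem comp_assoc₀ {X X' Y Z : ModuleCat.{u} R} (q : X' ⟶ X) {a b c : ℕ} (e : Abelian.Ext X Y a)
    (γ : Abelian.Ext Y Z b) (h : a + b = c) :
    ((Abelian.Ext.mk₀ q).comp e (zero_add a)).comp γ h =
      (Abelian.Ext.mk₀ q).comp (e.comp γ h) (zero_add c) := by
  apply Abelian.Ext.comp_assoc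
  lia

/-- the family defining `δ` -/
noncomputable def δfam (n : ℕ) :
    Abelian.Ext (Q I n) S.X₃ i →ₗ[R] (localCohomology I (i + 1)).obj S.X₁ :=
  ι I (i + 1) S.X₁ n ∘ₗ
      (Abelian.Ext.postcompOfLinear hS.extClass R (Q I n) (rfl : i + 1 = i + 1))

theorem δfam_apply (n : ℕ) (e : Abelian.Ext (Q I n) S.X₃ i) :
    δfam I i hS n e = ι I (i + 1) S.X₁ n (e.comp hS.extClass rfl) := rfl

theorem δfam_compat {n m : ℕ} (h : n ≤ m) (e : Abelian.Ext (Q I n) S.X₃ i) :
    δfam I i hS m ((Abelian.Ext.mk₀ (Qmap I h)).comp e (zero_add i)) = δfam I i hS n e := by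
  rw [δfam_apply, δfam_apply, comp_assoc₀, ι_restrict]

/-- The connecting homomorphism `H^i_I(X₃) → H^{i+1}_I(X₁)`. -/
noncomputable def δ : (localCohomology I i).obj S.X₃ →ₗ[R] (localCohomology I (i + 1)).obj S.X₁ :=
  desc I i S.X₃ (δfam I i hS) (δfam_compat I i hS)

theorem δ_ι (n : ℕ) (e : Abelian.Ext (Q I n) S.X₃ i) :
    δ I i hS (ι I i S.X₃ n e) = ι I (i + 1) S.X₁ n (e.comp hS.extClass rfl) :=
  desc_ι I i S.X₃ (δfam I i hS) (δfam_compat I i hS) n e

include hS in
/-- exactness at the middle term -/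
theorem exact₂ (x : (localCohomology I i).obj S.X₂)
    (hx : ((localCohomology I i).map S.g).hom x = 0) :
    ∃ x₁ : (localCohomology I i).obj S.X₁, ((localCohomology I i).map S.f).hom x₁ = x := by
  obtain ⟨n, e, rfl⟩ := exists_rep I i S.X₂ x
  rw [map_ι, ι_eq_zero_iff] at hx
  obtain ⟨m, h, hm⟩ := hx
  rw [← comp_assoc₀] at hm
  obtain ⟨e₁, he₁⟩ := Abelian.Ext.covariant_sequence_exact₂ _ hS _ hm
  refine ⟨ι I i S.X₁ m e₁, ?_⟩
  rw [map_ι, he₁, ι_restrict]

/-- exactness at the third term -/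
theorem exact₃ (x : (localCohomology I i).obj S.X₃) (hx : δ I i hS x = 0) :
    ∃ x₂ : (localCohomology I i).obj S.X₂, ((localCohomology I i).map S.g).hom x₂ = x := by
  obtain ⟨n, e, rfl⟩ := exists_rep I i S.X₃ x
  rw [δ_ι, ι_eq_zero_iff] at hx
  obtain ⟨m, h, hm⟩ := hx
  rw [← comp_assoc₀] at hm
  obtain ⟨e₂, he₂⟩ := Abelian.Ext.covariant_sequence_exact₃ _ hS _ rfl hm
  refine ⟨ι I i S.X₂ m e₂, ?_⟩
  rw [map_ι, he₂, ι_restrict]

/-- exactness at the first term (next degree) -/
theorem exact₁ (x : (localCohomology I (i + 1)).obj S.X₁)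
    (hx : ((localCohomology I (i + 1)).map S.f).hom x = 0) :
    ∃ x₃ : (localCohomology I i).obj S.X₃, δ I i hS x₃ = x := by
  obtain ⟨n, e, rfl⟩ := exists_rep I (i + 1) S.X₁ x
  rw [map_ι, ι_eq_zero_iff] at hx
  obtain ⟨m, h, hm⟩ := hx
  rw [← comp_assoc₀] at hm
  obtain ⟨e₃, he₃⟩ := Abelian.Ext.covariant_sequence_exact₁ _ hS _ hm rfl
  refine ⟨ι I i S.X₃ m e₃, ?_⟩
  rw [δ_ι, he₃, ι_restrict]

theorem map_g_map_f (x : (localCohomology I i).obj S.X₁) :
    ((localCohomology I i).map S.g).hom (((localCohomology I i).map S.f).hom x) = 0 := by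
  have : (localCohomology I i).map S.f ≫ (localCohomology I i).map S.g =
      (localCohomology I i).map 0 := by
    rw [← Functor.map_comp, S.zero]
  have h2 := congrArg (fun φ => φ.hom x) this
  simp only [ModuleCat.hom_comp, LinearMap.comp_apply] at h2
  rw [h2, map_zero']

theorem δ_map_g (x : (localCohomology I i).obj S.X₂) :
    δ I i hS (((localCohomology I i).map S.g).hom x) = 0 := by
  obtain ⟨n, e, rfl⟩ := exists_rep I i S.X₂ x
  rw [map_ι, δ_ι, Abelian.Ext.comp_assoc_of_second_deg_zero, hS.comp_extClass,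
    Abelian.Ext.comp_zero, map_zero]

theorem map_f_δ (x : (localCohomology I i).obj S.X₃) :
    ((localCohomology I (i + 1)).map S.f).hom (δ I i hS x) = 0 := by
  obtain ⟨n, e, rfl⟩ := exists_rep I i S.X₃ x
  rw [δ_ι, map_ι, Abelian.Ext.comp_assoc_of_third_deg_zero, hS.extClass_comp,
    Abelian.Ext.comp_zero, map_zero]

theorem δ_naturality {S' : ShortComplex (ModuleCat.{u} R)} (hS' : S'.ShortExact) (φ : S ⟶ S')
    (x : (localCohomology I i).obj S.X₃) :
    δ I i hS' (((localCohomology I i).map φ.τ₃).hom x) =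
      ((localCohomology I (i + 1)).map φ.τ₁).hom (δ I i hS x) := by
  obtain ⟨n, e, rfl⟩ := exists_rep I i S.X₃ x
  rw [map_ι, δ_ι, δ_ι, map_ι, Abelian.Ext.comp_assoc_of_second_deg_zero,
    Abelian.Ext.comp_assoc_of_third_deg_zero,
    ShortComplex.ShortExact.extClass_naturality hS hS' φ]

end LES

/-- vanishing on injective modules in positive degrees -/
theorem subsingleton_of_injective (E : ModuleCat.{u} R) [Injective E] (i : ℕ) :
    Subsingleton ((localCohomology I (i + 1)).obj E) := by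
  refine ⟨fun x y => ?_⟩
  obtain ⟨n, e, rfl⟩ := exists_rep I (i + 1) E x
  obtain ⟨n', e', rfl⟩ := exists_rep I (i + 1) E y
  rw [Abelian.Ext.eq_zero_of_injective e, Abelian.Ext.eq_zero_of_injective e', map_zero, map_zero]

/-- `H^0_I` of a monomorphism is injective -/
theorem map_injective_of_mono {M N : ModuleCat.{u} R} (f : M ⟶ N) [Mono f] :
    Function.Injective ((localCohomology I 0).map f).hom := by
  rw [injective_iff_map_eq_zero]
  intro x hx
  obtain ⟨n, e, rfl⟩ := exists_rep I 0 M x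
  rw [map_ι, ι_eq_zero_iff] at hx
  obtain ⟨m, h, hm⟩ := hx
  rw [← comp_assoc₀] at hm
  have := Abelian.Ext.postcomp_mk₀_injective_of_mono (Q I m) f
  have h0 : (Abelian.Ext.mk₀ (Qmap I h)).comp e (zero_add 0) = 0 := by
    apply this
    rw [map_zero]
    exact hm
  rw [← ι_restrict I 0 M h e, h0, map_zero]

end Groth.Agent.H58.LC
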