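import Groth.Agent.H58.ExtCompare
import Mathlib.Algebra.Homology.LocalCohomology

set_option autoImplicit false
universe u
open CategoryTheory CategoryTheory.Limits Opposite

namespace Groth.Agent.H58.LC
open Groth.Agent.H58.ExtCompare

variable {R : Type u} [CommRing R] (I : Ideal R) (i : ℕ) (M : ModuleCat.{u} R)

/-- `R/I^n` as an object. -/
abbrev Q (n : ℕ) : ModuleCat.{u} R := ModuleCat.of R (R ⧸ I ^ n)

/-- The transition map `R/I^m → R/I^n` for `n ≤ m`. -/
def Qmap {n m : ℕ} (h : n ≤ m) : Q I m ⟶ Q I n :=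
  ModuleCat.ofHom (Submodule.mapQ _ _ LinearMap.id (Ideal.pow_le_pow_right h))

/-- The big diagram. -/
noncomputable abbrev bigDiagram : ℕᵒᵖᵒᵖ ⥤ ModuleCat.{u} R ⥤ ModuleCat.{u} R :=
  localCohomology.diagram (localCohomology.idealPowersDiagram I) i

/-- The evaluated diagram `n ↦ Ext^i(R/I^n, M)` (old Ext). -/
noncomputable abbrev lcDiagram : ℕᵒᵖᵒᵖ ⥤ ModuleCat.{u} R :=
  bigDiagram I i ⋙ (evaluation _ _).obj M

/-- The colimit cocone with point `H^i_I(M)`. -/
noncomputable def lcCocone : Cocone (lcDiagram I i M) :=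
  ((evaluation _ _).obj M).mapCocone (colimit.cocone (bigDiagram I i))

noncomputable def lcIsColimit : IsColimit (lcCocone I i M) :=
  isColimitOfPreserves _ (colimit.isColimit _)

/-- old Ext group -/
noncomputable abbrev oldExt (n : ℕ) : ModuleCat.{u} R :=
  ((Ext R (ModuleCat.{u} R) i).obj (op (Q I n))).obj M

/-- old transition -/
noncomputable abbrev oldMap {n m : ℕ} (h : n ≤ m) : oldExt I i M n ⟶ oldExt I i M m :=
  ((Ext R (ModuleCat.{u} R) i).map (Qmap I h).op).app M

/-- cast -/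
def toDiag (n : ℕ) (y : oldExt I i M n) : ToType ((lcDiagram I i M).obj (op (op n))) := y

theorem lcDiagram_map {n m : ℕ} (h : n ≤ m) (y : oldExt I i M n) :
    (lcDiagram I i M).map (homOfLE h).op.op (toDiag I i M n y) =
      toDiag I i M m ((oldMap I i M h).hom y) := rfl

/-- The class in `H^i_I(M)` of an element of old `Ext^i(R/I^n, M)`. -/
noncomputable def ιOld (n : ℕ) : oldExt I i M n →ₗ[R] (localCohomology I i).obj M :=
  ((lcCocone I i M).ι.app (op (op n))).hom

theorem ιOld_eq_cocone (n : ℕ) (y : oldExt I i M n) :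
    ιOld I i M n y = (lcCocone I i M).ι.app (op (op n)) (toDiag I i M n y) := rfl

theorem forget_preservesSmallFiltered :
    PreservesFilteredColimitsOfSize.{0, 0} (forget (ModuleCat.{u} R)) :=
  preservesSmallestFilteredColimits_of_preservesFilteredColimits.{u, u} _

theorem forget_preservesColimit_lcDiagram :
    PreservesColimit (lcDiagram I i M) (forget (ModuleCat.{u} R)) := by
  have := forget_preservesSmallFiltered (R := R)
  infer_instance

theorem ιOld_exists_rep (x : (localCohomology I i).obj M) :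
    ∃ (n : ℕ) (y : oldExt I i M n), ιOld I i M n y = x := by
  have := forget_preservesColimit_lcDiagram I i M
  obtain ⟨j, y, hy⟩ := Concrete.isColimit_exists_rep (lcDiagram I i M) (lcIsColimit I i M) x
  exact ⟨j.unop.unop, y, hy⟩

theorem ιOld_map {n m : ℕ} (h : n ≤ m) (y : oldExt I i M n) :
    ιOld I i M m ((oldMap I i M h).hom y) = ιOld I i M n y := by
  have h1 := (lcCocone I i M).w (homOfLE h).op.op
  have h2 := ConcreteCategory.congr_hom h1 (toDiag I i M n y)
  exact h2

theorem ιOld_eq_iff {n n' : ℕ} (y : oldExt I i M n) (y' : oldExt I i M n') :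
    ιOld I i M n y = ιOld I i M n' y' ↔
      ∃ (m : ℕ) (h : n ≤ m) (h' : n' ≤ m), (oldMap I i M h).hom y = (oldMap I i M h').hom y' := by
  constructor
  · intro heq
    have := forget_preservesColimit_lcDiagram I i M
    rw [ιOld_eq_cocone, ιOld_eq_cocone] at heq
    obtain ⟨k, a, b, hab⟩ := Concrete.isColimit_exists_of_rep_eq (lcDiagram I i M)
      (lcIsColimit I i M) (i := op (op n)) (j := op (op n')) _ _ heq
    have hk : n ≤ k.unop.unop := a.unop.unop.le
    have hk' : n' ≤ k.unop.unop := b.unop.unop.le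
    refine ⟨k.unop.unop, hk, hk', ?_⟩
    have ha : a = (homOfLE hk).op.op := Subsingleton.elim _ _
    have hb : b = (homOfLE hk').op.op := Subsingleton.elim _ _
    rw [ha, hb] at hab
    exact hab
  · rintro ⟨m, h, h', heq⟩
    rw [← ιOld_map I i M h y, ← ιOld_map I i M h' y', heq]

/-- The class in `H^i_I(M)` of an element of `Ext^i(R/I^n, M)`. -/
noncomputable def ι (n : ℕ) : Abelian.Ext (Q I n) M i →ₗ[R] (localCohomology I i).obj M :=
  ιOld I i M n ∘ₗ (extEquiv (R := R) (Q I n) M i).symm.toLinearMap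

theorem ι_apply (n : ℕ) (e : Abelian.Ext (Q I n) M i) :
    ι I i M n e = ιOld I i M n ((extEquiv (R := R) (Q I n) M i).symm e) := rfl

theorem exists_rep (x : (localCohomology I i).obj M) :
    ∃ (n : ℕ) (e : Abelian.Ext (Q I n) M i), ι I i M n e = x := by
  obtain ⟨n, y, rfl⟩ := ιOld_exists_rep I i M x
  refine ⟨n, extEquiv (R := R) (Q I n) M i y, ?_⟩
  rw [ι_apply, LinearEquiv.symm_apply_apply]

theorem extEquiv_symm_comp {n m : ℕ} (h : n ≤ m) (e : Abelian.Ext (Q I n) M i) :
    (extEquiv (R := R) (Q I m) M i).symm ((Abelian.Ext.mk₀ (Qmap I h)).comp e (zero_add i)) =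
      (oldMap I i M h).hom ((extEquiv (R := R) (Q I n) M i).symm e) := by
  apply (extEquiv (R := R) (Q I m) M i).injective
  rw [LinearEquiv.apply_symm_apply, extEquiv_naturality_left, LinearEquiv.apply_symm_apply]

theorem ι_restrict {n m : ℕ} (h : n ≤ m) (e : Abelian.Ext (Q I n) M i) :
    ι I i M m ((Abelian.Ext.mk₀ (Qmap I h)).comp e (zero_add i)) = ι I i M n e := by
  rw [ι_apply, ι_apply, extEquiv_symm_comp, ιOld_map]

theorem ι_eq_iff {n n' : ℕ} (e : Abelian.Ext (Q I n) M i) (e' : Abelian.Ext (Q I n') M i) :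
    ι I i M n e = ι I i M n' e' ↔
      ∃ (m : ℕ) (h : n ≤ m) (h' : n' ≤ m),
        (Abelian.Ext.mk₀ (Qmap I h)).comp e (zero_add i) =
          (Abelian.Ext.mk₀ (Qmap I h')).comp e' (zero_add i) := by
  rw [ι_apply, ι_apply, ιOld_eq_iff]
  constructor
  · rintro ⟨m, h, h', heq⟩
    refine ⟨m, h, h', ?_⟩
    apply (extEquiv (R := R) (Q I m) M i).symm.injective
    rw [extEquiv_symm_comp, extEquiv_symm_comp, heq]
  · rintro ⟨m, h, h', heq⟩
    refine ⟨m, h, h', ?_⟩
    rw [← extEquiv_symm_comp, ← extEquiv_symm_comp, heq]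

theorem ι_eq_zero_iff {n : ℕ} (e : Abelian.Ext (Q I n) M i) :
    ι I i M n e = 0 ↔ ∃ (m : ℕ) (h : n ≤ m),
      (Abelian.Ext.mk₀ (Qmap I h)).comp e (zero_add i) = 0 := by
  rw [← (ι I i M n).map_zero, ι_eq_iff]
  constructor
  · rintro ⟨m, h, h', heq⟩
    refine ⟨m, h, ?_⟩
    rw [heq, Abelian.Ext.comp_zero]
  · rintro ⟨m, h, hr⟩
    refine ⟨m, h, h, ?_⟩
    rw [hr, Abelian.Ext.comp_zero]

/-- functoriality -/
theorem map_ι {M N : ModuleCat.{u} R} (g : M ⟶ N) (n : ℕ) (e : Abelian.Ext (Q I n) M i) :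
    ((localCohomology I i).map g).hom (ι I i M n e) =
      ι I i N n (e.comp (Abelian.Ext.mk₀ g) (add_zero i)) := by
  have h1 := (colimit.ι (bigDiagram I i) (op (op n))).naturality g
  have h2 := ConcreteCategory.congr_hom h1 (toDiag I i M n ((extEquiv (R := R) (Q I n) M i).symm e))
  rw [ι_apply, ι_apply]
  have h3 : (extEquiv (R := R) (Q I n) N i).symm (e.comp (Abelian.Ext.mk₀ g) (add_zero i)) =
      (((Ext R (ModuleCat.{u} R) i).obj (op (Q I n))).map g).hom
        ((extEquiv (R := R) (Q I n) M i).symm e) := by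
    apply (extEquiv (R := R) (Q I n) N i).injective
    rw [LinearEquiv.apply_symm_apply, extEquiv_naturality_right, LinearEquiv.apply_symm_apply]
  rw [h3]
  exact h2.symm

end Groth.Agent.H58.LC

namespace Groth.Agent.H58.LC
open Groth.Agent.H58.ExtCompare

variable {R : Type u} [CommRing R] (I : Ideal R) (i : ℕ) (M : ModuleCat.{u} R)

/-- An element of `R` killing `M` kills `H^i_I(M)`. -/
theorem smul_eq_zero_of_smul_id_eq_zero (r : R) (hr : r • 𝟙 M = 0)
    (x : (localCohomology I i).obj M) : r • x = 0 := by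
  obtain ⟨n, e, rfl⟩ := exists_rep I i M x
  rw [← (ι I i M n).map_smul, Abelian.Ext.smul_eq_comp_mk₀, hr, Abelian.Ext.mk₀_zero,
    Abelian.Ext.comp_zero, map_zero]

/-- The functor `H^i_I` is `R`-linear. -/
theorem map_smul' {M N : ModuleCat.{u} R} (r : R) (g : M ⟶ N) (x : (localCohomology I i).obj M) :
    ((localCohomology I i).map (r • g)).hom x = r • ((localCohomology I i).map g).hom x := by
  obtain ⟨n, e, rfl⟩ := exists_rep I i M x
  rw [map_ι, map_ι, Abelian.Ext.mk₀_smul, Abelian.Ext.comp_smul, map_smul]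

theorem map_add' {M N : ModuleCat.{u} R} (g g' : M ⟶ N) (x : (localCohomology I i).obj M) :
    ((localCohomology I i).map (g + g')).hom x =
      ((localCohomology I i).map g).hom x + ((localCohomology I i).map g').hom x := by
  obtain ⟨n, e, rfl⟩ := exists_rep I i M x
  rw [map_ι, map_ι, map_ι, Abelian.Ext.mk₀_add, Abelian.Ext.comp_add, map_add]

theorem map_zero' {M N : ModuleCat.{u} R} (x : (localCohomology I i).obj M) :
    ((localCohomology I i).map (0 : M ⟶ N)).hom x = 0 := by
  obtain ⟨n, e, rfl⟩ := exists_rep I i M x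
  rw [map_ι, Abelian.Ext.mk₀_zero, Abelian.Ext.comp_zero, map_zero]

end Groth.Agent.H58.LC
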