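import Groth.Agent.H58.DT3

set_option autoImplicit false
universe u
open CategoryTheory CategoryTheory.Limits Opposite

namespace Groth.Agent.H58

variable {R : Type u} [CommRing R]

theorem DTmapOfLE_dtι {I J : Ideal R} (h : I ≤ J) (M : Type u) [AddCommGroup M] [Module R M]
    (n : ℕ) (f : ↥(J ^ n) →ₗ[R] M) :
    ((LocCoh.DTmapOfLE h).app (ModuleCat.of R M)).hom (dtι J M n f) =
      dtι I M n (f ∘ₗ Submodule.inclusion (Ideal.pow_right_mono h n)) := by
  have := ι_colimMap (Functor.whiskerRight (NatTrans.op (Functor.whiskerRight (LocCoh.powLE h)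
    LocCoh.idealModFunctor)) (linearCoyoneda R (ModuleCat.{u} R))) (op (op n))
  have h2 := congrArg (fun t => (t.app (ModuleCat.of R M)).hom (dtElem J M n f)) this
  exact h2

/-- `η_{D_J(M)} = D_J(η_M)`. -/
theorem toDT_DT_eq (J : Ideal R) (M : Type u) [AddCommGroup M] [Module R M]
    (x : LocCoh.DT J M) :
    LocCoh.toDT J (LocCoh.DT J M) x = dtMap J (LocCoh.toDT J M) x := by
  obtain ⟨n, f, rfl⟩ := dt_exists_rep J M x
  rw [dtMap_dtι, toDT_apply, ← dtι_restrict J _ (Nat.zero_le n)]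
  congr 1
  ext r
  simp only [LinearMap.coe_comp, Function.comp_apply, smulMap_apply, Submodule.coe_inclusion]
  exact smul_dtι_eq_toDT J f r.1 r.2

variable [IsNoetherianRing R]

theorem toDT_DT_bijective (J : Ideal R) (M : Type u) [AddCommGroup M] [Module R M] :
    Function.Bijective (LocCoh.toDT J (LocCoh.DT J M)) := by
  have h : ⇑(LocCoh.toDT J (LocCoh.DT J M)) = ⇑(dtMap J (LocCoh.toDT J M)) :=
    funext (toDT_DT_eq J M)
  rw [h]
  exact idealTransform_map_toDT_bijective J M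

theorem mul_mem_mul_pow {I J : Ideal R} {n : ℕ} {r s : R} (hr : r ∈ I ^ n) (hs : s ∈ J ^ n) :
    r * s ∈ (I * J) ^ n := by
  rw [mul_pow]
  exact Ideal.mul_mem_mul hr hs

theorem DTmapOfLE_mul_bijective (I J : Ideal R) (M : Type u) [AddCommGroup M] [Module R M] :
    Function.Bijective
      ((LocCoh.DTmapOfLE (Ideal.mul_le_left : I * J ≤ I)).app
        (ModuleCat.of R (LocCoh.DT J M))).hom := by
  set N := LocCoh.DT J M
  constructor
  · rw [injective_iff_map_eq_zero]
    intro x hx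
    obtain ⟨n, f, rfl⟩ := dt_exists_rep I N x
    rw [DTmapOfLE_dtι, dtι_eq_zero_iff] at hx
    obtain ⟨m, hm, hr⟩ := hx
    rw [dtι_eq_zero_iff]
    refine ⟨m, hm, fun r => ?_⟩
    set y := f (Submodule.inclusion (Ideal.pow_le_pow_right hm) r) with hy
    have hmem : y ∈ DRing.torsionSub J N := by
      refine ⟨m, fun s hs => ?_⟩
      have := hr ⟨r.1 * s, mul_mem_mul_pow r.2 hs⟩
      rw [← this, hy, ← map_smul]
      simp only [LinearMap.coe_comp, Function.comp_apply]
      congr 1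
      apply Subtype.ext
      simp [mul_comm]
    rw [torsionSub_DT_eq_bot] at hmem
    simpa using hmem
  · intro y
    obtain ⟨n, g, rfl⟩ := dt_exists_rep (I * J) N y
    let H : ↥(I ^ n) →ₗ[R] ↥(J ^ n) →ₗ[R] N :=
      LinearMap.mk₂ R (fun r s => g ⟨r.1 * s.1, mul_mem_mul_pow r.2 s.2⟩)
        (fun r r' s => by
          rw [← map_add]; congr 1; apply Subtype.ext; simp [add_mul])
        (fun c r s => by
          rw [← map_smul]; congr 1; apply Subtype.ext; simp [mul_assoc])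
        (fun r s s' => by
          rw [← map_add]; congr 1; apply Subtype.ext; simp [mul_add])
        (fun c r s => by
          rw [← map_smul]; congr 1; apply Subtype.ext; simp [mul_left_comm])
    let ηN := LinearEquiv.ofBijective (LocCoh.toDT J N) (toDT_DT_bijective J M)
    let f : ↥(I ^ n) →ₗ[R] N := ηN.symm.toLinearMap ∘ₗ dtι J N n ∘ₗ H
    refine ⟨dtι I N n f, ?_⟩
    rw [DTmapOfLE_dtι]
    congr 1
    ext t
    obtain ⟨t, ht⟩ := t
    have key : t ∈ I ^ n ∧ t ∈ (I * J) ^ n ∧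
        ∀ (h1 : t ∈ I ^ n) (h2 : t ∈ (I * J) ^ n), f ⟨t, h1⟩ = g ⟨t, h2⟩ := by
      have ht' := ht
      rw [mul_pow] at ht'
      refine Submodule.mul_induction_on ht' ?_ ?_
      · intro r hr s hs
        refine ⟨Ideal.mul_mem_right _ _ hr, mul_mem_mul_pow hr hs, fun h1 h2 => ?_⟩
        apply ηN.injective
        have e1 : (⟨r * s, h1⟩ : ↥(I ^ n)) = s • ⟨r, hr⟩ := Subtype.ext (by simp [mul_comm])
        rw [e1, map_smul, map_smul]
        have e2 : ηN (f ⟨r, hr⟩) = dtι J N n (H ⟨r, hr⟩) := by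
          simp only [f, LinearMap.coe_comp, LinearEquiv.coe_coe, Function.comp_apply]
          exact ηN.apply_symm_apply _
        rw [e2, smul_dtι_eq_toDT J _ s hs]
        rfl
      · rintro a b ⟨ha, ha2, ha'⟩ ⟨hb, hb2, hb'⟩
        refine ⟨Ideal.add_mem _ ha hb, Ideal.add_mem _ ha2 hb2, fun h1 h2 => ?_⟩
        have e1 : (⟨a + b, h1⟩ : ↥(I ^ n)) = ⟨a, ha⟩ + ⟨b, hb⟩ := rfl
        have e2 : (⟨a + b, h2⟩ : ↥((I * J) ^ n)) = ⟨a, ha2⟩ + ⟨b, hb2⟩ := rfl
        rw [e1, e2, map_add, map_add, ha' ha ha2, hb' hb hb2]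
    exact key.2.2 _ ht

end Groth.Agent.H58
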