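import Groth.Agent.H58.LCTorsion
import Groth.Agent.H58.DT5

set_option autoImplicit false
universe u w
open CategoryTheory CategoryTheory.Limits Opposite

namespace Groth.Agent.H58

variable {R : Type u} [CommRing R] (I : Ideal R) (M : Type u) [AddCommGroup M] [Module R M]

section DTDesc
variable {T : Type w} [AddCommGroup T] [Module R T]
  (φ : ∀ n, (↥(I ^ n) →ₗ[R] M) →ₗ[R] T)
  (hφ : ∀ {n m : ℕ} (h : n ≤ m) (f : ↥(I ^ n) →ₗ[R] M),
    φ m (f ∘ₗ Submodule.inclusion (Ideal.pow_le_pow_right h)) = φ n f)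

include hφ in
theorem dtDesc_wd {n n' : ℕ} (f : ↥(I ^ n) →ₗ[R] M) (f' : ↥(I ^ n') →ₗ[R] M)
    (h : dtι I M n f = dtι I M n' f') : φ n f = φ n' f' := by
  obtain ⟨m, h1, h2, heq⟩ := (dtι_eq_iff I M f f').1 h
  rw [← hφ h1 f, ← hφ h2 f', heq]

/-- Linear maps out of `D_I(M)` from compatible families on `Hom(I^n, M)`. -/
noncomputable def dtDesc : LocCoh.DT I M →ₗ[R] T where
  toFun x := φ (dt_exists_rep I M x).choose (dt_exists_rep I M x).choose_spec.choose
  map_add' x y := by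
    obtain ⟨n, f, hx⟩ := dt_exists_rep I M x
    obtain ⟨n', f', hy⟩ := dt_exists_rep I M y
    have hxy : x + y = dtι I M (max n n')
        (f ∘ₗ Submodule.inclusion (Ideal.pow_le_pow_right (le_max_left n n')) +
          f' ∘ₗ Submodule.inclusion (Ideal.pow_le_pow_right (le_max_right n n'))) := by
      rw [map_add, dtι_restrict I M (le_max_left n n'), dtι_restrict I M (le_max_right n n'), hx, hy]
    rw [dtDesc_wd I M φ hφ _ _ ((dt_exists_rep I M (x + y)).choose_spec.choose_spec.trans hxy),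
      dtDesc_wd I M φ hφ _ _ ((dt_exists_rep I M x).choose_spec.choose_spec.trans hx.symm),
      dtDesc_wd I M φ hφ _ _ ((dt_exists_rep I M y).choose_spec.choose_spec.trans hy.symm),
      map_add, hφ (le_max_left n n'), hφ (le_max_right n n')]
  map_smul' r x := by
    obtain ⟨n, f, hx⟩ := dt_exists_rep I M x
    have hrx : r • x = dtι I M n (r • f) := by rw [map_smul, hx]
    rw [dtDesc_wd I M φ hφ _ _ ((dt_exists_rep I M (r • x)).choose_spec.choose_spec.trans hrx),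
      dtDesc_wd I M φ hφ _ _ ((dt_exists_rep I M x).choose_spec.choose_spec.trans hx.symm),
      map_smul, RingHom.id_apply]

theorem dtDesc_dtι (n : ℕ) (f : ↥(I ^ n) →ₗ[R] M) :
    dtDesc I M φ hφ (dtι I M n f) = φ n f :=
  dtDesc_wd I M φ hφ _ _ (dt_exists_rep I M (dtι I M n f)).choose_spec.choose_spec

end DTDesc

end Groth.Agent.H58

namespace Groth.Agent.H58.LC
open Groth.Agent.H58.ExtCompare

variable {R : Type u} [CommRing R] (I : Ideal R)

/-- The short complex `0 → I^n → R → R/I^n → 0`. -/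
noncomputable abbrev Sn (n : ℕ) : ShortComplex (ModuleCat.{u} R) :=
  ShortComplex.mk (ModuleCat.ofHom (I ^ n).subtype) (ModuleCat.ofHom (I ^ n).mkQ) (by
    ext x
    exact (LinearMap.exact_subtype_mkQ (I ^ n)).apply_apply_eq_zero x)

theorem Sn_shortExact (n : ℕ) : (Sn I n).ShortExact :=
  shortExact_of (I ^ n).subtype (I ^ n).mkQ (Submodule.injective_subtype _)
    (Submodule.mkQ_surjective _) (LinearMap.exact_subtype_mkQ _)

/-- The transition morphism `S_m ⟶ S_n` for `n ≤ m`. -/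
noncomputable def SnMap {n m : ℕ} (h : n ≤ m) : Sn I m ⟶ Sn I n where
  τ₁ := ModuleCat.ofHom (Submodule.inclusion (Ideal.pow_le_pow_right h))
  τ₂ := 𝟙 _
  τ₃ := Qmap I h
  comm₁₂ := by ext x; rfl
  comm₂₃ := by ext; rfl

/-- the extension class of `0 → I^n → R → R/I^n → 0`. -/
noncomputable def cn (n : ℕ) : Abelian.Ext (Q I n) (ModuleCat.of R ↥(I ^ n)) 1 :=
  (Sn_shortExact I n).extClass

theorem cn_naturality {n m : ℕ} (h : n ≤ m) :
    (cn I m).comp (Abelian.Ext.mk₀ (ModuleCat.ofHom (Submodule.inclusion (Ideal.pow_le_pow_right h))))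
        (add_zero 1) =
      (Abelian.Ext.mk₀ (Qmap I h)).comp (cn I n) (zero_add 1) :=
  ShortComplex.ShortExact.extClass_naturality (Sn_shortExact I m) (Sn_shortExact I n) (SnMap I h)

variable (M : Type u) [AddCommGroup M] [Module R M]

/-- the connecting map `Hom(I^n, M) → Ext^1(R/I^n, M)` followed by `ι`. -/
noncomputable def ψfam (n : ℕ) :
    (↥(I ^ n) →ₗ[R] M) →ₗ[R] (localCohomology I 1).obj (ModuleCat.of R M) where
  toFun f := ι I 1 (ModuleCat.of R M) n ((cn I n).comp (Abelian.Ext.mk₀ (ModuleCat.ofHom f)) (add_zero 1))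
  map_add' f g := by
    rw [← map_add, ← Abelian.Ext.comp_add, ← Abelian.Ext.mk₀_add]
    rfl
  map_smul' r f := by
    rw [RingHom.id_apply, ← map_smul, ← Abelian.Ext.comp_smul, ← Abelian.Ext.mk₀_smul]
    rfl

theorem ψfam_apply (n : ℕ) (f : ↥(I ^ n) →ₗ[R] M) :
    ψfam I M n f = ι I 1 (ModuleCat.of R M) n
      ((cn I n).comp (Abelian.Ext.mk₀ (ModuleCat.ofHom f)) (add_zero 1)) := rfl

theorem ψfam_compat {n m : ℕ} (h : n ≤ m) (f : ↥(I ^ n) →ₗ[R] M) :
    ψfam I M m (f ∘ₗ Submodule.inclusion (Ideal.pow_le_pow_right h)) = ψfam I M n f := by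
  rw [ψfam_apply, ψfam_apply, ← ι_restrict I 1 _ h, ← comp_assoc₀, ← cn_naturality I h,
    Abelian.Ext.comp_assoc_of_third_deg_zero, Abelian.Ext.mk₀_comp_mk₀]
  rfl

/-- `ψ : D_I(M) → H^1_I(M)` -/
noncomputable def ψ : LocCoh.DT I M →ₗ[R] (localCohomology I 1).obj (ModuleCat.of R M) :=
  dtDesc I M (ψfam I M) (ψfam_compat I M)

theorem ψ_dtι (n : ℕ) (f : ↥(I ^ n) →ₗ[R] M) :
    ψ I M (dtι I M n f) = ι I 1 (ModuleCat.of R M) n
      ((cn I n).comp (Abelian.Ext.mk₀ (ModuleCat.ofHom f)) (add_zero 1)) :=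
  dtDesc_dtι I M (ψfam I M) (ψfam_compat I M) n f

theorem toDT_eq_dtι (m : ℕ) (x : M) : LocCoh.toDT I M x = dtι I M m (smulMap M (I ^ m) x) := by
  rw [toDT_apply, ← dtι_restrict I M (Nat.zero_le m)]
  rfl

instance : Projective (ModuleCat.of R R) := ModuleCat.projective_of_categoryTheory_projective _

theorem ψ_toDT (x : M) : ψ I M (LocCoh.toDT I M x) = 0 := by
  rw [toDT_eq_dtι I M 0, ψ_dtι]
  have h : ModuleCat.ofHom (smulMap M (I ^ 0) x) =
      (Sn I 0).f ≫ ModuleCat.ofHom (LinearMap.toSpanSingleton R M x) := by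
    ext r
    simp [smulMap]
  rw [h, ← Abelian.Ext.mk₀_comp_mk₀, cn, ShortComplex.ShortExact.extClass_comp_assoc, map_zero]

theorem ψ_surjective : Function.Surjective (ψ I M) := by
  intro x
  obtain ⟨n, e, rfl⟩ := exists_rep I 1 (ModuleCat.of R M) x
  have h0 : (Abelian.Ext.mk₀ (Sn I n).g).comp e (zero_add 1) = 0 :=
    Abelian.Ext.eq_zero_of_projective _
  obtain ⟨x₁, hx₁⟩ := Abelian.Ext.contravariant_sequence_exact₃ (Sn_shortExact I n) _ e h0
    (rfl : 1 + 0 = 1)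
  obtain ⟨g, rfl⟩ := exists_mk₀ x₁
  refine ⟨dtι I M n g.hom, ?_⟩
  rw [ψ_dtι]
  congr 1

theorem ker_ψ : LinearMap.ker (ψ I M) = LinearMap.range (LocCoh.toDT I M) := by
  apply le_antisymm
  · intro y hy
    rw [LinearMap.mem_ker] at hy
    obtain ⟨n, f, rfl⟩ := dt_exists_rep I M y
    rw [ψ_dtι, ι_eq_zero_iff] at hy
    obtain ⟨m, h, hm⟩ := hy
    rw [← comp_assoc₀, ← cn_naturality I h, Abelian.Ext.comp_assoc_of_third_deg_zero,
      Abelian.Ext.mk₀_comp_mk₀] at hm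
    obtain ⟨x₂, hx₂⟩ := Abelian.Ext.contravariant_sequence_exact₁ (Sn_shortExact I m) _ _
      (rfl : 1 + 0 = 1) hm
    obtain ⟨g, rfl⟩ := exists_mk₀ x₂
    rw [Abelian.Ext.mk₀_comp_mk₀] at hx₂
    have h1 := (Abelian.Ext.mk₀_bijective _ _).1 hx₂
    refine ⟨g.hom (1 : R), ?_⟩
    rw [toDT_eq_dtι I M m, ← dtι_restrict I M h f]
    congr 1
    ext r
    have h2 := congrArg (fun φ => φ.hom r) h1
    simp only [ModuleCat.hom_comp, ModuleCat.hom_ofHom, LinearMap.comp_apply] at h2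
    rw [LinearMap.comp_apply, ← h2, smulMap_apply]
    change (r : R) • g.hom 1 = g.hom ((I ^ m).subtype r)
    rw [← map_smul, smul_eq_mul, mul_one]
    rfl
  · rintro _ ⟨x, rfl⟩
    exact ψ_toDT I M x

/-- `D_I(M)/η(M) ≃ H^1_I(M)` -/
noncomputable def cokerToDTEquiv :
    (LocCoh.DT I M ⧸ LinearMap.range (LocCoh.toDT I M)) ≃ₗ[R]
      (localCohomology I 1).obj (ModuleCat.of R M) :=
  (Submodule.quotEquivOfEq _ _ (ker_ψ I M).symm).trans
    ((ψ I M).quotKerEquivOfSurjective (ψ_surjective I M))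

end Groth.Agent.H58.LC
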