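import Groth.Agent.H58.LCTorsRes
import Groth.Agent.H58.LCDT

set_option autoImplicit false
set_option linter.unusedSectionVars false
universe u
open CategoryTheory CategoryTheory.Limits Opposite

namespace Groth.Agent.H58.LC

variable {R : Type u} [CommRing R] (I : Ideal R) [IsNoetherianRing R]
variable {S : ShortComplex (ModuleCat.{u} R)} (hS : S.ShortExact)

include hS in
/-- If the cokernel is power-torsion then `H^{i+2}(f)` is bijective. -/
theorem map_f_bijective_of_isTors (h₃ : IsTors I S.X₃) (i : ℕ) :
    Function.Bijective ((localCohomology I (i + 1 + 1)).map S.f).hom := by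
  have h1 := subsingleton_of_isPowerTorsion I i S.X₃ h₃
  have h2 := subsingleton_of_isPowerTorsion I (i + 1) S.X₃ h₃
  constructor
  · rw [injective_iff_map_eq_zero]
    intro x hx
    obtain ⟨x₃, rfl⟩ := exact₁ I (i + 1) hS x hx
    rw [Subsingleton.elim x₃ 0, map_zero]
  · intro y
    exact exact₂ I (i + 1 + 1) hS y (Subsingleton.elim _ _)

include hS in
/-- If the kernel is power-torsion then `H^{i+1}(g)` is bijective. -/
theorem map_g_bijective_of_isTors (h₁ : IsTors I S.X₁) (i : ℕ) :
    Function.Bijective ((localCohomology I (i + 1)).map S.g).hom := by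
  have h1 := subsingleton_of_isPowerTorsion I i S.X₁ h₁
  have h2 := subsingleton_of_isPowerTorsion I (i + 1) S.X₁ h₁
  constructor
  · rw [injective_iff_map_eq_zero]
    intro x hx
    obtain ⟨x₁, rfl⟩ := exact₂ I (i + 1) hS x hx
    rw [Subsingleton.elim x₁ 0, map_zero]
  · intro y
    exact exact₃ I (i + 1) hS y (Subsingleton.elim _ _)

theorem isTors_torsionSub (N : Type u) [AddCommGroup N] [Module R N] :
    IsTors I (ModuleCat.of R (DRing.torsionSub I N)) := by
  rintro ⟨e, n, hn⟩
  refine ⟨n, fun a ha => ?_⟩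
  ext
  exact hn a ha

/-- `H^{i+1}(N) → H^{i+1}(N/Γ_I(N))` is bijective. -/
theorem map_mkQ_torsionSub_bijective (N : Type u) [AddCommGroup N] [Module R N] (i : ℕ) :
    Function.Bijective
      ((localCohomology I (i + 1)).map (ModuleCat.ofHom (DRing.torsionSub I N).mkQ)).hom := by
  have hS := shortExact_of (DRing.torsionSub I N).subtype (DRing.torsionSub I N).mkQ
    (Submodule.injective_subtype _) (Submodule.mkQ_surjective _)
    (LinearMap.exact_subtype_mkQ _)
  exact map_g_bijective_of_isTors I hS (isTors_torsionSub I N) i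

variable (M : Type u) [AddCommGroup M] [Module R M]

/-- `M/Γ_I(M) → D_I(M)` -/
noncomputable def toDTbar : (M ⧸ DRing.torsionSub I M) →ₗ[R] LocCoh.DT I M :=
  (DRing.torsionSub I M).liftQ (LocCoh.toDT I M) (le_of_eq (ker_toDT I M).symm)

theorem toDTbar_injective : Function.Injective (toDTbar I M) := by
  rw [← LinearMap.ker_eq_bot]
  unfold toDTbar
  rw [Submodule.ker_liftQ, ker_toDT, Submodule.mkQ_map_self]

theorem range_toDTbar : LinearMap.range (toDTbar I M) = LinearMap.range (LocCoh.toDT I M) := by
  unfold toDTbar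
  rw [Submodule.range_liftQ]

/-- `H^{i+2}(η_M)` is bijective. -/
theorem map_toDT_bijective (i : ℕ) :
    Function.Bijective
      ((localCohomology I (i + 1 + 1)).map (ModuleCat.ofHom (LocCoh.toDT I M))).hom := by
  have hfac : ModuleCat.ofHom (LocCoh.toDT I M) =
      ModuleCat.ofHom (DRing.torsionSub I M).mkQ ≫ ModuleCat.ofHom (toDTbar I M) := by
    ext x
    rfl
  rw [hfac, Functor.map_comp]
  have h1 := map_mkQ_torsionSub_bijective I M (i + 1)
  have hS := shortExact_of (toDTbar I M) (LinearMap.range (toDTbar I M)).mkQ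
    (toDTbar_injective I M) (Submodule.mkQ_surjective _) (LinearMap.exact_map_mkQ_range _)
  have h3 : IsTors I (ModuleCat.of R (LocCoh.DT I M ⧸ LinearMap.range (toDTbar I M))) := by
    rw [range_toDTbar]
    intro x
    obtain ⟨n, hn⟩ := isPowerTorsion_coker_toDT I M x
    exact ⟨n, hn⟩
  have h2 := map_f_bijective_of_isTors I hS h3 i
  rw [ModuleCat.hom_comp]
  exact h2.comp h1

end Groth.Agent.H58.LC
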