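import Mathlib
/-!
# Comparison of Mathlib's old `Ext R C n` (left-derived `linearYoneda`) with `Abelian.Ext`

`extEquiv X Y n : ((Ext R C n).obj (op X)).obj Y ≃ₗ[R] Abelian.Ext X Y n`, natural in both variables.
-/
open CategoryTheory Limits Opposite

universe v u
namespace Groth.Agent.H58.ExtCompare
set_option linter.unusedSectionVars false

section SC
variable {R : Type u} [Ring R]
variable (S : ShortComplex (ModuleCat.{v} R))

theorem homologyπ_surjective (x : S.homology) : ∃ z : S.cycles, S.homologyπ z = x := by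
  have : Epi S.homologyπ := inferInstance
  exact (ModuleCat.epi_iff_surjective _).1 this x

theorem iCycles_injective : Function.Injective S.iCycles :=
  (ModuleCat.mono_iff_injective _).1 inferInstance

theorem exists_cycle (f : S.X₂) (hf : S.g f = 0) : ∃ z : S.cycles, S.iCycles z = f := by
  refine ⟨S.moduleCatCyclesIso.inv ⟨f, hf⟩, ?_⟩
  exact S.moduleCatCyclesIso_inv_iCycles_apply ⟨f, hf⟩

theorem homologyπ_eq_zero_iff (z : S.cycles) :
    S.homologyπ z = 0 ↔ ∃ y : S.X₁, S.f y = S.iCycles z := by
  constructor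
  · intro h
    have h1 : S.moduleCatHomologyIso.hom (S.homologyπ z) = 0 := by rw [h]; simp
    rw [S.π_moduleCatCyclesIso_hom_apply] at h1
    have h2 : S.moduleCatCyclesIso.hom z ∈ LinearMap.range S.moduleCatToCycles := by
      have := (Submodule.Quotient.mk_eq_zero _).1 h1
      exact this
    obtain ⟨y, hy⟩ := h2
    refine ⟨y, ?_⟩
    have h3 := congrArg Subtype.val hy
    rw [← S.moduleCatCyclesIso_hom_i_apply z]
    exact h3
  · rintro ⟨y, hy⟩
    have h1 : S.toCycles y = z := by
      apply iCycles_injective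
      rw [← hy]
      exact congrArg (fun φ => φ.hom y) S.toCycles_i
    rw [← h1]
    exact congrArg (fun φ => φ.hom y) S.toCycles_comp_homologyπ

end SC

variable {R : Type*} [CommRing R] {C : Type u} [Category.{v} C] [Abelian C] [Linear R C]
  [EnoughProjectives C] [HasExt.{v} C]

variable {X : C} (P : ProjectiveResolution X) (Y : C) (n : ℕ)

open CochainComplex HomComplex in
theorem extMk_zero_eq_zero_iff (f : P.complex.X 0 ⟶ Y) (hf : P.complex.d 1 0 ≫ f = 0) :
    P.extMk f 1 rfl hf = 0 ↔ f = 0 := by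
  constructor
  · intro h
    rw [← P.extEquivCohomologyClass.apply_eq_iff_eq,
      ProjectiveResolution.extEquivCohomologyClass_extMk,
      ProjectiveResolution.extEquivCohomologyClass_zero, CohomologyClass.mk_eq_zero_iff] at h
    rw [Cocycle.toSingleMk_mem_coboundaries_iff _ _ _ _ _ 1 (by simp)] at h
    obtain ⟨g, hg⟩ := h
    have hz : IsZero (P.cochainComplex.X 1) := P.cochainComplex.isZero_of_isStrictlyLE 0 1
    have hg0 : g = 0 := hz.eq_of_src _ _
    rw [hg0, comp_zero] at hg
    have := congrArg (fun φ => (P.cochainComplexXIso (-(0:ℕ)) 0 rfl).inv ≫ φ) hg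
    simpa using this.symm
  · rintro rfl
    exact P.extMk_zero 1 rfl

/-- uniform version of `extMk_eq_zero_iff`, also valid in degree `0`. -/
theorem extMk_eq_zero_iff' (f : P.complex.X n ⟶ Y) (hf : P.complex.d (n+1) n ≫ f = 0) :
    P.extMk f (n+1) rfl hf = 0 ↔
      ∃ y : P.complex.X ((ComplexShape.up ℕ).prev n) ⟶ Y,
        P.complex.d n ((ComplexShape.up ℕ).prev n) ≫ y = f := by
  cases n with
  | zero =>
    rw [extMk_zero_eq_zero_iff]
    have h0 : P.complex.d 0 ((ComplexShape.up ℕ).prev 0) = 0 := by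
      apply P.complex.shape
      simp
    constructor
    · rintro rfl
      exact ⟨0, by simp⟩
    · rintro ⟨y, rfl⟩
      rw [h0, zero_comp]
  | succ p =>
    rw [P.extMk_eq_zero_iff f (p+1+1) rfl hf p rfl]
    have hp : (ComplexShape.up ℕ).prev (p+1) = p := by simp
    rw [hp]

/-- The Hom complex. -/
noncomputable abbrev K : CochainComplex (ModuleCat.{v} R) ℕ := P.complex.linearYonedaObj R Y

/-- View an element of the Hom complex as a morphism. -/
def homOf {P : ProjectiveResolution X} {Y : C} {n : ℕ} (φ : ((K (R := R) P Y).X n : Type v)) :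
    P.complex.X n ⟶ Y := φ

/-- View a morphism as an element of the Hom complex. -/
def ofHom' {P : ProjectiveResolution X} {Y : C} {n : ℕ} (φ : P.complex.X n ⟶ Y) :
    ((K (R := R) P Y).X n : Type v) := φ

@[simp] theorem homOf_add (φ ψ : ((K (R := R) P Y).X n : Type v)) :
    homOf (R := R) (φ + ψ) = homOf (R := R) φ + homOf (R := R) ψ := rfl
@[simp] theorem homOf_smul (r : R) (φ : ((K (R := R) P Y).X n : Type v)) :
    homOf (R := R) (r • φ) = r • homOf (R := R) φ := rfl
@[simp] theorem homOf_ofHom' (φ : P.complex.X n ⟶ Y) :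
    homOf (R := R) (ofHom' (R := R) φ) = φ := rfl
@[simp] theorem ofHom'_homOf (φ : ((K (R := R) P Y).X n : Type v)) :
    ofHom' (R := R) (homOf (R := R) φ) = φ := rfl

theorem homOf_d (i j : ℕ) (φ : ((K (R := R) P Y).X i : Type v)) :
    homOf (R := R) (((K (R := R) P Y).d i j).hom φ) = P.complex.d j i ≫ homOf (R := R) φ := rfl

theorem cocycle_cond (z : ((K (R := R) P Y).sc n).cycles) :
    P.complex.d (n+1) n ≫ homOf (R := R) (((K (R := R) P Y).sc n).iCycles.hom z) = 0 := by
  have h := congrArg (fun φ => φ.hom z) ((K (R := R) P Y).sc n).iCycles_g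
  have h' : P.complex.d ((ComplexShape.up ℕ).next n) n ≫
      homOf (R := R) (((K (R := R) P Y).sc n).iCycles.hom z) = 0 := h
  have hn : (ComplexShape.up ℕ).next n = n + 1 := by simp
  rw [hn] at h'
  exact h'

theorem smul_extMk (r : R) (f : P.complex.X n ⟶ Y) (hf : P.complex.d (n+1) n ≫ f = 0) :
    r • P.extMk f (n+1) rfl hf = P.extMk (r • f) (n+1) rfl (by simp [hf]) := by
  rw [Abelian.Ext.smul_eq_comp_mk₀, P.extMk_comp_mk₀]
  congr 1
  simp

theorem extMk_congr {f g : P.complex.X n ⟶ Y} (h : f = g) (hf : P.complex.d (n+1) n ≫ f = 0) :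
    P.extMk f (n+1) rfl hf = P.extMk g (n+1) rfl (h ▸ hf) := by
  subst h; rfl

/-- cycles → Ext -/
noncomputable def cyclesToExt : ((K (R := R) P Y).sc n).cycles →ₗ[R] Abelian.Ext X Y n where
  toFun z := P.extMk (homOf (R := R) (((K (R := R) P Y).sc n).iCycles.hom z)) (n+1) rfl
    (cocycle_cond P Y n z)
  map_add' z w := by
    rw [P.add_extMk]
    apply extMk_congr
    rw [map_add]; rfl
  map_smul' r z := by
    rw [RingHom.id_apply, smul_extMk]
    apply extMk_congr
    rw [map_smul]; rfl

theorem cyclesToExt_apply (z : ((K (R := R) P Y).sc n).cycles) :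
    cyclesToExt (R := R) P Y n z =
      P.extMk (homOf (R := R) (((K (R := R) P Y).sc n).iCycles.hom z)) (n+1) rfl
        (cocycle_cond P Y n z) := rfl

theorem cyclesToExt_eq_zero_iff (z : ((K (R := R) P Y).sc n).cycles) :
    cyclesToExt (R := R) P Y n z = 0 ↔ ((K (R := R) P Y).sc n).homologyπ z = 0 := by
  rw [cyclesToExt_apply, extMk_eq_zero_iff', homologyπ_eq_zero_iff]
  rfl

theorem toCycles_cyclesToExt :
    ((K (R := R) P Y).sc n).toCycles ≫ ModuleCat.ofHom (cyclesToExt (R := R) P Y n) = 0 := by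
  ext y
  change cyclesToExt (R := R) P Y n (((K (R := R) P Y).sc n).toCycles y) = 0
  rw [cyclesToExt_eq_zero_iff]
  exact congrArg (fun φ => φ.hom y) ((K (R := R) P Y).sc n).toCycles_comp_homologyπ

/-- homology of the Hom complex → Ext -/
noncomputable def homologyToExt :
    (K (R := R) P Y).homology n ⟶ ModuleCat.of R (Abelian.Ext X Y n) :=
  ((K (R := R) P Y).sc n).descHomology (ModuleCat.ofHom (cyclesToExt (R := R) P Y n))
    (toCycles_cyclesToExt P Y n)

theorem homologyToExt_π (z : ((K (R := R) P Y).sc n).cycles) :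
    (homologyToExt (R := R) P Y n).hom (((K (R := R) P Y).sc n).homologyπ z) =
      cyclesToExt (R := R) P Y n z := by
  have h := ((K (R := R) P Y).sc n).π_descHomology (ModuleCat.ofHom (cyclesToExt (R := R) P Y n))
    (toCycles_cyclesToExt P Y n)
  exact congrArg (fun φ => φ.hom z) h

theorem homologyToExt_bijective : Function.Bijective (homologyToExt (R := R) P Y n).hom := by
  constructor
  · rw [injective_iff_map_eq_zero]
    intro x hx
    obtain ⟨z, rfl⟩ := homologyπ_surjective _ x
    rw [homologyToExt_π, cyclesToExt_eq_zero_iff] at hx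
    exact hx
  · intro α
    obtain ⟨f, hf, rfl⟩ := P.extMk_surjective α (n+1) rfl
    have hg : ((K (R := R) P Y).sc n).g (ofHom' (R := R) f) = 0 := by
      have hn : (ComplexShape.up ℕ).next n = n + 1 := by simp
      change P.complex.d ((ComplexShape.up ℕ).next n) n ≫ f = 0
      rw [hn]; exact hf
    obtain ⟨z, hz⟩ := exists_cycle _ _ hg
    refine ⟨((K (R := R) P Y).sc n).homologyπ z, ?_⟩
    rw [homologyToExt_π, cyclesToExt_apply]
    apply extMk_congr
    change homOf (R := R) (((K (R := R) P Y).sc n).iCycles z) = f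
    rw [hz]; rfl


section Naturality
variable {V : Type*} [Category V] [Abelian V] {ι : Type*} {c : ComplexShape ι}

theorem homologyUnop_hom_naturality {K L : HomologicalComplex Vᵒᵖ c} (φ : K ⟶ L) (i : ι) :
    HomologicalComplex.homologyMap ((HomologicalComplex.unopFunctor V c).map φ.op) i ≫
        (K.homologyUnop i).hom =
      (L.homologyUnop i).hom ≫ (HomologicalComplex.homologyMap φ i).unop := by
  have h := HomologicalComplex.homologyOp_hom_naturality
    ((HomologicalComplex.unopFunctor V c).map φ.op) i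
  have h2 := congrArg Quiver.Hom.unop h
  exact h2.symm

variable {R : Type*} [CommRing R] {C : Type u} [Category.{v} C] [Abelian C] [Linear R C]
  [EnoughProjectives C] [HasExt.{v} C]

variable {X : C} (P : ProjectiveResolution X) {Y Y' : C} (g : Y ⟶ Y') (n : ℕ)

/-- postcomposition on Hom complexes -/
noncomputable def Kmap : K (R := R) P Y ⟶ K (R := R) P Y' :=
  (HomologicalComplex.unopFunctor _ _).map
    ((NatTrans.mapHomologicalComplex ((linearYoneda R C).map g).rightOp (ComplexShape.down ℕ)).app
      P.complex).op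

theorem Kmap_f_apply (i : ℕ) (φ : ((K (R := R) P Y).X i : Type v)) :
    homOf (R := R) (((Kmap (R := R) P g).f i).hom φ) = homOf (R := R) φ ≫ g := rfl

theorem iso_square_aux {D : Type*} [Category D] {A B A' B' : D} (hU : A ≅ B) (hU' : A' ≅ B')
    (hm : A ⟶ A') (mu : B ⟶ B') (h : hm ≫ hU'.hom = hU.hom ≫ mu) :
    hU.inv ≫ hm = mu ≫ hU'.inv := by
  rw [Iso.inv_comp_eq, ← Category.assoc, Iso.eq_comp_inv, h]

theorem comp_square_aux {D : Type*} [Category D] {A0 A1 A2 A3 A4 A5 : D} (x : A0 ⟶ A1) (y : A1 ⟶ A2)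
    (p : A2 ⟶ A3) (q : A3 ⟶ A2) (hpq : p ≫ q = 𝟙 _) (w : A2 ⟶ A4) (u : A1 ⟶ A5) (hm : A5 ⟶ A4)
    (h2 : u ≫ hm = y ≫ w) : (x ≫ y ≫ p) ≫ (q ≫ w) = (x ≫ u) ≫ hm := by
  simp only [Category.assoc]
  rw [reassoc_of% hpq, h2]

theorem ext_map_eq :
    ((Ext R C n).obj (op X)).map g =
      ((NatTrans.leftDerived ((linearYoneda R C).map g).rightOp n).app X).unop := rfl

theorem ext_map_isoExt :
    ((Ext R C n).obj (op X)).map g ≫ (P.isoExt n Y').hom =
      (P.isoExt n Y).hom ≫ HomologicalComplex.homologyMap (Kmap (R := R) P g) n := by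
  rw [ext_map_eq, P.leftDerived_app_eq]
  have hnat := homologyUnop_hom_naturality
    ((NatTrans.mapHomologicalComplex ((linearYoneda R C).map g).rightOp (ComplexShape.down ℕ)).app
      P.complex) n
  set a' := P.isoLeftDerivedObj ((linearYoneda R C).obj Y').rightOp n
  set a := P.isoLeftDerivedObj ((linearYoneda R C).obj Y).rightOp n
  set m := HomologicalComplex.homologyMap
    ((NatTrans.mapHomologicalComplex ((linearYoneda R C).map g).rightOp (ComplexShape.down ℕ)).app
      P.complex) n
  set hU' := ((((linearYoneda R C).obj Y').rightOp.mapHomologicalComplex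
    (ComplexShape.down ℕ)).obj P.complex).homologyUnop n
  set hU := ((((linearYoneda R C).obj Y).rightOp.mapHomologicalComplex
    (ComplexShape.down ℕ)).obj P.complex).homologyUnop n
  change (a.inv.unop ≫ m.unop ≫ a'.hom.unop) ≫ (a'.inv.unop ≫ hU'.inv) =
    (a.inv.unop ≫ hU.inv) ≫ HomologicalComplex.homologyMap (Kmap (R := R) P g) n
  have h1 : a'.hom.unop ≫ a'.inv.unop = 𝟙 _ := by
    rw [← unop_comp, a'.inv_hom_id]; rfl
  have h2 : hU.inv ≫ HomologicalComplex.homologyMap (Kmap (R := R) P g) n = m.unop ≫ hU'.inv := by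
    exact iso_square_aux hU hU' _ _ hnat
  exact comp_square_aux _ _ _ _ h1 _ _ _ h2

theorem homologyMap_homologyToExt (x : (K (R := R) P Y).homology n) :
    (homologyToExt (R := R) P Y' n).hom
        ((HomologicalComplex.homologyMap (Kmap (R := R) P g) n).hom x) =
      ((homologyToExt (R := R) P Y n).hom x).comp (Abelian.Ext.mk₀ g) (add_zero n) := by
  obtain ⟨z, rfl⟩ := homologyπ_surjective _ x
  have h1 : (HomologicalComplex.homologyMap (Kmap (R := R) P g) n).hom
      (((K (R := R) P Y).sc n).homologyπ z) =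
      ((K (R := R) P Y').sc n).homologyπ
        ((ShortComplex.cyclesMap ((HomologicalComplex.shortComplexFunctor _ _ n).map
          (Kmap (R := R) P g))).hom z) :=
    congrArg (fun φ => φ.hom z) (ShortComplex.homologyπ_naturality
      ((HomologicalComplex.shortComplexFunctor _ _ n).map (Kmap (R := R) P g)))
  rw [h1, homologyToExt_π, homologyToExt_π, cyclesToExt_apply, cyclesToExt_apply,
    P.extMk_comp_mk₀]
  apply extMk_congr
  have h2 := congrArg (fun φ => φ.hom z) (ShortComplex.cyclesMap_i
      ((HomologicalComplex.shortComplexFunctor _ _ n).map (Kmap (R := R) P g)))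
  exact congrArg (homOf (R := R)) h2

section Left
variable {X X' : C} {P : ProjectiveResolution X} {P' : ProjectiveResolution X'} {f : X' ⟶ X}
  (φ : ProjectiveResolution.Hom P' P f) (Y : C) (n : ℕ)

/-- precomposition on Hom complexes -/
noncomputable def Kpre : K (R := R) P Y ⟶ K (R := R) P' Y :=
  (HomologicalComplex.unopFunctor _ _).map
    ((((linearYoneda R C).obj Y).rightOp.mapHomologicalComplex (ComplexShape.down ℕ)).map φ.hom).op

theorem Kpre_f_apply (i : ℕ) (ψ : ((K (R := R) P Y).X i : Type v)) :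
    homOf (R := R) (((Kpre (R := R) φ Y).f i).hom ψ) = φ.hom.f i ≫ homOf (R := R) ψ := rfl

theorem ext_map_left_eq :
    ((Ext R C n).map f.op).app Y =
      ((((linearYoneda R C).obj Y).rightOp.leftDerived n).map f).unop := rfl

theorem ext_map_left_isoExt :
    ((Ext R C n).map f.op).app Y ≫ (P'.isoExt n Y).hom =
      (P.isoExt n Y).hom ≫ HomologicalComplex.homologyMap (Kpre (R := R) φ Y) n := by
  rw [ext_map_left_eq,
    Functor.leftDerived_map_eq ((linearYoneda R C).obj Y).rightOp n f φ.hom φ.hom_comp_π]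
  have hnat := homologyUnop_hom_naturality
    ((((linearYoneda R C).obj Y).rightOp.mapHomologicalComplex (ComplexShape.down ℕ)).map φ.hom) n
  set a' := P'.isoLeftDerivedObj ((linearYoneda R C).obj Y).rightOp n
  set a := P.isoLeftDerivedObj ((linearYoneda R C).obj Y).rightOp n
  set m := HomologicalComplex.homologyMap
    ((((linearYoneda R C).obj Y).rightOp.mapHomologicalComplex (ComplexShape.down ℕ)).map φ.hom) n
  set hU' := ((((linearYoneda R C).obj Y).rightOp.mapHomologicalComplex
    (ComplexShape.down ℕ)).obj P'.complex).homologyUnop n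
  set hU := ((((linearYoneda R C).obj Y).rightOp.mapHomologicalComplex
    (ComplexShape.down ℕ)).obj P.complex).homologyUnop n
  change (a.inv.unop ≫ m.unop ≫ a'.hom.unop) ≫ (a'.inv.unop ≫ hU'.inv) =
    (a.inv.unop ≫ hU.inv) ≫ HomologicalComplex.homologyMap (Kpre (R := R) φ Y) n
  have h1 : a'.hom.unop ≫ a'.inv.unop = 𝟙 _ := by
    rw [← unop_comp, a'.inv_hom_id]; rfl
  have h2 : hU.inv ≫ HomologicalComplex.homologyMap (Kpre (R := R) φ Y) n = m.unop ≫ hU'.inv := by
    exact iso_square_aux hU hU' _ _ hnat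
  exact comp_square_aux _ _ _ _ h1 _ _ _ h2

theorem homologyMap_pre_homologyToExt (x : (K (R := R) P Y).homology n) :
    (homologyToExt (R := R) P' Y n).hom
        ((HomologicalComplex.homologyMap (Kpre (R := R) φ Y) n).hom x) =
      (Abelian.Ext.mk₀ f).comp ((homologyToExt (R := R) P Y n).hom x) (zero_add n) := by
  obtain ⟨z, rfl⟩ := homologyπ_surjective _ x
  have h1 : (HomologicalComplex.homologyMap (Kpre (R := R) φ Y) n).hom
      (((K (R := R) P Y).sc n).homologyπ z) =
      ((K (R := R) P' Y).sc n).homologyπ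
        ((ShortComplex.cyclesMap ((HomologicalComplex.shortComplexFunctor _ _ n).map
          (Kpre (R := R) φ Y))).hom z) :=
    congrArg (fun φ => φ.hom z) (ShortComplex.homologyπ_naturality
      ((HomologicalComplex.shortComplexFunctor _ _ n).map (Kpre (R := R) φ Y)))
  rw [h1, homologyToExt_π, homologyToExt_π, cyclesToExt_apply, cyclesToExt_apply,
    ProjectiveResolution.mk₀_comp_extMk _ _ _ _ φ]
  apply extMk_congr
  have h2 := congrArg (fun φ => φ.hom z) (ShortComplex.cyclesMap_i
      ((HomologicalComplex.shortComplexFunctor _ _ n).map (Kpre (R := R) φ Y)))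
  exact congrArg (homOf (R := R)) h2

end Left

section Main
variable {X : C} (P : ProjectiveResolution X) (Y : C) (n : ℕ)

/-- comparison of the two `Ext`s computed with a given resolution -/
noncomputable def extEquivOfRes :
    ((Ext R C n).obj (op X)).obj Y ≃ₗ[R] Abelian.Ext X Y n :=
  ((P.isoExt n Y).toLinearEquiv).trans
    (LinearEquiv.ofBijective (homologyToExt (R := R) P Y n).hom (homologyToExt_bijective P Y n))

theorem extEquivOfRes_apply (x : ((Ext R C n).obj (op X)).obj Y) :
    extEquivOfRes (R := R) P Y n x = (homologyToExt (R := R) P Y n).hom ((P.isoExt n Y).hom x) := rfl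

theorem extEquivOfRes_naturality_right {Y Y' : C} (g : Y ⟶ Y')
    (x : ((Ext R C n).obj (op X)).obj Y) :
    extEquivOfRes (R := R) P Y' n ((((Ext R C n).obj (op X)).map g).hom x) =
      (extEquivOfRes (R := R) P Y n x).comp (Abelian.Ext.mk₀ g) (add_zero n) := by
  rw [extEquivOfRes_apply, extEquivOfRes_apply, ← homologyMap_homologyToExt]
  congr 1
  exact congrArg (fun φ => φ.hom x) (ext_map_isoExt (R := R) P g n)

theorem extEquivOfRes_naturality_left {X X' : C} {P : ProjectiveResolution X}
    {P' : ProjectiveResolution X'} {f : X' ⟶ X} (φ : ProjectiveResolution.Hom P' P f) (Y : C)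
    (n : ℕ) (x : ((Ext R C n).obj (op X)).obj Y) :
    extEquivOfRes (R := R) P' Y n ((((Ext R C n).map f.op).app Y).hom x) =
      (Abelian.Ext.mk₀ f).comp (extEquivOfRes (R := R) P Y n x) (zero_add n) := by
  rw [extEquivOfRes_apply, extEquivOfRes_apply, ← homologyMap_pre_homologyToExt φ]
  congr 1
  exact congrArg (fun φ => φ.hom x) (ext_map_left_isoExt (R := R) φ Y n)

/-- existence of a lift of a morphism to resolutions -/
noncomputable def liftHom {X X' : C} (P : ProjectiveResolution X) (P' : ProjectiveResolution X')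
    (f : X' ⟶ X) : ProjectiveResolution.Hom P' P f where
  hom := ProjectiveResolution.lift f P' P
  hom_f_zero_comp_π_f_zero := by
    have := ProjectiveResolution.lift_commutes_zero f P' P
    simpa using this

theorem extEquivOfRes_eq (P P' : ProjectiveResolution X) :
    extEquivOfRes (R := R) P Y n = extEquivOfRes (R := R) P' Y n := by
  ext x
  have h := extEquivOfRes_naturality_left (R := R) (liftHom P P' (𝟙 X)) Y n x
  rw [Abelian.Ext.mk₀_id_comp] at h
  rw [← h]
  congr 1
  have : ((Ext R C n).map (𝟙 X).op).app Y = 𝟙 _ := by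
    rw [op_id, CategoryTheory.Functor.map_id]; rfl
  rw [this]; rfl

/-- The comparison between Mathlib's old `Ext` and `Abelian.Ext`. -/
noncomputable def extEquiv (X Y : C) (n : ℕ) :
    ((Ext R C n).obj (op X)).obj Y ≃ₗ[R] Abelian.Ext X Y n :=
  extEquivOfRes (R := R) (projectiveResolution X) Y n

theorem extEquiv_naturality_right (X : C) {Y Y' : C} (g : Y ⟶ Y') (n : ℕ)
    (x : ((Ext R C n).obj (op X)).obj Y) :
    extEquiv (R := R) X Y' n ((((Ext R C n).obj (op X)).map g).hom x) =
      (extEquiv (R := R) X Y n x).comp (Abelian.Ext.mk₀ g) (add_zero n) :=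
  extEquivOfRes_naturality_right _ _ g x

theorem extEquiv_naturality_left {X X' : C} (f : X' ⟶ X) (Y : C) (n : ℕ)
    (x : ((Ext R C n).obj (op X)).obj Y) :
    extEquiv (R := R) X' Y n ((((Ext R C n).map f.op).app Y).hom x) =
      (Abelian.Ext.mk₀ f).comp (extEquiv (R := R) X Y n x) (zero_add n) :=
  extEquivOfRes_naturality_left (liftHom _ _ f) Y n x

end Main

end Naturality

end Groth.Agent.H58.ExtCompare
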