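import Groth.Agent.H58.LCLocSeq
import Groth.Agent.H58.LCFlat2
import Groth.Agent.H58.LCCd

/-!
# The comparison map `H^i_{I'}(M) → H^i_I(M)` for `I ≤ I'`

Surjectivity / injectivity criteria in terms of the vanishing of the local cohomology of the
localizations `M_p` with support in the closed point, for `p ∈ V(I) \ V(I')`.
-/
set_option autoImplicit false
set_option linter.unusedSectionVars false
universe u
open CategoryTheory CategoryTheory.Limits Opposite TensorProduct

namespace Groth.Agent.H58.LC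
open Groth.Agent.H58 Groth.Agent.H58.ExtCompare

section Comp
variable {R : Type u} [CommRing R]

theorem qLE_comp {I J K : Ideal R} (h₁ : I ≤ J) (h₂ : J ≤ K) (n : ℕ) :
    qLE h₁ n ≫ qLE h₂ n = qLE (h₁.trans h₂) n := by
  apply hom_ext_Q
  rfl

theorem qLE_refl {I : Ideal R} (h : I ≤ I) (n : ℕ) : qLE h n = 𝟙 (Q I n) := by
  apply hom_ext_Q
  rfl

theorem HmapOfLE_comp_apply {I J K : Ideal R} (h₁ : I ≤ J) (h₂ : J ≤ K) (i : ℕ)
    (M : ModuleCat.{u} R) (x : (localCohomology K i).obj M) :
    ((Dual2.HmapOfLE h₁ i).app M).hom (((Dual2.HmapOfLE h₂ i).app M).hom x) =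
      ((Dual2.HmapOfLE (h₁.trans h₂) i).app M).hom x := by
  obtain ⟨n, e, rfl⟩ := exists_rep K i M x
  rw [HmapOfLE_ι, HmapOfLE_ι, HmapOfLE_ι, Abelian.Ext.mk₀_comp_mk₀_assoc, qLE_comp]

theorem HmapOfLE_refl_apply {I : Ideal R} (h : I ≤ I) (i : ℕ)
    (M : ModuleCat.{u} R) (x : (localCohomology I i).obj M) :
    ((Dual2.HmapOfLE h i).app M).hom x = x := by
  obtain ⟨n, e, rfl⟩ := exists_rep I i M x
  rw [HmapOfLE_ι, qLE_refl, Abelian.Ext.mk₀_id_comp]

theorem HmapOfLE_bijective_of_eq {I K : Ideal R} (h : I ≤ K) (e : K = I) (i : ℕ)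
    (M : ModuleCat.{u} R) : Function.Bijective ((Dual2.HmapOfLE h i).app M).hom := by
  subst e
  have : ((Dual2.HmapOfLE h i).app M).hom = LinearMap.id := by
    apply LinearMap.ext
    intro x
    exact HmapOfLE_refl_apply h i M x
  rw [this]
  exact Function.bijective_id

end Comp

section Loc
variable {A : Type u} [CommRing A] [IsNoetherianRing A]

/-- If `q` is prime and `H^j_{qA_q}(M_q) = 0`, every element of `H^j_q(M)` is killed by some
`t ∉ q`. -/
theorem exists_smul_eq_zero_of_subsingleton_localized (q : Ideal A) [q.IsPrime] (M : Type u)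
    [AddCommGroup M] [Module A M] (j : ℕ)
    (hq : Subsingleton (LocCoh.H (IsLocalRing.maximalIdeal (Localization.AtPrime q)) j
      (LocalizedModule q.primeCompl M)))
    (η : LocCoh.H q j M) : ∃ t : A, t ∉ q ∧ t • η = 0 := by
  obtain ⟨e⟩ := fbProp (R' := Localization.AtPrime q) q j M
  have hmap : Ideal.map (algebraMap A (Localization.AtPrime q)) q =
      IsLocalRing.maximalIdeal (Localization.AtPrime q) :=
    Localization.AtPrime.map_eq_maximalIdeal
  have h1 : Subsingleton (LocCoh.H (Ideal.map (algebraMap A (Localization.AtPrime q)) q) j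
      (Localization.AtPrime q ⊗[A] M)) := by
    rw [hmap]
    exact subsingleton_H_of_linearEquiv _ (LocalizedModule.equivTensorProduct q.primeCompl M) j hq
  have h2 : Subsingleton (Localization.AtPrime q ⊗[A] LocCoh.H q j M) := e.toEquiv.subsingleton
  have h3 : Subsingleton (LocalizedModule q.primeCompl (LocCoh.H q j M)) :=
    (LocalizedModule.equivTensorProduct q.primeCompl _).toEquiv.subsingleton
  have h4 : LocalizedModule.mk η (1 : q.primeCompl) = LocalizedModule.mk 0 1 :=
    Subsingleton.elim _ _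
  rw [LocalizedModule.mk_eq] at h4
  obtain ⟨u, hu⟩ := h4
  refine ⟨u.1, u.2, ?_⟩
  rw [one_smul, one_smul, smul_zero] at hu
  exact hu

/-- If `q` is a minimal prime over `𝔞` and `x ∈ q`, then `t * x ^ n ∈ 𝔞` for some `t ∉ q`. -/
theorem exists_mul_pow_mem_of_mem_minimalPrimes {𝔞 q : Ideal A} (hq : q ∈ 𝔞.minimalPrimes)
    {x : A} (hx : x ∈ q) : ∃ t : A, t ∉ q ∧ ∃ n : ℕ, t * x ^ n ∈ 𝔞 := by
  haveI : q.IsPrime := hq.1.1
  have h1 := IsLocalization.AtPrime.radical_map_of_mem_minimalPrimes
    (A := Localization.AtPrime q) q 𝔞 hq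
  have h2 : algebraMap A (Localization.AtPrime q) x ∈
      (𝔞.map (algebraMap A (Localization.AtPrime q))).radical := by
    rw [h1]
    exact Ideal.mem_map_of_mem _ hx
  obtain ⟨n, hn⟩ := h2
  rw [← map_pow, IsLocalization.mem_map_algebraMap_iff q.primeCompl] at hn
  obtain ⟨⟨a, s⟩, has⟩ := hn
  rw [← map_mul, IsLocalization.eq_iff_exists q.primeCompl] at has
  obtain ⟨c, hc⟩ := has
  refine ⟨c.1 * s.1, fun h => ?_, n, ?_⟩
  · rcases Ideal.IsPrime.mem_or_mem ‹q.IsPrime› h with h | h
    · exact c.2 h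
    · exact s.2 h
  · have : c.1 * s.1 * x ^ n = c.1 * a.1 := by
      rw [← hc]; ring
    rw [this]
    exact Ideal.mul_mem_left _ _ a.2

end Loc

section Key
variable {A : Type u} [CommRing A] [IsNoetherianRing A]

/-- Key lemma: if `H^j_{pA_p}(M_p) = 0` for all `p ∈ V(I) \ V(I')`, then for every `J ⊇ I` the
module `H^j_J(M)` is `I'`-power torsion. -/
theorem isTors_H_of_vanishing (I I' : Ideal A) (M : Type u) [AddCommGroup M] [Module A M] (j : ℕ)
    (hyp : ∀ p : PrimeSpectrum A, I ≤ p.asIdeal → ¬ I' ≤ p.asIdeal →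
      Subsingleton (LocCoh.H (IsLocalRing.maximalIdeal (Localization.AtPrime p.asIdeal)) j
        (LocalizedModule p.asIdeal.primeCompl M))) :
    ∀ J : Ideal A, I ≤ J → ∀ η : LocCoh.H J j M, ∃ k : ℕ, ∀ r ∈ I' ^ k, r • η = 0 := by
  intro J
  refine IsNoetherian.induction (P := fun J => I ≤ J → ∀ η : LocCoh.H J j M,
    ∃ k : ℕ, ∀ r ∈ I' ^ k, r • η = 0) ?_ J
  intro J ih hIJ η
  by_cases hrad : I' ≤ (Ideal.torsionOf A _ η).radical
  · obtain ⟨k, hk⟩ := Ideal.exists_pow_le_of_le_radical_of_fg hrad (IsNoetherian.noetherian I')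
    exact ⟨k, fun r hr => (Ideal.mem_torsionOf_iff _ _).1 (hk hr)⟩
  · exfalso
    have hex : ∃ q ∈ (Ideal.torsionOf A _ η).minimalPrimes, ¬ I' ≤ q := by
      by_contra hcon
      push_neg at hcon
      apply hrad
      rw [← Ideal.sInf_minimalPrimes]
      exact le_sInf hcon
    obtain ⟨q, hq, hI'q⟩ := hex
    haveI : q.IsPrime := hq.1.1
    have h𝔞q : Ideal.torsionOf A _ η ≤ q := hq.1.2
    have hJq : J ≤ q := by
      obtain ⟨n, hn⟩ := isTors_H J j (ModuleCat.of A M) η
      have : J ^ n ≤ q := fun r hr => h𝔞q ((Ideal.mem_torsionOf_iff _ _).2 (hn r hr))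
      exact Ideal.IsPrime.le_of_pow_le this
    have hq0 := hyp ⟨q, inferInstance⟩ (hIJ.trans hJq) hI'q
    by_cases hqJ : q ≤ J
    · have hJ : J = q := le_antisymm hJq hqJ
      subst hJ
      obtain ⟨t, ht, htη⟩ := exists_smul_eq_zero_of_subsingleton_localized J M j hq0 η
      exact ht (h𝔞q ((Ideal.mem_torsionOf_iff _ _).2 htη))
    · obtain ⟨x, hxq, hxJ⟩ := Set.not_subset.1 hqJ
      obtain ⟨t, ht, n, hn⟩ := exists_mul_pow_mem_of_mem_minimalPrimes hq hxq
      have h1 : x ^ n • (t • η) = 0 := by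
        rw [smul_smul, mul_comm]
        exact (Ideal.mem_torsionOf_iff _ _).1 hn
      obtain ⟨η'', hη''⟩ := (mem_range_HmapOfLE_iff J x
        (CategoryTheory.injectiveResolution (ModuleCat.of A M)) j (t • η)).2 ⟨n, h1⟩
      have hlt : J < J ⊔ Ideal.span {x} := by
        refine lt_of_le_of_ne le_sup_left (fun h => hxJ ?_)
        rw [h]
        exact Ideal.mem_sup_right (Ideal.mem_span_singleton_self x)
      obtain ⟨k, hk⟩ := ih (J ⊔ Ideal.span {x}) hlt (hIJ.trans le_sup_left) η''
      apply hI'q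
      have : I' ^ k ≤ q := by
        intro r hr
        have h2 : r • (t • η) = 0 := by
          rw [← hη'', ← map_smul, hk r hr, map_zero]
        have h3 : r * t ∈ Ideal.torsionOf A _ η :=
          (Ideal.mem_torsionOf_iff _ _).2 (by rw [mul_smul]; exact h2)
        rcases Ideal.IsPrime.mem_or_mem ‹q.IsPrime› (h𝔞q h3) with h | h
        · exact h
        · exact absurd h ht
      exact Ideal.IsPrime.le_of_pow_le this

end Key

section Chain
variable {A : Type u} [CommRing A] [IsNoetherianRing A]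

theorem surjective_HmapOfLE_span (I' : Ideal A) (M : Type u) [AddCommGroup M] [Module A M]
    (i : ℕ) (s : Finset A) :
    (↑s ⊆ (I' : Set A)) → ∀ (I : Ideal A),
      (∀ J : Ideal A, I ≤ J → ∀ η : LocCoh.H J i M, ∃ k : ℕ, ∀ r ∈ I' ^ k, r • η = 0) →
      ∀ (K : Ideal A) (_ : K = I ⊔ Ideal.span (s : Set A)) (h : I ≤ K),
        Function.Surjective ((Dual2.HmapOfLE h i).app (ModuleCat.of A M)).hom := by
  classical
  induction s using Finset.induction_on with
  | empty =>
    intro _ I _ K hK h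
    exact (HmapOfLE_bijective_of_eq h (by simpa using hK) i _).2
  | insert a s ha ih =>
    intro hs I hI K hK h
    have ha' : a ∈ I' := hs (by simp)
    have hs' : ↑s ⊆ (I' : Set A) := fun x hx => hs (by simp [Finset.mem_coe.1 hx])
    have hK' : K = (I ⊔ Ideal.span {a}) ⊔ Ideal.span (s : Set A) := by
      rw [hK, Finset.coe_insert, Ideal.span_insert, sup_assoc]
    have h₁ : I ≤ I ⊔ Ideal.span {a} := le_sup_left
    have h₂ : I ⊔ Ideal.span {a} ≤ K := by rw [hK']; exact le_sup_left
    have S2 := ih hs' (I ⊔ Ideal.span {a}) (fun J hJ => hI J (le_sup_left.trans hJ)) K hK' h₂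
    have S1 : Function.Surjective ((Dual2.HmapOfLE h₁ i).app (ModuleCat.of A M)).hom := by
      intro y
      obtain ⟨k, hk⟩ := hI I le_rfl y
      exact (mem_range_HmapOfLE_iff I a
        (CategoryTheory.injectiveResolution (ModuleCat.of A M)) i y).2
        ⟨k, hk _ (Ideal.pow_mem_pow ha' k)⟩
    intro y
    obtain ⟨y1, rfl⟩ := S1 y
    obtain ⟨y2, rfl⟩ := S2 y1
    exact ⟨y2, (HmapOfLE_comp_apply h₁ h₂ i _ y2).symm⟩

theorem injective_HmapOfLE_span (I' : Ideal A) (M : Type u) [AddCommGroup M] [Module A M]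
    (j : ℕ) (s : Finset A) :
    (↑s ⊆ (I' : Set A)) → ∀ (I : Ideal A),
      (∀ J : Ideal A, I ≤ J → ∀ η : LocCoh.H J j M, ∃ k : ℕ, ∀ r ∈ I' ^ k, r • η = 0) →
      ∀ (K : Ideal A) (_ : K = I ⊔ Ideal.span (s : Set A)) (h : I ≤ K),
        Function.Injective ((Dual2.HmapOfLE h (j + 1)).app (ModuleCat.of A M)).hom := by
  classical
  induction s using Finset.induction_on with
  | empty =>
    intro _ I _ K hK h
    exact (HmapOfLE_bijective_of_eq h (by simpa using hK) (j + 1) _).1
  | insert a s ha ih =>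
    intro hs I hI K hK h
    have ha' : a ∈ I' := hs (by simp)
    have hs' : ↑s ⊆ (I' : Set A) := fun x hx => hs (by simp [Finset.mem_coe.1 hx])
    have hK' : K = (I ⊔ Ideal.span {a}) ⊔ Ideal.span (s : Set A) := by
      rw [hK, Finset.coe_insert, Ideal.span_insert, sup_assoc]
    have h₁ : I ≤ I ⊔ Ideal.span {a} := le_sup_left
    have h₂ : I ⊔ Ideal.span {a} ≤ K := by rw [hK']; exact le_sup_left
    have S2 := ih hs' (I ⊔ Ideal.span {a}) (fun J hJ => hI J (le_sup_left.trans hJ)) K hK' h₂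
    have S1 : Function.Injective ((Dual2.HmapOfLE h₁ (j + 1)).app (ModuleCat.of A M)).hom := by
      have hN : ∀ x : (ModuleCat.of A ((localCohomology I j).obj (ModuleCat.of A M)) : ModuleCat.{u} A),
          x ∈ DRing.torsionSub (Ideal.span {a})
            (ModuleCat.of A ((localCohomology I j).obj (ModuleCat.of A M)) : ModuleCat.{u} A) := by
        intro x
        obtain ⟨k, hk⟩ := hI I le_rfl x
        refine ⟨k, fun r hr => ?_⟩
        obtain ⟨c, rfl⟩ := (mem_span_singleton_pow a).mp hr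
        rw [mul_smul]
        have : a ^ k • x = 0 := hk _ (Ideal.pow_mem_pow ha' k)
        rw [this, smul_zero]
      have hsub := subsingleton_of_isPowerTorsion (Ideal.span {a}) 0 _ hN
      have hker : Subsingleton (LinearMap.ker
          ((Dual2.HmapOfLE h₁ (j + 1)).app (ModuleCat.of A M)).hom) :=
        (kerHmapEquiv I a (CategoryTheory.injectiveResolution (ModuleCat.of A M)) j).toEquiv.subsingleton
      rw [← LinearMap.ker_eq_bot]
      exact Submodule.eq_bot_of_subsingleton
    intro y y' hy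
    apply S2
    apply S1
    rw [HmapOfLE_comp_apply h₁ h₂, HmapOfLE_comp_apply h₁ h₂]
    exact hy

/-- The comparison theorem. -/
theorem comparison (I I' : Ideal A) (h : I ≤ I') (M : Type u) [AddCommGroup M] [Module A M]
    (i : ℕ) :
    ((∀ p : PrimeSpectrum A, I ≤ p.asIdeal → ¬ I' ≤ p.asIdeal →
        Subsingleton (LocCoh.H (IsLocalRing.maximalIdeal (Localization.AtPrime p.asIdeal)) i
          (LocalizedModule p.asIdeal.primeCompl M))) →
      Function.Surjective ((Dual2.HmapOfLE h i).app (ModuleCat.of A M)).hom) ∧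
    ((∀ p : PrimeSpectrum A, I ≤ p.asIdeal → ¬ I' ≤ p.asIdeal → ∀ j : ℕ, j + 1 = i →
        Subsingleton (LocCoh.H (IsLocalRing.maximalIdeal (Localization.AtPrime p.asIdeal)) j
          (LocalizedModule p.asIdeal.primeCompl M))) →
      Function.Injective ((Dual2.HmapOfLE h i).app (ModuleCat.of A M)).hom) := by
  obtain ⟨s, hs⟩ := (IsNoetherian.noetherian I' : I'.FG)
  have hsub : ↑s ⊆ (I' : Set A) := by
    intro x hx
    rw [← hs]
    exact Ideal.subset_span hx
  have hK : I' = I ⊔ Ideal.span (s : Set A) := by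
    rw [show Ideal.span (s : Set A) = I' from hs]
    exact (sup_eq_right.2 h).symm
  constructor
  · intro hyp
    exact surjective_HmapOfLE_span I' M i s hsub I (isTors_H_of_vanishing I I' M i hyp) I' hK h
  · intro hyp
    cases i with
    | zero => exact HmapOfLE_zero_injective h _
    | succ j =>
      exact injective_HmapOfLE_span I' M j s hsub I
        (isTors_H_of_vanishing I I' M j (fun p h1 h2 => hyp p h1 h2 j rfl)) I' hK h

end Chain

end Groth.Agent.H58.LC
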