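import Mathlib.RingTheory.Ideal.Height
import Mathlib.RingTheory.Ideal.KrullsHeightTheorem
import Mathlib.RingTheory.Spectrum.Prime.Topology

/-!
# Additivity inequality for heights in quotients, and primes of height one in between
-/
set_option autoImplicit false
universe u

namespace Groth.Agent.H58.HeightAdd

variable {R : Type u} [CommRing R]

/-- order-theoretic core -/
theorem order_height_add_le {α β : Type*} [Preorder α] [Preorder β] (φ : α → β)
    (hφ : StrictMono φ) (c : β) (hc : ∀ z : α, c ≤ φ z) :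
    ∀ (n : ℕ) (z : α), (n : ℕ∞) ≤ Order.height z → (n : ℕ∞) + Order.height c ≤ Order.height (φ z) := by
  intro n
  induction n with
  | zero =>
    intro z _
    rw [Nat.cast_zero, zero_add]
    exact Order.height_mono (hc z)
  | succ n ih =>
    intro z hz
    obtain ⟨l, hlast, hlen⟩ := Order.exists_series_of_le_height z hz
    have hpos : l.length ≠ 0 := by rw [hlen]; exact Nat.succ_ne_zero n
    let z' := l.eraseLast.last
    have hz'z : z' < z := by
      rw [← hlast]
      exact l.eraseLast_last_rel_last hpos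
    have hn : (n : ℕ∞) ≤ Order.height z' := by
      have := Order.length_le_height_last (p := l.eraseLast)
      have hlen' : l.eraseLast.length = n := by
        rw [RelSeries.eraseLast_length, hlen]; rfl
      rw [hlen'] at this
      exact this
    have h1 := ih z' hn
    have h2 := Order.height_add_one_le (hφ hz'z)
    calc ((n + 1 : ℕ) : ℕ∞) + Order.height c = ((n : ℕ∞) + Order.height c) + 1 := by
          push_cast; ring
      _ ≤ Order.height (φ z') + 1 := add_le_add_left h1 1
      _ ≤ Order.height (φ z) := h2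

/-- `ht(Q/q) + ht(q/p) ≤ ht(Q/p)` for primes `p ≤ q ≤ Q` of a Noetherian ring. -/
theorem height_add_le [IsNoetherianRing R] (p q Q : Ideal R) [p.IsPrime] [q.IsPrime]
    [Q.IsPrime] (hpq : p ≤ q) (hqQ : q ≤ Q) :
    (Q.map (Ideal.Quotient.mk q)).height + (q.map (Ideal.Quotient.mk p)).height ≤
      (Q.map (Ideal.Quotient.mk p)).height := by
  let χ : R ⧸ p →+* R ⧸ q := Ideal.Quotient.factor hpq
  have hχ : Function.Surjective χ := Ideal.Quotient.factor_surjective hpq
  haveI hQq : (Q.map (Ideal.Quotient.mk q)).IsPrime :=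
    Ideal.map_isPrime_of_surjective Ideal.Quotient.mk_surjective (by simpa using hqQ)
  haveI hQp : (Q.map (Ideal.Quotient.mk p)).IsPrime :=
    Ideal.map_isPrime_of_surjective Ideal.Quotient.mk_surjective (by simpa using hpq.trans hqQ)
  haveI hqp : (q.map (Ideal.Quotient.mk p)).IsPrime :=
    Ideal.map_isPrime_of_surjective Ideal.Quotient.mk_surjective (by simpa using hpq)
  have hmono : StrictMono (PrimeSpectrum.comap χ) := by
    intro x y hxy
    refine lt_of_le_of_ne (Ideal.comap_mono hxy.le) (fun h => hxy.ne ?_)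
    exact PrimeSpectrum.comap_injective_of_surjective χ hχ h
  -- the base point
  have hbase : ∀ z : PrimeSpectrum (R ⧸ q),
      (⟨q.map (Ideal.Quotient.mk p), hqp⟩ : PrimeSpectrum (R ⧸ p)) ≤ PrimeSpectrum.comap χ z := by
    intro z
    change q.map (Ideal.Quotient.mk p) ≤ z.asIdeal.comap χ
    rw [Ideal.map_le_iff_le_comap]
    intro y hy
    change χ (Ideal.Quotient.mk p y) ∈ z.asIdeal
    rw [Ideal.Quotient.factor_mk, Ideal.Quotient.eq_zero_iff_mem.2 hy]
    exact Ideal.zero_mem _
  -- the image of `Q/q`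
  have himg : PrimeSpectrum.comap χ ⟨Q.map (Ideal.Quotient.mk q), hQq⟩ =
      (⟨Q.map (Ideal.Quotient.mk p), hQp⟩ : PrimeSpectrum (R ⧸ p)) := by
    apply PrimeSpectrum.ext
    change (Q.map (Ideal.Quotient.mk q)).comap χ = Q.map (Ideal.Quotient.mk p)
    ext y
    obtain ⟨y, rfl⟩ := Ideal.Quotient.mk_surjective y
    simp only [Ideal.mem_comap, χ, Ideal.Quotient.factor_mk]
    rw [Ideal.mem_map_iff_of_surjective _ Ideal.Quotient.mk_surjective,
      Ideal.mem_map_iff_of_surjective _ Ideal.Quotient.mk_surjective]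
    constructor
    · rintro ⟨z, hz, hzy⟩
      rw [Ideal.Quotient.eq] at hzy
      have hy : y ∈ Q := by
        have := Q.sub_mem hz (hqQ hzy)
        simpa using this
      exact ⟨y, hy, rfl⟩
    · rintro ⟨z, hz, hzy⟩
      rw [Ideal.Quotient.eq] at hzy
      have hy : y ∈ Q := by
        have := Q.sub_mem hz (hpq.trans hqQ hzy)
        simpa using this
      exact ⟨y, hy, rfl⟩
  have hfin : (Q.map (Ideal.Quotient.mk q)).height ≠ ⊤ := Ideal.height_ne_top_of_isPrime
  obtain ⟨n, hn⟩ := ENat.ne_top_iff_exists.1 hfin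
  have key := order_height_add_le (PrimeSpectrum.comap χ) hmono
    (⟨q.map (Ideal.Quotient.mk p), hqp⟩ : PrimeSpectrum (R ⧸ p)) hbase n
    ⟨Q.map (Ideal.Quotient.mk q), hQq⟩ (by
      rw [← PrimeSpectrum.height_eq_orderHeight]
      exact hn.le)
  rw [himg, ← PrimeSpectrum.height_eq_orderHeight, ← PrimeSpectrum.height_eq_orderHeight] at key
  rw [← hn]
  exact key

end Groth.Agent.H58.HeightAdd
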