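import Groth.Agent.H58.LCGV
import Groth.Prelude.Def_W4bk5brsh7111920

/-!
# Finiteness dimension is unchanged by killing torsion
-/
set_option autoImplicit false
set_option linter.unusedSectionVars false
universe u
open CategoryTheory CategoryTheory.Limits Opposite

namespace Groth.Agent.H58.LC
open Groth.Agent.H58

variable {R : Type u} [CommRing R]

/-- `b ≤ rad(ann X)` in elementwise form -/
def RadKills (b : Ideal R) (X : Type u) [AddCommGroup X] [Module R X] : Prop :=
  ∀ r ∈ b, ∃ k : ℕ, ∀ x : X, r ^ k • x = 0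

theorem radKills_iff (b : Ideal R) (X : Type u) [AddCommGroup X] [Module R X] :
    b ≤ (Module.annihilator R X).radical ↔ RadKills b X := by
  constructor
  · intro h r hr
    obtain ⟨k, hk⟩ := h hr
    exact ⟨k, fun x => Module.mem_annihilator.1 hk x⟩
  · intro h r hr
    obtain ⟨k, hk⟩ := h r hr
    exact ⟨k, Module.mem_annihilator.2 hk⟩

theorem radKills_of_exact {b : Ideal R} {X' X X'' : Type u} [AddCommGroup X'] [Module R X']
    [AddCommGroup X] [Module R X] [AddCommGroup X''] [Module R X''] (f : X' →ₗ[R] X)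
    (g : X →ₗ[R] X'') (hex : ∀ x, g x = 0 → ∃ x', f x' = x) (h' : RadKills b X')
    (h'' : RadKills b X'') : RadKills b X := by
  intro r hr
  obtain ⟨k', hk'⟩ := h' r hr
  obtain ⟨k'', hk''⟩ := h'' r hr
  refine ⟨k' + k'', fun x => ?_⟩
  obtain ⟨x', hx'⟩ := hex (r ^ k'' • x) (by rw [map_smul, hk''])
  rw [pow_add, mul_smul, ← hx', ← map_smul, hk', map_zero]

theorem iSup_torsionBy_eq (c : Ideal R) (M : Type u) [AddCommGroup M] [Module R M] :
    (⨆ n : ℕ, LocCoh.torsionBy (c ^ n) M) = DRing.torsionSub c M := by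
  ext x
  rw [Submodule.mem_iSup_of_directed]
  · constructor
    · rintro ⟨n, hn⟩
      refine ⟨n, fun r hr => ?_⟩
      exact ((Submodule.mem_torsionBySet_iff _ _).1 hn) ⟨r, hr⟩
    · rintro ⟨n, hn⟩
      refine ⟨n, ?_⟩
      rw [Submodule.mem_torsionBySet_iff]
      rintro ⟨r, hr⟩
      exact hn r hr
  · intro n m
    refine ⟨max n m, ?_, ?_⟩
    · intro x hx
      rw [Submodule.mem_torsionBySet_iff] at hx ⊢
      rintro ⟨r, hr⟩
      exact hx ⟨r, Ideal.pow_le_pow_right (le_max_left n m) hr⟩
    · intro x hx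
      rw [Submodule.mem_torsionBySet_iff] at hx ⊢
      rintro ⟨r, hr⟩
      exact hx ⟨r, Ideal.pow_le_pow_right (le_max_right n m) hr⟩

variable [IsNoetherianRing R] (a b c : Ideal R) (M : Type u) [AddCommGroup M] [Module R M]
  [Module.Finite R M]

theorem radKills_H_torsionSub (hbc : b ≤ c) (i : ℕ) :
    RadKills b (LocCoh.H a i (DRing.torsionSub c M)) := by
  have hN : IsNoetherian R M := isNoetherian_of_isNoetherianRing_of_finite R M
  obtain ⟨k, hk⟩ := exists_pow_smul_eq_zero_of_fg c (DRing.torsionSub c M)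
    (IsNoetherian.noetherian _) (fun p hp => hp)
  intro r hr
  refine ⟨k, fun x => ?_⟩
  apply smul_eq_zero_of_smul_id_eq_zero
  apply ModuleCat.hom_ext
  apply LinearMap.ext
  intro t
  apply Subtype.ext
  exact hk (r ^ k) (Ideal.pow_mem_pow (hbc hr) k) t.1 t.2

theorem radKills_quotient_iff (hbc : b ≤ c) (i : ℕ) :
    RadKills b (LocCoh.H a i M) ↔ RadKills b (LocCoh.H a i (M ⧸ DRing.torsionSub c M)) := by
  have hS := shortExact_of (DRing.torsionSub c M).subtype (DRing.torsionSub c M).mkQ
    (Submodule.injective_subtype _) (Submodule.mkQ_surjective _)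
    (LinearMap.exact_subtype_mkQ _)
  constructor
  · intro h
    exact radKills_of_exact _ (δ a i hS) (fun x hx => exact₃ a i hS x hx) h
      (radKills_H_torsionSub a b c M hbc (i + 1))
  · intro h
    exact radKills_of_exact _ _ (fun x hx => exact₂ a i hS x hx)
      (radKills_H_torsionSub a b c M hbc i) h

theorem finDimRel_quotient (hbc : b ≤ c) :
    LocCoh.finDimRel a b M = LocCoh.finDimRel a b (M ⧸ DRing.torsionSub c M) := by
  unfold LocCoh.finDimRel
  apply iInf_congr
  intro i
  have h := radKills_quotient_iff a b c M hbc i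
  rw [← radKills_iff, ← radKills_iff] at h
  by_cases h1 : b ≤ (Module.annihilator R (LocCoh.H a i M)).radical
  · rw [iInf_neg (not_not.2 h1), iInf_neg (not_not.2 (h.1 h1))]
  · rw [iInf_pos h1, iInf_pos (fun h2 => h1 (h.2 h2))]

theorem finDimRel_quotient_self (hpos : 0 < LocCoh.finDimRel a b M) :
    LocCoh.finDimRel a b M = LocCoh.finDimRel a b (M ⧸ DRing.torsionSub a M) := by
  have h0 : b ≤ (Module.annihilator R (LocCoh.H a 0 M)).radical := by
    by_contra hcon
    have : LocCoh.finDimRel a b M ≤ ((0 : ℕ) : ℕ∞) := by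
      unfold LocCoh.finDimRel
      exact iInf₂_le 0 hcon
    have h2 : LocCoh.finDimRel a b M = 0 := le_antisymm (by simpa using this) zero_le
    rw [h2] at hpos
    exact lt_irrefl _ hpos
  have h0' : b ≤ (Module.annihilator R
      (LocCoh.H a 0 (M ⧸ DRing.torsionSub a M))).radical := by
    have hsub : Subsingleton (LocCoh.H a 0 (M ⧸ DRing.torsionSub a M)) := by
      have : Subsingleton (DRing.torsionSub a (M ⧸ DRing.torsionSub a M)) := by
        rw [torsionSub_quotient_eq_bot]; infer_instance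
      exact (H0equiv a (ModuleCat.of R (M ⧸ DRing.torsionSub a M))).toEquiv.subsingleton
    rw [radKills_iff]
    intro r _
    exact ⟨0, fun x => Subsingleton.elim _ _⟩
  unfold LocCoh.finDimRel
  apply iInf_congr
  intro i
  cases i with
  | zero => rw [iInf_neg (not_not.2 h0), iInf_neg (not_not.2 h0')]
  | succ i =>
    have hbij := map_mkQ_torsionSub_bijective a M i
    let e : LocCoh.H a (i + 1) M ≃ₗ[R] LocCoh.H a (i + 1) (M ⧸ DRing.torsionSub a M) :=
      LinearEquiv.ofBijective _ hbij
    rw [e.annihilator_eq]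

end Groth.Agent.H58.LC
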