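import Groth.Agent.H58.LCDepthExt
import Groth.Agent.H58.LCFlat2
import Groth.Agent.H58.LCCd

/-!
# Non-annihilation of `H^t_a(M)` from the grade of a localization
-/
set_option autoImplicit false
set_option linter.unusedSectionVars false
universe u
open CategoryTheory CategoryTheory.Limits Opposite TensorProduct

namespace Groth.Agent.H58.LC

variable {R : Type u} [CommRing R] [IsNoetherianRing R]

/-- If `S`-torsion, the localization of `H^i_a(M)` vanishes, hence so does `H^i_{aR_p}(M_p)`. -/
theorem subsingleton_H_localized_of_torsion (a : Ideal R) (M : Type u) [AddCommGroup M]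
    [Module R M] (p : Ideal R) [p.IsPrime] (i : ℕ)
    (h : ∀ x : LocCoh.H a i M, ∃ s ∈ p.primeCompl, s • x = 0) :
    Subsingleton (LocCoh.H (a.map (algebraMap R (Localization.AtPrime p))) i
      (LocalizedModule p.primeCompl M)) := by
  obtain ⟨e⟩ := fbProp (R' := Localization.AtPrime p) a i M
  have h1 : Subsingleton (LocalizedModule p.primeCompl (LocCoh.H a i M)) :=
    LocalizedModule.subsingleton_iff.2 h
  have h2 : Subsingleton (Localization.AtPrime p ⊗[R] LocCoh.H a i M) :=
    (LocalizedModule.equivTensorProduct p.primeCompl _).symm.toEquiv.subsingleton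
  have h3 : Subsingleton (LocCoh.H (a.map (algebraMap R (Localization.AtPrime p))) i
      (Localization.AtPrime p ⊗[R] M)) := e.symm.toEquiv.subsingleton
  exact subsingleton_H_of_linearEquiv _ (LocalizedModule.equivTensorProduct p.primeCompl M).symm i h3

theorem smul_top_ne_top_localized (a : Ideal R) (M : Type u) [AddCommGroup M]
    [Module R M] [Module.Finite R M] (p : PrimeSpectrum R) (hsupp : p ∈ Module.support R M)
    (ha : a ≤ p.asIdeal) :
    (a.map (algebraMap R (Localization.AtPrime p.asIdeal))) •
      (⊤ : Submodule (Localization.AtPrime p.asIdeal) (LocalizedModule p.asIdeal.primeCompl M)) ≠ ⊤ := by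
  intro htop
  have hNt : Nontrivial (LocalizedModule p.asIdeal.primeCompl M) := Module.mem_support_iff.1 hsupp
  have hjac : a.map (algebraMap R (Localization.AtPrime p.asIdeal)) ≤
      (⊥ : Ideal (Localization.AtPrime p.asIdeal)).jacobson := by
    rw [IsLocalRing.jacobson_eq_maximalIdeal ⊥ bot_ne_top,
      ← Localization.AtPrime.map_eq_maximalIdeal]
    exact Ideal.map_mono ha
  have := Submodule.eq_bot_of_le_smul_of_le_jacobson_bot _
    (⊤ : Submodule (Localization.AtPrime p.asIdeal) (LocalizedModule p.asIdeal.primeCompl M))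
    Module.Finite.fg_top (by rw [htop]) hjac
  exact top_ne_bot this

theorem not_le_radical_annihilator (a b : Ideal R) (M : Type u) [AddCommGroup M] [Module R M]
    [Module.Finite R M] (p : PrimeSpectrum R) (hsupp : p ∈ Module.support R M)
    (ha : a ≤ p.asIdeal) (hb : ¬ b ≤ p.asIdeal) (t : ℕ)
    (ht : LocCoh.idealDepth (a.map (algebraMap R (Localization.AtPrime p.asIdeal)))
      (LocalizedModule p.asIdeal.primeCompl M) = t) :
    ¬ b ≤ (Module.annihilator R (LocCoh.H a t M)).radical := by
  intro hle
  obtain ⟨s, hsb, hsp⟩ := Set.not_subset.1 hb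
  obtain ⟨n, hn⟩ := hle hsb
  have hkill : ∀ x : LocCoh.H a t M, s ^ n • x = 0 := fun x => Module.mem_annihilator.1 hn x
  have hNT := nontrivial_H_of_idealDepth_eq
    (a.map (algebraMap R (Localization.AtPrime p.asIdeal)))
    (LocalizedModule p.asIdeal.primeCompl M) (smul_top_ne_top_localized a M p hsupp ha) t ht
  have hS := subsingleton_H_localized_of_torsion a M p.asIdeal t
    (fun x => ⟨s ^ n, fun h => hsp (Ideal.IsPrime.mem_of_pow_mem p.2 n h), hkill x⟩)
  exact not_subsingleton _ hS

end Groth.Agent.H58.LC
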