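import Mathlib

set_option autoImplicit false

namespace Groth.Agent.H58.PrimeBetween2

universe u

/-- In a Noetherian domain, if `Q` is a prime of height `> 1` and `a ∈ Q` is nonzero, there is a
nonzero prime `T < Q` with `a ∉ T`. -/
theorem exists_prime_domain {A : Type u} [CommRing A] [IsDomain A] [IsNoetherianRing A]
    (Q : Ideal A) [Q.IsPrime] (hht : 1 < Q.height) (a : A) (ha0 : a ≠ 0) :
    ∃ T : Ideal A, T.IsPrime ∧ T ≠ ⊥ ∧ T < Q ∧ a ∉ T ∧ T.height ≤ 1 := by
  classical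
  set F : Set (Ideal A) := insert ⊥ (Ideal.span {a}).minimalPrimes with hF
  have hFfin : F.Finite :=
    (Ideal.finite_minimalPrimes_of_isNoetherianRing A (Ideal.span {a})).insert ⊥
  have hFprime : ∀ P ∈ F, P.IsPrime := by
    rintro P (rfl | hP)
    · exact Ideal.isPrime_bot
    · exact hP.1.1
  have hFht : ∀ P ∈ F, P.height ≤ 1 := by
    rintro P (rfl | hP)
    · rw [Ideal.height_bot]; exact zero_le_one
    · exact Ideal.height_le_one_of_isPrincipal_of_mem_minimalPrimes _ P hP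
  -- prime avoidance
  have hnot : ¬ ((Q : Set A) ⊆ ⋃ P ∈ F, (P : Set A)) := by
    intro hsub
    obtain ⟨P, hP, hQP⟩ := (Ideal.subset_union_prime_finite hFfin (f := id) ⊥ ⊥
      (fun P hP _ _ => hFprime P hP)).1 hsub
    have := (Ideal.height_mono hQP).trans (hFht P hP)
    exact absurd (lt_of_lt_of_le hht this) (lt_irrefl _)
  rw [Set.not_subset] at hnot
  obtain ⟨x, hxQ, hxF⟩ := hnot
  simp only [Set.mem_iUnion, not_exists] at hxF
  have hx0 : x ≠ 0 := fun h => hxF ⊥ (Set.mem_insert _ _) (by rw [h]; exact Ideal.zero_mem _)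
  -- minimal prime over (x) inside Q
  obtain ⟨T, hT, hTQ⟩ := Ideal.exists_minimalPrimes_le (I := Ideal.span {x}) (J := Q)
    ((Ideal.span_singleton_le_iff_mem _).2 hxQ)
  have hTprime : T.IsPrime := hT.1.1
  have hTht : T.height ≤ 1 := Ideal.height_le_one_of_isPrincipal_of_mem_minimalPrimes _ T hT
  have hxT : x ∈ T := hT.1.2 (Ideal.mem_span_singleton_self x)
  have hTbot : T ≠ ⊥ := fun h => hx0 (by rw [h] at hxT; exact hxT)
  have hTneQ : T ≠ Q := fun h => by
    rw [h] at hTht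
    exact absurd (lt_of_lt_of_le hht hTht) (lt_irrefl _)
  refine ⟨T, hTprime, hTbot, lt_of_le_of_ne hTQ hTneQ, fun haT => ?_, hTht⟩
  obtain ⟨P, hP, hPT⟩ := Ideal.exists_minimalPrimes_le (I := Ideal.span {a}) (J := T)
    ((Ideal.span_singleton_le_iff_mem _).2 haT)
  have hPprime : P.IsPrime := hP.1.1
  have haP : a ∈ P := hP.1.2 (Ideal.mem_span_singleton_self a)
  have hPbot : P ≠ ⊥ := fun h => ha0 (by rw [h] at haP; exact haP)
  have hPeq : P = T := by
    by_contra hne
    have hlt : P < T := lt_of_le_of_ne hPT hne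
    have h1 : P.height + 1 ≤ T.height := Ideal.height_add_one_le_of_lt_of_isPrime hlt
    have h2 : (⊥ : Ideal A).height + 1 ≤ P.height :=
      Ideal.height_add_one_le_of_lt_of_isPrime (bot_lt_iff_ne_bot.2 hPbot)
    rw [Ideal.height_bot, zero_add] at h2
    have h3 : (1 : ℕ∞) + 1 ≤ 1 := (add_le_add_left h2 1).trans (h1.trans hTht)
    exact absurd h3 (by decide)
  exact hxF P (Set.mem_insert_of_mem _ hP) (by rw [hPeq]; exact hxT)

theorem exists_prime {R : Type u} [CommRing R] [IsNoetherianRing R] (s q : Ideal R)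
    [s.IsPrime] [q.IsPrime] (hsq : s < q) (hht : 1 < (q.map (Ideal.Quotient.mk s)).height)
    (a : R) (has : a ∉ s) :
    ∃ t : Ideal R, t.IsPrime ∧ s < t ∧ t < q ∧ a ∉ t ∧
      (t.map (Ideal.Quotient.mk s)).height ≤ 1 := by
  have hsurj : Function.Surjective (Ideal.Quotient.mk s) := Ideal.Quotient.mk_surjective
  have hker : RingHom.ker (Ideal.Quotient.mk s) ≤ q := by rw [Ideal.mk_ker]; exact hsq.le
  have : (q.map (Ideal.Quotient.mk s)).IsPrime := Ideal.map_isPrime_of_surjective hsurj hker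
  have ha0 : Ideal.Quotient.mk s a ≠ 0 := fun h => has (Ideal.Quotient.eq_zero_iff_mem.1 h)
  obtain ⟨T, hTp, hTbot, hTQ, haT, hTht⟩ :=
    exists_prime_domain (q.map (Ideal.Quotient.mk s)) hht _ ha0
  have hcomapq : (q.map (Ideal.Quotient.mk s)).comap (Ideal.Quotient.mk s) = q := by
    rw [Ideal.comap_map_of_surjective _ hsurj, ← RingHom.ker_eq_comap_bot, Ideal.mk_ker]
    exact sup_eq_left.2 hsq.le
  have hinj := Ideal.comap_injective_of_surjective (Ideal.Quotient.mk s) hsurj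
  refine ⟨T.comap (Ideal.Quotient.mk s), Ideal.comap_isPrime _ _, ?_, ?_, fun h => haT h,
    by rw [Ideal.map_comap_of_surjective _ hsurj]; exact hTht⟩
  · have hbot : (⊥ : Ideal (R ⧸ s)).comap (Ideal.Quotient.mk s) = s := by
      rw [← RingHom.ker_eq_comap_bot, Ideal.mk_ker]
    have h1 : (⊥ : Ideal (R ⧸ s)).comap (Ideal.Quotient.mk s) < T.comap (Ideal.Quotient.mk s) :=
      lt_of_le_of_ne (Ideal.comap_mono bot_le) fun h => hTbot (hinj h).symm
    exact lt_of_eq_of_lt hbot.symm h1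
  · have h1 : T.comap (Ideal.Quotient.mk s) <
        (q.map (Ideal.Quotient.mk s)).comap (Ideal.Quotient.mk s) :=
      lt_of_le_of_ne (Ideal.comap_mono hTQ.le) fun h => hTQ.ne (hinj h)
    exact lt_of_lt_of_eq h1 hcomapq

end Groth.Agent.H58.PrimeBetween2
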