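import Groth.Agent.H58.LCAssNonAnnih
import Groth.Agent.H58.LCLocNonvanish
import Groth.Agent.H58.LCFinDim
import Groth.Agent.H58.HeightAdd
import Groth.Agent.H58.PrimeBetween2
import Groth.Agent.H58.X72.DepthLocIneq

/-!
# `f_a^b(M) ≤ λ_a^b(M)` (Brodmann–Sharp 9.3.7)
-/
set_option autoImplicit false
set_option linter.unusedSectionVars false
universe u
open CategoryTheory CategoryTheory.Limits Opposite Pointwise

namespace Groth.Agent.H58.LC

variable {R : Type u} [CommRing R] [IsNoetherianRing R]

theorem RadKills.mono {b b' : Ideal R} (h : b' ≤ b) {X : Type u} [AddCommGroup X] [Module R X]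
    (hb : RadKills b X) : RadKills b' X := fun r hr => hb r (h hr)

/-- T1: if `s₀` kills the sub, annihilation passes to the quotient after shrinking `b`. -/
theorem radKills_of_ses_kill (a b : Ideal R) {S : ShortComplex (ModuleCat.{u} R)}
    (hS : S.ShortExact) (s₀ : R) (hs₀ : ∀ k : S.X₁, s₀ • k = 0) (i : ℕ)
    (h : RadKills b ((localCohomology a i).obj S.X₂)) :
    RadKills (b * Ideal.span {s₀}) ((localCohomology a i).obj S.X₃) := by
  intro r hr
  obtain ⟨y, hy, rfl⟩ := Ideal.mem_mul_span_singleton.1 hr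
  obtain ⟨k, hk⟩ := h y hy
  refine ⟨k + 1, fun ξ => ?_⟩
  have hδ : δ a i hS (s₀ • ξ) = 0 := by
    rw [map_smul]
    apply smul_eq_zero_of_smul_id_eq_zero
    apply ModuleCat.hom_ext
    apply LinearMap.ext
    intro t
    exact hs₀ t
  obtain ⟨η, hη⟩ := exact₃ a i hS (s₀ • ξ) hδ
  have hring : (y * s₀) ^ (k + 1) = (y * s₀ ^ k) * (y ^ k * s₀) := by ring
  rw [hring, mul_smul, mul_smul (y ^ k) s₀, ← hη, ← map_smul, hk η, map_zero, smul_zero]

/-- a finitely generated submodule that dies at `p` is killed by a single `s₀ ∉ p` -/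
theorem exists_notMem_kill (p : Ideal R) [hp : p.IsPrime] {M : Type u} [AddCommGroup M]
    [Module R M] (K : Submodule R M) (hK : K.FG) (h : ∀ k ∈ K, ∃ s : R, s ∉ p ∧ s • k = 0) :
    ∃ s₀ : R, s₀ ∉ p ∧ ∀ k ∈ K, s₀ • k = 0 := by
  classical
  obtain ⟨t, ht⟩ := hK
  have hchoose : ∀ g : M, g ∈ K → ∃ s : R, s ∉ p ∧ s • g = 0 := h
  let ss : M → R := fun g => if hg : g ∈ K then (hchoose g hg).choose else 1
  have hss1 : ∀ g ∈ t, ss g ∉ p := by
    intro g hg
    have hg' : g ∈ K := by rw [← ht]; exact Submodule.subset_span hg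
    simp only [ss, dif_pos hg']
    exact (hchoose g hg').choose_spec.1
  have hss2 : ∀ g ∈ t, ss g • g = 0 := by
    intro g hg
    have hg' : g ∈ K := by rw [← ht]; exact Submodule.subset_span hg
    simp only [ss, dif_pos hg']
    exact (hchoose g hg').choose_spec.2
  refine ⟨∏ g ∈ t, ss g, fun hmem => ?_, fun k hk => ?_⟩
  · obtain ⟨g, hg, hgp⟩ := Ideal.IsPrime.prod_mem_iff.1 hmem
    exact hss1 g hg hgp
  · rw [← ht] at hk
    induction hk using Submodule.span_induction with
    | mem g hg =>
      have hg' : g ∈ t := hg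
      rw [← Finset.prod_erase_mul t ss hg', mul_smul, hss2 g hg', smul_zero]
    | zero => exact smul_zero _
    | add x y _ _ hx hy => rw [smul_add, hx, hy, add_zero]
    | smul c x _ hx => rw [smul_comm, hx, smul_zero]

/-- the regular element step -/
theorem radKills_quotSMulTop (a b : Ideal R) (M : Type u) [AddCommGroup M] [Module R M]
    [Module.Finite R M] (p : Ideal R) [hp : p.IsPrime] (hb : ¬ b ≤ p) (x : R)
    (hx : IsSMulRegular (LocalizedModule p.primeCompl M) (algebraMap R (Localization.AtPrime p) x))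
    (N : ℕ) (h : ∀ i ≤ N + 1, RadKills b (LocCoh.H a i M)) :
    ∃ b' : Ideal R, ¬ b' ≤ p ∧ ∀ i ≤ N, RadKills b' (LocCoh.H a i (QuotSMulTop x M)) := by
  have hNoeth : IsNoetherian R M := isNoetherian_of_isNoetherianRing_of_finite R M
  let K : Submodule R M := LinearMap.ker (LinearMap.lsmul R M x)
  have hKdie : ∀ k ∈ K, ∃ s : R, s ∉ p ∧ s • k = 0 := by
    intro k hk
    have hk' : x • k = 0 := hk
    have h1 : algebraMap R (Localization.AtPrime p) x • (LocalizedModule.mk k (1 : p.primeCompl)) =
        algebraMap R (Localization.AtPrime p) x • (0 : LocalizedModule p.primeCompl M) := by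
      rw [smul_zero, algebraMap_smul, LocalizedModule.smul'_mk, hk', LocalizedModule.zero_mk]
    have h2 := hx h1
    rw [← LocalizedModule.zero_mk (1 : p.primeCompl), LocalizedModule.mk_eq] at h2
    obtain ⟨u, hu⟩ := h2
    refine ⟨u.1, u.2, ?_⟩
    rw [one_smul, one_smul, smul_zero] at hu
    exact hu
  obtain ⟨s₀, hs₀p, hs₀⟩ := exists_notMem_kill p K (IsNoetherian.noetherian K) hKdie
  refine ⟨b * Ideal.span {s₀}, fun hle => ?_, fun i hi => ?_⟩
  · rcases (Ideal.IsPrime.mul_le hp).1 hle with h1 | h1
    · exact hb h1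
    · exact hs₀p (h1 (Ideal.mem_span_singleton_self s₀))
  · -- the two short exact sequences
    let g₁ : M →ₗ[R] (x • (⊤ : Submodule R M) : Submodule R M) :=
      (LinearMap.lsmul R M x).codRestrict _ (fun m => Submodule.smul_mem_pointwise_smul m x ⊤ trivial)
    have hS₁ := shortExact_of K.subtype g₁ (Submodule.injective_subtype _)
      (by
        rintro ⟨y, hy⟩
        obtain ⟨m, -, rfl⟩ := (Submodule.mem_smul_pointwise_iff_exists _ x ⊤).1 hy
        exact ⟨m, rfl⟩)
      (by
        intro m
        constructor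
        · intro hm
          have : x • m = 0 := congrArg Subtype.val hm
          exact ⟨⟨m, this⟩, rfl⟩
        · rintro ⟨k, rfl⟩
          apply Subtype.ext
          exact k.2)
    have hS₂ := shortExact_of (x • (⊤ : Submodule R M) : Submodule R M).subtype
      (x • (⊤ : Submodule R M) : Submodule R M).mkQ (Submodule.injective_subtype _)
      (Submodule.mkQ_surjective _) (LinearMap.exact_subtype_mkQ _)
    have hxM : RadKills (b * Ideal.span {s₀})
        (LocCoh.H a (i + 1) (x • (⊤ : Submodule R M) : Submodule R M)) :=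
      radKills_of_ses_kill a b hS₁ s₀ (fun k => Subtype.ext (hs₀ k.1 k.2)) (i + 1)
        (h (i + 1) (by omega))
    have hM : RadKills (b * Ideal.span {s₀}) (LocCoh.H a i M) :=
      RadKills.mono Ideal.mul_le_left (h i (by omega))
    exact radKills_of_exact _ (δ a i hS₂) (fun ξ hξ => exact₃ a i hS₂ ξ hξ) hM hxM

/-- finite depth forces `p ∈ Supp M` -/
theorem mem_support_of_depth_eq (M : Type u) [AddCommGroup M] [Module R M] (p : Ideal R)
    [hp : p.IsPrime] (r : ℕ)
    (hr : LocCoh.depth (Localization.AtPrime p) (LocalizedModule p.primeCompl M) = r) :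
    (⟨p, hp⟩ : PrimeSpectrum R) ∈ Module.support R M := by
  rw [Module.mem_support_iff]
  by_contra hnt
  rw [not_nontrivial_iff_subsingleton] at hnt
  have : LocCoh.depth (Localization.AtPrime p) (LocalizedModule p.primeCompl M) = ⊤ := by
    unfold LocCoh.depth
    apply Groth.Agent.H58.X15.idealDepth_eq_top_of_smul_top_eq
    exact Subsingleton.elim _ _
  rw [this] at hr
  exact ENat.top_ne_coe r hr

/-- the case `a ≤ p` -/
theorem bound_of_le (a b : Ideal R) (M : Type u) [AddCommGroup M] [Module R M]
    [Module.Finite R M] (p : Ideal R) [hp : p.IsPrime] (hb : ¬ b ≤ p) (ha : a ≤ p) (r : ℕ)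
    (hr : LocCoh.depth (Localization.AtPrime p) (LocalizedModule p.primeCompl M) = r) (N : ℕ)
    (h : ∀ i ≤ N, RadKills b (LocCoh.H a i M)) : N < r := by
  have hsupp := mem_support_of_depth_eq M p r hr
  have hne := smul_top_ne_top_localized a M ⟨p, hp⟩ hsupp ha
  have hle : LocCoh.idealDepth (a.map (algebraMap R (Localization.AtPrime p)))
      (LocalizedModule p.primeCompl M) ≤ (r : ℕ∞) := by
    apply Groth.Agent.H58.X15.idealDepth_le_of_forall _ _ hne
    intro rs hreg hmem
    rw [← hr]
    unfold LocCoh.depth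
    apply Groth.Agent.H58.X15.le_idealDepth _ _ hreg
    intro y hy
    have : a.map (algebraMap R (Localization.AtPrime p)) ≤
        IsLocalRing.maximalIdeal (Localization.AtPrime p) := by
      rw [← Localization.AtPrime.map_eq_maximalIdeal]
      exact Ideal.map_mono ha
    exact this (hmem y hy)
  obtain ⟨t, ht⟩ := ENat.ne_top_iff_exists.1 (ne_top_of_le_ne_top (ENat.coe_ne_top r) hle)
  have htr : t ≤ r := by
    rw [← ht] at hle
    exact_mod_cast hle
  have hnot := not_le_radical_annihilator a b M ⟨p, hp⟩ hsupp ha hb t ht.symm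
  by_contra hcon
  exact hnot ((radKills_iff b _).2 (h t (by omega)))

/-- either `p` is associated to `M` or some `x ∈ p` is regular on `M_p` -/
theorem mem_ass_or_exists_regular (M : Type u) [AddCommGroup M] [Module R M]
    [Module.Finite R M] (p : Ideal R) [hp : p.IsPrime] :
    p ∈ associatedPrimes R M ∨ ∃ x ∈ p, IsSMulRegular (LocalizedModule p.primeCompl M)
      (algebraMap R (Localization.AtPrime p) x) := by
  by_cases hA : p ∈ associatedPrimes R M
  · exact Or.inl hA
  · right
    have hfin : {q ∈ associatedPrimes R M | q ≤ p}.Finite :=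
      (associatedPrimes.finite R M).subset (fun q hq => hq.1)
    have hnot : ¬ ((p : Set R) ⊆ ⋃ q ∈ {q ∈ associatedPrimes R M | q ≤ p}, (q : Set R)) := by
      intro hsub
      obtain ⟨q, hq, hpq⟩ := (Ideal.subset_union_prime_finite hfin p p (by
        intro Q hQ _ _
        exact IsAssociatedPrime.isPrime hQ.1)).mp hsub
      have : q = p := le_antisymm hq.2 hpq
      exact hA (this ▸ hq.1)
    rw [Set.not_subset] at hnot
    obtain ⟨x, hxp, hxT⟩ := hnot
    simp only [Set.mem_iUnion, not_exists] at hxT
    exact ⟨x, hxp, Groth.Agent.H58.X72.DepthLocIneq.isSMulRegular_localization_of_notMem M p x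
      (fun q hq hqs hxq => hxT q ⟨hq, hqs⟩ hxq)⟩

/-- depth zero at `p` means `p ∈ Ass M` -/
theorem mem_ass_of_depth_eq_zero (M : Type u) [AddCommGroup M] [Module R M]
    [Module.Finite R M] (p : Ideal R) [hp : p.IsPrime]
    (hr : LocCoh.depth (Localization.AtPrime p) (LocalizedModule p.primeCompl M) = ((0 : ℕ) : ℕ∞)) :
    p ∈ associatedPrimes R M := by
  rcases mem_ass_or_exists_regular M p with h | ⟨x, hxp, hx⟩
  · exact h
  · exfalso
    have h1 := Groth.Agent.H58.X72.DepthLocIneq.depth_localization_quot_add_one_le M p x hxp hx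
    rw [hr] at h1
    simp at h1

/-- the depth drops by one modulo a regular element -/
theorem depth_quot_eq (M : Type u) [AddCommGroup M] [Module R M]
    [Module.Finite R M] (p : Ideal R) [hp : p.IsPrime] (x : R) (hxp : x ∈ p)
    (hx : IsSMulRegular (LocalizedModule p.primeCompl M) (algebraMap R (Localization.AtPrime p) x))
    (r : ℕ)
    (hr : LocCoh.depth (Localization.AtPrime p) (LocalizedModule p.primeCompl M) = ((r + 1 : ℕ) : ℕ∞)) :
    LocCoh.depth (Localization.AtPrime p) (LocalizedModule p.primeCompl (QuotSMulTop x M)) = (r : ℕ∞) := by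
  have h1 := Groth.Agent.H58.X72.DepthLocIneq.depth_localization_quot_add_one_le M p x hxp hx
  have h2 := Groth.Agent.H58.X72.DepthLocIneq.depth_localization_le_quot_add_one M p x hxp hx
  rw [hr] at h1 h2
  have h4 : ((r + 1 : ℕ) : ℕ∞) = (r : ℕ∞) + 1 := by push_cast; rfl
  rw [h4] at h1 h2
  exact le_antisymm ((ENat.add_le_add_iff_right (by simp)).mp h1)
    ((ENat.add_le_add_iff_right (by simp)).mp h2)

theorem le_of_height_eq_zero (a p : Ideal R) [hp : p.IsPrime]
    (hh : ((a ⊔ p).map (Ideal.Quotient.mk p)).height = ((0 : ℕ) : ℕ∞)) : a ≤ p := by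
  rw [Nat.cast_zero, Ideal.height_eq_zero_iff_eq_bot, Ideal.map_eq_bot_iff_le_ker, Ideal.mk_ker] at hh
  exact le_sup_left.trans hh

/-- the main induction -/
theorem key (a : Ideal R) : ∀ (h : ℕ) (r : ℕ) (M : Type u) [AddCommGroup M] [Module R M]
    [Module.Finite R M] (p : Ideal R) [p.IsPrime] (b : Ideal R), ¬ b ≤ p →
    LocCoh.depth (Localization.AtPrime p) (LocalizedModule p.primeCompl M) = (r : ℕ∞) →
    ((a ⊔ p).map (Ideal.Quotient.mk p)).height = (h : ℕ∞) →
    ∀ N : ℕ, (∀ i ≤ N, RadKills b (LocCoh.H a i M)) → N < r + h := by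
  intro h
  induction h using Nat.strong_induction_on with
  | _ h IH =>
  intro r
  induction r with
  | zero =>
    intro M _ _ _ p hp b hb hr hh N hN
    rcases Nat.eq_zero_or_pos h with rfl | hpos
    · have ha : a ≤ p := le_of_height_eq_zero a p hh
      simpa using bound_of_le a b M p hb ha 0 hr N hN
    · have hass : p ∈ associatedPrimes R M := mem_ass_of_depth_eq_zero M p hr
      rcases (Nat.eq_or_lt_of_le hpos : 1 = h ∨ 1 < h) with rfl | h2
      · by_contra hcon
        have hnot := not_le_radical_annihilator_H1 a b M p hass hb (by exact_mod_cast hh)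
        exact hnot ((radKills_iff b _).2 (hN 1 (by omega)))
      · -- `h ≥ 2`
        have hsurj : Function.Surjective (Ideal.Quotient.mk p) := Ideal.Quotient.mk_surjective
        obtain ⟨Qb, hQb, hQble, hQbh⟩ := Ideal.exists_isPrime_height_eq hh
        let Q : Ideal R := Qb.comap (Ideal.Quotient.mk p)
        haveI hQ : Q.IsPrime := Ideal.comap_isPrime _ _
        have hQmap : Q.map (Ideal.Quotient.mk p) = Qb := Ideal.map_comap_of_surjective _ hsurj Qb
        have hapQ : a ⊔ p ≤ Q := Ideal.map_le_iff_le_comap.1 hQble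
        have hpQ : p ≤ Q := le_sup_right.trans hapQ
        have haQ : a ≤ Q := le_sup_left.trans hapQ
        have hht : 1 < (Q.map (Ideal.Quotient.mk p)).height := by
          rw [hQmap, hQbh]
          exact_mod_cast h2
        have hpQ' : p < Q := by
          refine lt_of_le_of_ne hpQ (fun heq => ?_)
          have : Q.map (Ideal.Quotient.mk p) = ⊥ := by
            rw [← heq, Ideal.map_quotient_self]
          rw [this, Ideal.height_bot] at hht
          exact absurd hht (by simp)
        obtain ⟨y, hyb, hyp⟩ := Set.not_subset.1 hb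
        obtain ⟨q, hq, hpq, hqQ, hyq, hqht⟩ :=
          Groth.Agent.H58.PrimeBetween2.exists_prime p Q hpQ' hht y hyp
        haveI := hq
        have hbq : ¬ b ≤ q := fun hle => hyq (hle hyb)
        -- the depth at `q`
        have hd := Groth.Agent.H58.X72.DepthLocIneq.depth_localization_le M p q hpq.le
        rw [hr, Nat.cast_zero, zero_add] at hd
        have hd1 : LocCoh.depth (Localization.AtPrime q) (LocalizedModule q.primeCompl M) ≤ 1 :=
          hd.trans hqht
        obtain ⟨r', hr'⟩ := ENat.ne_top_iff_exists.1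
          (ne_top_of_le_ne_top (by simp) hd1)
        have hr'1 : r' ≤ 1 := by
          rw [← hr'] at hd1
          exact_mod_cast hd1
        -- heights
        have h1 := Groth.Agent.H58.HeightAdd.height_add_le p q Q hpq.le hqQ.le
        have hqpos : (1 : ℕ∞) ≤ (q.map (Ideal.Quotient.mk p)).height := by
          rw [ENat.one_le_iff_ne_zero, Ne, Ideal.height_eq_zero_iff_eq_bot,
            Ideal.map_eq_bot_iff_le_ker, Ideal.mk_ker]
          exact not_le_of_gt hpq
        have h3 : ((a ⊔ q).map (Ideal.Quotient.mk q)).height + 1 ≤ (h : ℕ∞) := by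
          have h2' : ((a ⊔ q).map (Ideal.Quotient.mk q)).height ≤
              (Q.map (Ideal.Quotient.mk q)).height :=
            Ideal.height_mono (Ideal.map_mono (sup_le haQ hqQ.le))
          calc ((a ⊔ q).map (Ideal.Quotient.mk q)).height + 1
              ≤ (Q.map (Ideal.Quotient.mk q)).height + (q.map (Ideal.Quotient.mk p)).height :=
                add_le_add h2' hqpos
            _ ≤ (Q.map (Ideal.Quotient.mk p)).height := h1
            _ = h := by rw [hQmap, hQbh]
        obtain ⟨h', hh'⟩ := ENat.ne_top_iff_exists.1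
          (ne_top_of_le_ne_top (ENat.coe_ne_top h) (le_self_add.trans h3))
        have hh'lt : h' < h := by
          rw [← hh'] at h3
          have : ((h' + 1 : ℕ) : ℕ∞) ≤ (h : ℕ∞) := by push_cast; exact h3
          exact_mod_cast this
        have := IH h' hh'lt r' M q b hbq hr'.symm hh'.symm N hN
        omega
  | succ r ihr =>
    intro M _ _ _ p hp b hb hr hh N hN
    rcases Nat.eq_zero_or_pos h with rfl | hpos
    · have ha : a ≤ p := le_of_height_eq_zero a p hh
      simpa using bound_of_le a b M p hb ha (r + 1) hr N hN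
    · rcases mem_ass_or_exists_regular M p with hass | ⟨x, hxp, hx⟩
      · exfalso
        have := Groth.Agent.H58.X15.depth_localization_eq_zero_of_mem_associatedPrimes M p hass
        rw [hr] at this
        simp at this
      · cases N with
        | zero => omega
        | succ N =>
          obtain ⟨b', hb', hN'⟩ := radKills_quotSMulTop a b M p hb x hx N hN
          have hdepth := depth_quot_eq M p x hxp hx r hr
          have := ihr (QuotSMulTop x M) p b' hb' hdepth hh N hN'
          omega

/-- `f_a^b(M) ≤ λ_a^b(M)` -/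
theorem finDimRel_le_minAdjDepth (a b : Ideal R) (M : Type u) [AddCommGroup M] [Module R M]
    [Module.Finite R M] : LocCoh.finDimRel a b M ≤ LocCoh.minAdjDepth a b M := by
  unfold LocCoh.minAdjDepth
  refine le_iInf₂ fun p hp => ?_
  unfold LocCoh.adjDepth
  by_cases hd : LocCoh.depth (Localization.AtPrime p.asIdeal)
      (LocalizedModule p.asIdeal.primeCompl M) = ⊤
  · rw [hd, top_add]; exact le_top
  by_cases hh : ((a ⊔ p.asIdeal).map (Ideal.Quotient.mk p.asIdeal)).height = ⊤
  · rw [hh, add_top]; exact le_top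
  obtain ⟨r, hr⟩ := ENat.ne_top_iff_exists.1 hd
  obtain ⟨h, hh'⟩ := ENat.ne_top_iff_exists.1 hh
  rw [← hr, ← hh']
  by_contra hcon
  rw [not_le] at hcon
  have hN : ∀ i ≤ r + h, RadKills b (LocCoh.H a i M) := by
    intro i hi
    rw [← radKills_iff]
    by_contra hbad
    have h1 : LocCoh.finDimRel a b M ≤ (i : ℕ∞) := iInf₂_le i hbad
    have h2 : (i : ℕ∞) ≤ (r : ℕ∞) + (h : ℕ∞) := by exact_mod_cast hi
    exact absurd (lt_of_lt_of_le hcon (h1.trans h2)) (lt_irrefl _)
  have := key a h r M p.asIdeal b hp hr.symm hh'.symm (r + h) hN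
  omega

end Groth.Agent.H58.LC
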