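import Mathlib
import Groth.Prelude.Def_W4bk5brsh7111920

set_option autoImplicit false

namespace Groth.Agent.H58.ConnDim

open TopologicalSpace Topology

universe u

variable {T : Type u} [TopologicalSpace T]

lemma dim_mono {S Z : Set T} (h : S ⊆ Z) : topologicalKrullDim ↥S ≤ topologicalKrullDim ↥Z :=
  (IsEmbedding.inclusion h).isInducing.topologicalKrullDim_le

/-- Intersection of a preirreducible set with an open set is preirreducible. -/
lemma preirreducible_inter_open {C U : Set T} (hC : IsPreirreducible C) (hU : IsOpen U) :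
    IsPreirreducible (C ∩ U) := by
  intro u v hu hv hu' hv'
  have h1 : (C ∩ (U ∩ u)).Nonempty := by rwa [← Set.inter_assoc]
  have h2 : (C ∩ (U ∩ v)).Nonempty := by rwa [← Set.inter_assoc]
  obtain ⟨x, hxC, ⟨hxU, hxu⟩, ⟨-, hxv⟩⟩ := hC _ _ (hU.inter hu) (hU.inter hv) h1 h2
  exact ⟨x, ⟨hxC, hxU⟩, hxu, hxv⟩

variable [NoetherianSpace T]

lemma isClosed_sUnion_comps {A : Set (Set T)} (hA : A ⊆ irreducibleComponents T) :
    IsClosed (⋃₀ A) := by
  have hfin : A.Finite := (NoetherianSpace.finite_irreducibleComponents).subset hA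
  rw [Set.sUnion_eq_biUnion]
  exact hfin.isClosed_biUnion fun C hC => isClosed_of_mem_irreducibleComponents C (hA hC)

/-- An irreducible component contained in a union of components is one of them. -/
lemma mem_of_subset_sUnion {B : Set (Set T)} (hB : B ⊆ irreducibleComponents T) {C : Set T}
    (hC : C ∈ irreducibleComponents T) (h : C ⊆ ⋃₀ B) : C ∈ B := by
  have hfin : B.Finite := (NoetherianSpace.finite_irreducibleComponents).subset hB
  have hirr : IsIrreducible C := hC.1
  obtain ⟨C', hC', hCC'⟩ := (isIrreducible_iff_sUnion_isClosed.1 hirr) hfin.toFinset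
    (fun z hz => isClosed_of_mem_irreducibleComponents z (hB (hfin.mem_toFinset.1 hz)))
    (by simpa using h)
  have hC'B : C' ∈ B := hfin.mem_toFinset.1 hC'
  have : C = C' := le_antisymm hCC' (hC.2 (hB hC'B).1 hCC')
  rw [this]; exact hC'B

/-- Core: a partition of the components into two nonempty disjoint families gives a closed set
with disconnected complement. -/
lemma not_isConnected_compl {A B : Set (Set T)} (hA : A ⊆ irreducibleComponents T)
    (hB : B ⊆ irreducibleComponents T) (hAne : A.Nonempty) (hBne : B.Nonempty)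
    (hAB : A ∪ B = irreducibleComponents T) (hdisj : Disjoint A B) :
    IsClosed (⋃₀ A ∩ ⋃₀ B) ∧ ¬ IsConnected (⋃₀ A ∩ ⋃₀ B)ᶜ := by
  refine ⟨(isClosed_sUnion_comps hA).inter (isClosed_sUnion_comps hB), ?_⟩
  have hcover : ⋃₀ A ∪ ⋃₀ B = Set.univ := by
    rw [← Set.sUnion_union, hAB, sUnion_irreducibleComponents]
  have hPne : (⋃₀ B)ᶜ.Nonempty := by
    obtain ⟨C, hC⟩ := hAne
    by_contra hcon
    rw [Set.not_nonempty_iff_eq_empty, Set.compl_empty_iff] at hcon
    have : C ∈ B := mem_of_subset_sUnion hB (hA hC) (by rw [hcon]; exact Set.subset_univ _)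
    exact Set.disjoint_left.1 hdisj hC this
  have hQne : (⋃₀ A)ᶜ.Nonempty := by
    obtain ⟨C, hC⟩ := hBne
    by_contra hcon
    rw [Set.not_nonempty_iff_eq_empty, Set.compl_empty_iff] at hcon
    have : C ∈ A := mem_of_subset_sUnion hA (hB hC) (by rw [hcon]; exact Set.subset_univ _)
    exact Set.disjoint_left.1 hdisj this hC
  rintro ⟨-, hpre⟩
  rw [isPreconnected_iff_subset_of_disjoint] at hpre
  have hdis : (⋃₀ A)ᶜ ∩ (⋃₀ B)ᶜ = ∅ := by
    rw [← Set.compl_union, hcover, Set.compl_univ]
  rcases hpre (⋃₀ A)ᶜ (⋃₀ B)ᶜ (isClosed_sUnion_comps hA).isOpen_compl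
    (isClosed_sUnion_comps hB).isOpen_compl (by rw [Set.compl_inter])
    (by rw [hdis, Set.inter_empty]) with h | h
  · -- (⋃₀B)ᶜ ⊆ (⋃₀A)ᶜ
    obtain ⟨x, hx⟩ := hPne
    have hx' : x ∈ (⋃₀ A)ᶜ := h (fun hh => hx hh.2)
    have : x ∈ (⋃₀ A)ᶜ ∩ (⋃₀ B)ᶜ := ⟨hx', hx⟩
    rw [hdis] at this
    exact this
  · obtain ⟨x, hx⟩ := hQne
    have hx' : x ∈ (⋃₀ B)ᶜ := h (fun hh => hx hh.1)
    have : x ∈ (⋃₀ A)ᶜ ∩ (⋃₀ B)ᶜ := ⟨hx, hx'⟩
    rw [hdis] at this
    exact this

/-- The set of valid pairs. -/
def Valid (A B : Set (Set T)) : Prop :=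
  A ⊆ irreducibleComponents T ∧ B ⊆ irreducibleComponents T ∧ A.Nonempty ∧ B.Nonempty ∧
    A ∪ B = irreducibleComponents T

/-- Direction 1: any valid pair bounds the connectedness dimension. -/
lemma connDim_le_of_valid {A B : Set (Set T)} (h : Valid A B) :
    LocCoh.connDim T ≤ topologicalKrullDim ↥(⋃₀ A ∩ ⋃₀ B) := by
  obtain ⟨hA, hB, hAne, hBne, hAB⟩ := h
  unfold LocCoh.connDim
  by_cases hdisj : Disjoint A B
  · obtain ⟨h1, h2⟩ := not_isConnected_compl hA hB hAne hBne hAB hdisj
    exact iInf₂_le_of_le _ ⟨h1, h2⟩ le_rfl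
  · rw [Set.not_disjoint_iff] at hdisj
    obtain ⟨C, hCA, hCB⟩ := hdisj
    have hCsub : C ⊆ ⋃₀ A ∩ ⋃₀ B :=
      fun x hx => ⟨Set.mem_sUnion.2 ⟨C, hCA, hx⟩, Set.mem_sUnion.2 ⟨C, hCB, hx⟩⟩
    by_cases hsingle : irreducibleComponents T = {C}
    · -- T irreducible: Z = univ
      have hCuniv : C = Set.univ := by
        rw [← sUnion_irreducibleComponents, hsingle, Set.sUnion_singleton]
      refine iInf₂_le_of_le Set.univ ⟨isClosed_univ, ?_⟩ (dim_mono (by rw [← hCuniv]; exact hCsub))
      rw [Set.compl_univ]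
      exact fun h => h.nonempty.ne_empty rfl
    · -- use ({C}, comps \ {C})
      have hCcomp : C ∈ irreducibleComponents T := hA hCA
      have hne : (irreducibleComponents T \ {C}).Nonempty := by
        by_contra hcon
        rw [Set.not_nonempty_iff_eq_empty, Set.sdiff_eq_empty] at hcon
        exact hsingle (Set.Subset.antisymm hcon (Set.singleton_subset_iff.2 hCcomp))
      obtain ⟨h1, h2⟩ := not_isConnected_compl (A := {C}) (B := irreducibleComponents T \ {C})
        (Set.singleton_subset_iff.2 hCcomp) Set.sdiff_subset (Set.singleton_nonempty C) hne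
        (by rw [Set.union_sdiff_self, Set.union_eq_right.2 (Set.singleton_subset_iff.2 hCcomp)])
        Set.disjoint_sdiff_right
      refine iInf₂_le_of_le _ ⟨h1, h2⟩ (dim_mono ?_)
      rw [Set.sUnion_singleton]
      exact Set.inter_subset_left.trans hCsub

/-- Direction 2: any closed set with non-connected complement contains `⋃₀ A ∩ ⋃₀ B` for a valid
pair. -/
lemma exists_valid_of_closed [Nonempty T] {Z : Set T} (hZ : IsClosed Z) (hnc : ¬ IsConnected Zᶜ) :
    ∃ A B : Set (Set T), Valid A B ∧ ⋃₀ A ∩ ⋃₀ B ⊆ Z := by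
  have hcompsne : (irreducibleComponents T).Nonempty := by
    obtain ⟨x⟩ := ‹Nonempty T›
    exact ⟨irreducibleComponent x, irreducibleComponent_mem_irreducibleComponents x⟩
  by_cases hempty : Zᶜ = ∅
  · refine ⟨irreducibleComponents T, irreducibleComponents T,
      ⟨le_rfl, le_rfl, hcompsne, hcompsne, Set.union_self _⟩, ?_⟩
    rw [Set.compl_empty_iff] at hempty
    rw [hempty]; exact Set.subset_univ _
  · have hne : Zᶜ.Nonempty := Set.nonempty_iff_ne_empty.2 hempty
    have hnp : ¬ IsPreconnected Zᶜ := fun h => hnc ⟨hne, h⟩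
    unfold IsPreconnected at hnp
    push Not at hnp
    obtain ⟨u, v, hu, hv, hsub, hune, hvne, hdis⟩ := hnp
    -- each component's open part lies in u or v
    have hcomp : ∀ C ∈ irreducibleComponents T, C ∩ Zᶜ ⊆ u ∨ C ∩ Zᶜ ⊆ v := by
      intro C hC
      have hpre : IsPreconnected (C ∩ Zᶜ) :=
        (preirreducible_inter_open hC.1.isPreirreducible hZ.isOpen_compl).isPreconnected
      rw [isPreconnected_iff_subset_of_disjoint] at hpre
      refine hpre u v hu hv (Set.inter_subset_right.trans hsub) ?_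
      rw [Set.eq_empty_iff_forall_notMem]
      intro x hx
      have : x ∈ Zᶜ ∩ (u ∩ v) := ⟨hx.1.2, hx.2⟩
      rw [hdis] at this
      exact this
    refine ⟨{C ∈ irreducibleComponents T | C ∩ Zᶜ ⊆ u}, {C ∈ irreducibleComponents T | C ∩ Zᶜ ⊆ v},
      ⟨Set.sep_subset _ _, Set.sep_subset _ _, ?_, ?_, ?_⟩, ?_⟩
    · obtain ⟨x, hxZ, hxu⟩ := hune
      refine ⟨irreducibleComponent x, irreducibleComponent_mem_irreducibleComponents x, ?_⟩
      rcases hcomp _ (irreducibleComponent_mem_irreducibleComponents x) with h | h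
      · exact h
      · exfalso
        have hxv : x ∈ v := h ⟨mem_irreducibleComponent, hxZ⟩
        have : x ∈ Zᶜ ∩ (u ∩ v) := ⟨hxZ, hxu, hxv⟩
        rw [hdis] at this
        exact this
    · obtain ⟨x, hxZ, hxv⟩ := hvne
      refine ⟨irreducibleComponent x, irreducibleComponent_mem_irreducibleComponents x, ?_⟩
      rcases hcomp _ (irreducibleComponent_mem_irreducibleComponents x) with h | h
      · exfalso
        have hxu : x ∈ u := h ⟨mem_irreducibleComponent, hxZ⟩
        have : x ∈ Zᶜ ∩ (u ∩ v) := ⟨hxZ, hxu, hxv⟩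
        rw [hdis] at this
        exact this
      · exact h
    · ext C
      simp only [Set.mem_union, Set.mem_ofPred_eq]
      constructor
      · rintro (h | h) <;> exact h.1
      · intro hC
        rcases hcomp C hC with h | h
        · exact Or.inl ⟨hC, h⟩
        · exact Or.inr ⟨hC, h⟩
    · rintro x ⟨⟨C₁, ⟨-, hC₁⟩, hx₁⟩, ⟨C₂, ⟨-, hC₂⟩, hx₂⟩⟩
      by_contra hxZ
      have : x ∈ Zᶜ ∩ (u ∩ v) := ⟨hxZ, hC₁ ⟨hx₁, hxZ⟩, hC₂ ⟨hx₂, hxZ⟩⟩
      rw [hdis] at this
      exact this

theorem connDim_eq [Nonempty T] :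
    LocCoh.connDim T = ⨅ (A : Set (Set T)) (B : Set (Set T))
      (_ : A ⊆ irreducibleComponents T ∧ B ⊆ irreducibleComponents T ∧ A.Nonempty ∧ B.Nonempty ∧
        A ∪ B = irreducibleComponents T), topologicalKrullDim ↥(⋃₀ A ∩ ⋃₀ B) := by
  apply le_antisymm
  · exact le_iInf fun A => le_iInf fun B => le_iInf fun h => connDim_le_of_valid h
  · unfold LocCoh.connDim
    refine le_iInf₂ fun Z hZ => ?_
    obtain ⟨A, B, hAB, hsub⟩ := exists_valid_of_closed hZ.1 hZ.2
    exact iInf_le_of_le A (iInf_le_of_le B (iInf_le_of_le hAB (dim_mono hsub)))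

section Strict

open Order

lemma krullDim_lt_of_strictMono_lt {α β : Type*} [Preorder α] [Preorder β] (f : α → β)
    (hf : StrictMono f) (b₀ : β) (hb : ∀ a, f a < b₀) (hfin : krullDim β < ⊤) :
    krullDim α < krullDim β := by
  rcases isEmpty_or_nonempty α with hα | hα
  · rw [krullDim_eq_bot]
    have : Nonempty β := ⟨b₀⟩
    exact bot_lt_krullDim
  · have h1 : ∀ a : α, height a + 1 ≤ height b₀ := fun a =>
      (add_le_add_left (height_le_height_apply_of_strictMono f hf a) 1).trans
        (height_add_one_le (hb a))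
    have h2 : (height b₀ : WithBot ℕ∞) ≤ krullDim β := height_le_krullDim b₀
    have h3 : height b₀ ≠ ⊤ := by
      intro h
      rw [h] at h2
      exact absurd (lt_of_le_of_lt h2 hfin) (lt_irrefl _)
    obtain ⟨n, hn⟩ := ENat.ne_top_iff_exists.1 h3
    obtain ⟨a₀⟩ := hα
    have hn1 : 1 ≤ n := by
      have := h1 a₀
      rw [← hn] at this
      have h4 : (1 : ℕ∞) ≤ n := le_trans le_add_self this
      exact_mod_cast h4
    have h5 : ∀ a : α, height a ≤ ((n - 1 : ℕ) : ℕ∞) := by
      intro a
      have := h1 a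
      rw [← hn] at this
      have h6 : height a ≠ ⊤ := by
        intro h; rw [h] at this; simp at this
      obtain ⟨m, hm⟩ := ENat.ne_top_iff_exists.1 h6
      rw [← hm] at this ⊢
      have : m + 1 ≤ n := by exact_mod_cast this
      exact_mod_cast (by omega : m ≤ n - 1)
    have h7 : krullDim α ≤ ((n - 1 : ℕ) : WithBot ℕ∞) := by
      rw [krullDim_eq_iSup_height]
      exact iSup_le fun a => WithBot.coe_le_coe.2 (h5 a)
    refine lt_of_le_of_lt h7 (lt_of_lt_of_le ?_ h2)
    rw [← hn]
    refine WithBot.coe_lt_coe.2 ?_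
    exact_mod_cast (by omega : n - 1 < n)

variable {T : Type u} [TopologicalSpace T]

lemma dim_lt_of_ssubset {Z C : Set T} (hZ : IsClosed Z) (hC : IsIrreducible C) (hZC : Z ⊂ C)
    (hfin : topologicalKrullDim ↥C < ⊤) :
    topologicalKrullDim ↥Z < topologicalKrullDim ↥C := by
  have hemb : IsClosedEmbedding (Set.inclusion hZC.subset) :=
    IsClosedEmbedding.inclusion hZC.subset (hZ.preimage continuous_subtype_val)
  have : IrreducibleSpace ↥C := Subtype.irreducibleSpace hC
  let top : IrreducibleCloseds ↥C := ⟨Set.univ, IrreducibleSpace.isIrreducible_univ _, isClosed_univ⟩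
  refine krullDim_lt_of_strictMono_lt (IrreducibleCloseds.map _ hemb.continuous)
    (IrreducibleCloseds.map_strictMono_of_isInducing hemb.isInducing) top ?_ hfin
  intro c
  refine lt_of_le_of_ne (fun x _ => Set.mem_univ x) ?_
  intro h
  obtain ⟨x, hxC, hxZ⟩ := Set.exists_of_ssubset hZC
  have hx : (⟨x, hxC⟩ : ↥C) ∈ (IrreducibleCloseds.map _ hemb.continuous c : Set ↥C) := by
    rw [h]; exact Set.mem_univ _
  rw [IrreducibleCloseds.coe_map] at hx
  have hsub : closure (Set.inclusion hZC.subset '' (c : Set ↥Z)) ⊆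
      Set.range (Set.inclusion hZC.subset) :=
    closure_minimal (Set.image_subset_range _ _) hemb.isClosed_range
  obtain ⟨z, hz⟩ := hsub hx
  exact hxZ (by have := congrArg Subtype.val hz; simp at this; rw [← this]; exact z.2)

end Strict

section Subdim

variable {T : Type u} [TopologicalSpace T] [NoetherianSpace T]

lemma connDim_le_dim_comp {C : Set T} (hC : C ∈ irreducibleComponents T) :
    LocCoh.connDim T ≤ topologicalKrullDim ↥C := by
  have hv : Valid ({C} : Set (Set T)) (irreducibleComponents T) :=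
    ⟨Set.singleton_subset_iff.2 hC, le_rfl, Set.singleton_nonempty C, ⟨C, hC⟩,
      Set.union_eq_right.2 (Set.singleton_subset_iff.2 hC)⟩
  have h := connDim_le_of_valid hv
  have hset : ⋃₀ ({C} : Set (Set T)) ∩ ⋃₀ irreducibleComponents T = C := by
    rw [Set.sUnion_singleton, sUnion_irreducibleComponents, Set.inter_univ]
  rwa [hset] at h

theorem connDim_le_subdim : LocCoh.connDim T ≤ LocCoh.subdim T := by
  unfold LocCoh.subdim
  exact le_iInf₂ fun C hC => connDim_le_dim_comp hC

theorem connDim_eq_subdim_iff [Nonempty T] (hfin : topologicalKrullDim T < ⊤) :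
    LocCoh.connDim T = LocCoh.subdim T ↔ IrreducibleSpace T := by
  constructor
  · intro heq
    by_contra hirr
    -- the infimum defining subdim is attained
    have hcompsne : (irreducibleComponents T).Nonempty := by
      obtain ⟨x⟩ := ‹Nonempty T›
      exact ⟨irreducibleComponent x, irreducibleComponent_mem_irreducibleComponents x⟩
    have : Nonempty ↥(irreducibleComponents T) := hcompsne.to_subtype
    have hatt : ∃ C₀ ∈ irreducibleComponents T, LocCoh.subdim T = topologicalKrullDim ↥C₀ := by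
      unfold LocCoh.subdim
      rw [iInf_subtype']
      obtain ⟨C₀, hC₀⟩ := ciInf_mem (fun C : ↥(irreducibleComponents T) =>
        topologicalKrullDim ↥(C : Set T))
      exact ⟨C₀.1, C₀.2, hC₀.symm⟩
    obtain ⟨C₀, hC₀, hsub⟩ := hatt
    have hne : (irreducibleComponents T \ {C₀}).Nonempty := by
      by_contra hcon
      rw [Set.not_nonempty_iff_eq_empty, Set.sdiff_eq_empty] at hcon
      have hsingle : irreducibleComponents T = {C₀} :=
        Set.Subset.antisymm hcon (Set.singleton_subset_iff.2 hC₀)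
      have hCuniv : C₀ = Set.univ := by
        rw [← sUnion_irreducibleComponents, hsingle, Set.sUnion_singleton]
      apply hirr
      rw [irreducibleSpace_def]
      show IsIrreducible (Set.univ : Set T)
      rw [← hCuniv]
      exact hC₀.1
    have hv : Valid ({C₀} : Set (Set T)) (irreducibleComponents T \ {C₀}) :=
      ⟨Set.singleton_subset_iff.2 hC₀, Set.sdiff_subset, Set.singleton_nonempty C₀, hne,
        by rw [Set.union_sdiff_self, Set.union_eq_right.2 (Set.singleton_subset_iff.2 hC₀)]⟩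
    have h1 := connDim_le_of_valid hv
    rw [Set.sUnion_singleton] at h1
    have hss : C₀ ∩ ⋃₀ (irreducibleComponents T \ {C₀}) ⊂ C₀ := by
      refine ⟨Set.inter_subset_left, fun h => ?_⟩
      have : C₀ ∈ irreducibleComponents T \ {C₀} :=
        mem_of_subset_sUnion Set.sdiff_subset hC₀ (fun x hx => (h hx).2)
      exact this.2 rfl
    have h2 := dim_lt_of_ssubset
      ((isClosed_of_mem_irreducibleComponents C₀ hC₀).inter
        (isClosed_sUnion_comps (Set.sdiff_subset))) hC₀.1 hss
      (lt_of_le_of_lt (topologicalKrullDim_subspace_le T C₀) hfin)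
    rw [heq, hsub] at h1
    exact absurd (lt_of_le_of_lt h1 h2) (lt_irrefl _)
  · intro hirr
    apply le_antisymm connDim_le_subdim
    have hcomps : irreducibleComponents T = {Set.univ} := irreducibleComponents_eq_singleton
    rw [connDim_eq]
    refine le_iInf fun A => le_iInf fun B => le_iInf fun h => ?_
    obtain ⟨hA, hB, ⟨a, ha⟩, ⟨b, hb⟩, -⟩ := h
    have ha' : a = Set.univ := by
      have := hA ha; rw [hcomps] at this; exact this
    have hb' : b = Set.univ := by
      have := hB hb; rw [hcomps] at this; exact this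
    have hset : ⋃₀ A ∩ ⋃₀ B = Set.univ := by
      rw [Set.eq_univ_iff_forall]
      intro x
      exact ⟨⟨a, ha, ha' ▸ Set.mem_univ x⟩, ⟨b, hb, hb' ▸ Set.mem_univ x⟩⟩
    rw [hset]
    unfold LocCoh.subdim
    exact iInf₂_le_of_le Set.univ (by rw [hcomps]; rfl) le_rfl

end Subdim

end Groth.Agent.H58.ConnDim
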