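import Mathlib
import Groth.Agent.H58.ConnDim

set_option autoImplicit false

namespace Groth.Agent.H58.ConnDimSpec

open PrimeSpectrum Groth.Agent.H58.ConnDim

universe u

variable {R : Type u} [CommRing R]

lemma dim_zeroLocus (I : Ideal R) :
    topologicalKrullDim ↥(zeroLocus (I : Set R)) = ringKrullDim (R ⧸ I) := by
  have hemb := isClosedEmbedding_comap_of_surjective (R ⧸ I) (Ideal.Quotient.mk I)
    Ideal.Quotient.mk_surjective
  have hrange : Set.range (comap (Ideal.Quotient.mk I)) = zeroLocus (I : Set R) := by
    rw [range_comap_of_surjective _ _ Ideal.Quotient.mk_surjective, Ideal.mk_ker]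
  rw [← PrimeSpectrum.topologicalKrullDim_eq_ringKrullDim, ← hrange]
  exact (IsHomeomorph.topologicalKrullDim_eq _
    hemb.isEmbedding.toHomeomorph.isHomeomorph).symm

variable [IsNoetherianRing R]

theorem connDim_two_minimalPrimes (p q : Ideal R) (hmin : minimalPrimes R = {p, q}) :
    LocCoh.connDim (PrimeSpectrum R) = ringKrullDim (R ⧸ (p ⊔ q)) := by
  have hcomps : irreducibleComponents (PrimeSpectrum R) =
      {zeroLocus (p : Set R), zeroLocus (q : Set R)} := by
    rw [← zeroLocus_minimalPrimes, hmin, Set.image_pair]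
    rfl
  rw [← dim_zeroLocus, zeroLocus_sup]
  apply le_antisymm
  · by_cases hne : p = q
    · subst hne
      rw [Set.inter_self]
      exact connDim_le_dim_comp (by rw [hcomps]; exact Set.mem_insert _ _)
    · have hv : Valid ({zeroLocus (p : Set R)} : Set (Set (PrimeSpectrum R)))
          {zeroLocus (q : Set R)} := by
        refine ⟨?_, ?_, Set.singleton_nonempty _, Set.singleton_nonempty _, ?_⟩
        · rw [hcomps]; exact Set.singleton_subset_iff.2 (Set.mem_insert _ _)
        · rw [hcomps]; exact Set.singleton_subset_iff.2 (Set.mem_insert_of_mem _ rfl)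
        · rw [hcomps]; rfl
      have h := connDim_le_of_valid hv
      rwa [Set.sUnion_singleton, Set.sUnion_singleton] at h
  · have : Nonempty (PrimeSpectrum R) := by
      have : p ∈ minimalPrimes R := hmin ▸ Set.mem_insert p {q}
      exact ⟨⟨p, this.1.1⟩⟩
    rw [connDim_eq]
    refine le_iInf fun A => le_iInf fun B => le_iInf fun h => dim_mono ?_
    obtain ⟨hA, hB, ⟨a, ha⟩, ⟨b, hb⟩, -⟩ := h
    intro x hx
    constructor
    · refine ⟨a, ha, ?_⟩
      have := hA ha
      rw [hcomps] at this
      rcases this with rfl | rfl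
      · exact hx.1
      · exact hx.2
    · refine ⟨b, hb, ?_⟩
      have := hB hb
      rw [hcomps] at this
      rcases this with rfl | rfl
      · exact hx.1
      · exact hx.2

end Groth.Agent.H58.ConnDimSpec
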