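import Mathlib.CategoryTheory.Abelian.Projective.Resolution
import Mathlib.Algebra.Homology.ShortComplex.Exact

/-!
# Projective resolutions from a chosen family of projective covers
-/
set_option autoImplicit false
set_option linter.unusedSectionVars false
universe v u
open CategoryTheory CategoryTheory.Limits

namespace Groth.Agent.H58.ProjResOf

variable {C : Type u} [Category.{v} C] [Abelian C]
  (G : C → C) (p : ∀ Y : C, G Y ⟶ Y) [∀ Y, Epi (p Y)] [∀ Y, Projective (G Y)]

/-- the differential `G (ker f) → X` -/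
noncomputable def dd {X Y : C} (f : X ⟶ Y) : G (kernel f) ⟶ X := p (kernel f) ≫ kernel.ι f

@[reassoc (attr := simp)]
theorem dd_f {X Y : C} (f : X ⟶ Y) : dd G p f ≫ f = 0 := by
  simp [dd]

set_option backward.isDefEq.respectTransparency false in
theorem exact_dd_f {X Y : C} (f : X ⟶ Y) :
    (ShortComplex.mk (dd G p f) f (by simp)).Exact := by
  let α : ShortComplex.mk (dd G p f) f (by simp) ⟶ ShortComplex.mk (kernel.ι f) f (by simp) :=
    { τ₁ := p _
      τ₂ := 𝟙 _
      τ₃ := 𝟙 _
      comm₁₂ := by simp [dd] }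
  rw [ShortComplex.exact_iff_of_epi_of_isIso_of_mono α]
  apply ShortComplex.exact_of_f_is_kernel
  apply kernelIsKernel

set_option backward.isDefEq.respectTransparency.types false in
/-- the complex -/
noncomputable def ofComplex (Z : C) : ChainComplex C ℕ :=
  ChainComplex.mk' (G Z) (G (kernel (p Z))) (dd G p (p Z))
    (fun f => ⟨_, dd G p f, by simp⟩)

set_option backward.isDefEq.respectTransparency.types false in
lemma ofComplex_d_1_0 (Z : C) : (ofComplex G p Z).d 1 0 = dd G p (p Z) := by
  simp [ofComplex]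

set_option backward.isDefEq.respectTransparency.types false in
lemma ofComplex_exactAt_succ (Z : C) (n : ℕ) : (ofComplex G p Z).ExactAt (n + 1) := by
  rw [HomologicalComplex.exactAt_iff' _ (n + 1 + 1) (n + 1) n (by simp) (by simp)]
  simp only [HomologicalComplex.sc', HomologicalComplex.shortComplexFunctor', ofComplex,
    ChainComplex.mk', ChainComplex.mk, ChainComplex.of_d]
  match n with
  | 0 => apply exact_dd_f
  | n + 1 => apply exact_dd_f

/-- every term is of the form `G Y` -/
theorem ofComplex_X (Z : C) (n : ℕ) : ∃ Y : C, (ofComplex G p Z).X n = G Y := by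
  obtain (_ | _ | _ | n) := n <;> exact ⟨_, rfl⟩

instance (Z : C) (n : ℕ) : Projective ((ofComplex G p Z).X n) := by
  obtain ⟨Y, hY⟩ := ofComplex_X G p Z n
  rw [hY]; infer_instance

set_option backward.defeqAttrib.useBackward true in
set_option backward.isDefEq.respectTransparency false in
/-- the projective resolution built from the covers `p`. -/
noncomputable def of (Z : C) : ProjectiveResolution Z where
  complex := ofComplex G p Z
  π := (ChainComplex.toSingle₀Equiv _ _).symm ⟨p Z, by
          rw [ofComplex_d_1_0, dd, Category.assoc, kernel.condition, comp_zero]⟩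
  quasiIso := ⟨fun n => by
    cases n
    · rw [ChainComplex.quasiIsoAt₀_iff, ShortComplex.quasiIso_iff_of_zeros']
      · dsimp
        refine (ShortComplex.exact_and_epi_g_iff_of_iso ?_).2
          ⟨exact_dd_f G p (p Z), by dsimp; infer_instance⟩
        exact ShortComplex.isoMk (Iso.refl _) (Iso.refl _) (Iso.refl _)
          (by simp [ofComplex]) (by simp)
      all_goals rfl
    · rw [quasiIsoAt_iff_exactAt']
      · apply ofComplex_exactAt_succ
      · apply ChainComplex.exactAt_succ_single_obj⟩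

set_option backward.isDefEq.respectTransparency.types false in
/-- properties propagate along the construction. -/
theorem ofComplex_X_prop (Q P : C → Prop) (hQ : ∀ Y, P Y → Q (G Y)) (hP : ∀ Y, P Y → P (G Y))
    (hker : ∀ {X Y : C} (f : X ⟶ Y), P X → P (kernel f)) (Z : C) (hZ : P Z) (n : ℕ) :
    Q ((ofComplex G p Z).X n) ∧ P ((ofComplex G p Z).X n) := by
  have key : ∀ n, (Q ((ChainComplex.mkAux (G Z) (G (kernel (p Z)))
      (G (kernel (dd G p (p Z)))) (dd G p (p Z)) (dd G p (dd G p (p Z))) (by simp)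
      (fun S => ⟨_, dd G p S.f, by simp⟩) n).X₁) ∧
      P ((ChainComplex.mkAux (G Z) (G (kernel (p Z)))
      (G (kernel (dd G p (p Z)))) (dd G p (p Z)) (dd G p (dd G p (p Z))) (by simp)
      (fun S => ⟨_, dd G p S.f, by simp⟩) n).X₁)) ∧
      (Q ((ChainComplex.mkAux (G Z) (G (kernel (p Z)))
      (G (kernel (dd G p (p Z)))) (dd G p (p Z)) (dd G p (dd G p (p Z))) (by simp)
      (fun S => ⟨_, dd G p S.f, by simp⟩) n).X₂) ∧
      P ((ChainComplex.mkAux (G Z) (G (kernel (p Z)))
      (G (kernel (dd G p (p Z)))) (dd G p (p Z)) (dd G p (dd G p (p Z))) (by simp)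
      (fun S => ⟨_, dd G p S.f, by simp⟩) n).X₂)) ∧
      (Q ((ChainComplex.mkAux (G Z) (G (kernel (p Z)))
      (G (kernel (dd G p (p Z)))) (dd G p (p Z)) (dd G p (dd G p (p Z))) (by simp)
      (fun S => ⟨_, dd G p S.f, by simp⟩) n).X₃) ∧
      P ((ChainComplex.mkAux (G Z) (G (kernel (p Z)))
      (G (kernel (dd G p (p Z)))) (dd G p (p Z)) (dd G p (dd G p (p Z))) (by simp)
      (fun S => ⟨_, dd G p S.f, by simp⟩) n).X₃)) := by
    intro n
    induction n with
    | zero =>
      have h0 : P (G Z) := hP _ hZ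
      have h1 : P (kernel (p Z)) := hker _ h0
      have h1' : P (G (kernel (p Z))) := hP _ h1
      have h2 : P (kernel (dd G p (p Z))) := hker _ h1'
      exact ⟨⟨hQ _ h2, hP _ h2⟩, ⟨hQ _ h1, h1'⟩, ⟨hQ _ hZ, h0⟩⟩
    | succ n ih =>
      have h2 := hker (ChainComplex.mkAux (G Z) (G (kernel (p Z)))
        (G (kernel (dd G p (p Z)))) (dd G p (p Z)) (dd G p (dd G p (p Z))) (by simp)
        (fun S => ⟨_, dd G p S.f, by simp⟩) n).f ih.1.2
      exact ⟨⟨hQ _ h2, hP _ h2⟩, ih.1, ih.2.1⟩
  exact (key n).2.2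

theorem of_X_prop (Q P : C → Prop) (hQ : ∀ Y, P Y → Q (G Y)) (hP : ∀ Y, P Y → P (G Y))
    (hker : ∀ {X Y : C} (f : X ⟶ Y), P X → P (kernel f)) (Z : C) (hZ : P Z) (n : ℕ) :
    Q (((of G p Z).complex).X n) ∧ P (((of G p Z).complex).X n) :=
  ofComplex_X_prop G p Q P hQ hP hker Z hZ n

theorem of_X (Z : C) (n : ℕ) : ∃ Y : C, ((of G p Z).complex).X n = G Y :=
  ofComplex_X G p Z n

end Groth.Agent.H58.ProjResOf
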