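import Groth.Agent.H58.GammaI
import Groth.Agent.H58.ProjResOf
import Groth.Agent.H58.ExtCompare

/-!
# `Ext^i(N, -)` commutes with filtered colimits for `N` having a finite free resolution
-/
set_option autoImplicit false
set_option linter.unusedSectionVars false
universe u
open CategoryTheory CategoryTheory.Limits Opposite

namespace Groth.Agent.H58.LCColim

variable {R : Type u} [CommRing R]

/-- finite free modules -/
def IsFinFree (X : ModuleCat.{u} R) : Prop :=
  ∃ k : ℕ, Nonempty (X ≅ ModuleCat.of R (Fin k → R))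

theorem IsFinFree.finite {X : ModuleCat.{u} R} (h : IsFinFree X) : Module.Finite R X := by
  obtain ⟨k, ⟨e⟩⟩ := h
  exact Module.Finite.equiv e.toLinearEquiv.symm

theorem IsFinFree.projective {X : ModuleCat.{u} R} (h : IsFinFree X) : Projective X := by
  obtain ⟨k, ⟨e⟩⟩ := h
  have : Projective (ModuleCat.of R (Fin k → R)) :=
    ModuleCat.projective_of_free (M := ModuleCat.of R (Fin k → R)) (Pi.basisFun R (Fin k))
  exact Projective.of_iso e.symm this

theorem exists_cover (Y : ModuleCat.{u} R) : ∃ (G : ModuleCat.{u} R) (p : G ⟶ Y),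
    Epi p ∧ Projective G ∧ (Module.Finite R Y → IsFinFree G) := by
  by_cases hY : Module.Finite R Y
  · obtain ⟨n, f, hf⟩ := Module.Finite.exists_fin' R Y
    have hG : IsFinFree (ModuleCat.of R (Fin n → R)) := ⟨n, ⟨Iso.refl _⟩⟩
    exact ⟨ModuleCat.of R (Fin n → R), ModuleCat.ofHom f,
      (ModuleCat.epi_iff_surjective _).2 hf, hG.projective, fun _ => hG⟩
  · exact ⟨Projective.over Y, Projective.π Y, inferInstance, inferInstance,
      fun h => absurd h hY⟩

/-- chosen cover -/
noncomputable def G (Y : ModuleCat.{u} R) : ModuleCat.{u} R := (exists_cover Y).choose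
/-- chosen cover map -/
noncomputable def p (Y : ModuleCat.{u} R) : G Y ⟶ Y := (exists_cover Y).choose_spec.choose

instance (Y : ModuleCat.{u} R) : Epi (p Y) := (exists_cover Y).choose_spec.choose_spec.1
instance (Y : ModuleCat.{u} R) : Projective (G Y) := (exists_cover Y).choose_spec.choose_spec.2.1
theorem G_finFree (Y : ModuleCat.{u} R) (h : Module.Finite R Y) : IsFinFree (G Y) :=
  (exists_cover Y).choose_spec.choose_spec.2.2 h

/-- the resolution -/
noncomputable def finRes (Z : ModuleCat.{u} R) : ProjectiveResolution Z := ProjResOf.of G p Z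

theorem finRes_finFree [IsNoetherianRing R] (Z : ModuleCat.{u} R) (hZ : Module.Finite R Z) (n : ℕ) :
    IsFinFree ((finRes Z).complex.X n) := by
  refine (ProjResOf.of_X_prop G p IsFinFree (fun Y => Module.Finite R Y) G_finFree
    (fun Y hY => (G_finFree Y hY).finite) ?_ Z hZ n).1
  intro X Y f hX
  have : IsNoetherian R X := isNoetherian_of_isNoetherianRing_of_finite R X
  have h2 : Module.Finite R (LinearMap.ker f.hom) := inferInstance
  exact Module.Finite.equiv (ModuleCat.kernelIsoKer f).toLinearEquiv.symm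

section filtered
variable {Λ : Type u} [SmallCategory Λ] [IsFiltered Λ] (K : Λ ⥤ ModuleCat.{u} R) (c : Cocone K)
  (hc : IsColimit c)

include hc in
theorem exists_lift_fin (k : ℕ) (f : ModuleCat.of R (Fin k → R) ⟶ c.pt) :
    ∃ (l : Λ) (g : ModuleCat.of R (Fin k → R) ⟶ K.obj l), g ≫ c.ι.app l = f := by
  classical
  have h1 : ∀ i : Fin k, ∃ (l : Λ) (x : K.obj l), c.ι.app l x = f.hom (Pi.single i 1) :=
    fun i => Concrete.isColimit_exists_rep K hc _
  choose l x hx using h1
  obtain ⟨S, hS⟩ := IsFiltered.sup_objs_exists (Finset.univ.image l)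
  have a : ∀ i, l i ⟶ S := fun i => (hS (Finset.mem_image_of_mem l (Finset.mem_univ i))).some
  refine ⟨S, ModuleCat.ofHom (Fintype.linearCombination R (fun i => K.map (a i) (x i))), ?_⟩
  apply ModuleCat.hom_ext
  apply LinearMap.pi_ext'
  intro i
  apply LinearMap.ext_ring
  simp only [ModuleCat.hom_comp, ModuleCat.hom_ofHom, LinearMap.coe_comp, Function.comp_apply,
    LinearMap.coe_single, Fintype.linearCombination_apply_single, one_smul]
  rw [← hx i, ← ConcreteCategory.comp_apply, c.w (a i)]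

include hc in
theorem exists_lift {P : ModuleCat.{u} R} (hP : IsFinFree P) (f : P ⟶ c.pt) :
    ∃ (l : Λ) (g : P ⟶ K.obj l), g ≫ c.ι.app l = f := by
  obtain ⟨k, ⟨e⟩⟩ := hP
  obtain ⟨l, g, hg⟩ := exists_lift_fin K c hc k (e.inv ≫ f)
  exact ⟨l, e.hom ≫ g, by rw [Category.assoc, hg, e.hom_inv_id_assoc]⟩

include hc in
theorem exists_map_eq_zero_finset {P : ModuleCat.{u} R} {l : Λ} (h : P ⟶ K.obj l)
    (hz : h ≫ c.ι.app l = 0) (s : Finset P) :
    ∃ (m : Λ) (a : l ⟶ m), ∀ x ∈ s, K.map a (h x) = 0 := by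
  classical
  induction s using Finset.induction_on with
  | empty => exact ⟨l, 𝟙 l, fun a ha => by simp at ha⟩
  | insert y s _ ih =>
    obtain ⟨m, a, ha⟩ := ih
    have h1 : c.ι.app m (K.map a (h y)) = 0 := by
      rw [← ConcreteCategory.comp_apply, c.w a, ← ConcreteCategory.comp_apply, hz]
      rfl
    obtain ⟨m', b, hb⟩ := exists_map_eq_zero_of_ι_eq_zero K c hc _ h1
    refine ⟨m', a ≫ b, fun x hx => ?_⟩
    rw [K.map_comp, ConcreteCategory.comp_apply]
    rcases Finset.mem_insert.mp hx with rfl | hx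
    · exact hb
    · rw [ha x hx, map_zero]

include hc in
theorem exists_comp_map_eq_zero {P : ModuleCat.{u} R} (hP : Module.Finite R P) {l : Λ}
    (h : P ⟶ K.obj l) (hz : h ≫ c.ι.app l = 0) :
    ∃ (m : Λ) (a : l ⟶ m), h ≫ K.map a = 0 := by
  obtain ⟨s, hs⟩ := hP.fg_top
  obtain ⟨m, a, ha⟩ := exists_map_eq_zero_finset K c hc h hz s
  refine ⟨m, a, ?_⟩
  apply ModuleCat.hom_ext
  apply LinearMap.ext_on_range (v := fun x : s => (x : P))
  · simpa using hs
  · intro x
    exact ha x.1 x.2

include hc in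
theorem exists_comp_map_eq {P : ModuleCat.{u} R} (hP : Module.Finite R P) {l : Λ}
    (f g : P ⟶ K.obj l) (hz : f ≫ c.ι.app l = g ≫ c.ι.app l) :
    ∃ (m : Λ) (a : l ⟶ m), f ≫ K.map a = g ≫ K.map a := by
  obtain ⟨m, a, ha⟩ := exists_comp_map_eq_zero K c hc hP (f - g)
    (by rw [Preadditive.sub_comp, hz, sub_self])
  exact ⟨m, a, by rwa [Preadditive.sub_comp, sub_eq_zero] at ha⟩

end filtered

section ext
variable {Λ : Type u} [SmallCategory Λ] [IsFiltered Λ] (K : Λ ⥤ ModuleCat.{u} R) (c : Cocone K)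
  (hc : IsColimit c)
variable {N : ModuleCat.{u} R} (P : ProjectiveResolution N) (hP : ∀ n, IsFinFree (P.complex.X n))

open Abelian

include hc hP in
theorem ext_surj (i : ℕ) (y : Abelian.Ext N c.pt i) :
    ∃ (l : Λ) (x : Abelian.Ext N (K.obj l) i), x.comp (Ext.mk₀ (c.ι.app l)) (add_zero i) = y := by
  obtain ⟨f, hf, rfl⟩ := P.extMk_surjective y (i + 1) rfl
  obtain ⟨l, g, hg⟩ := exists_lift K c hc (hP i) f
  have h1 : (P.complex.d (i + 1) i ≫ g) ≫ c.ι.app l = 0 := by rw [Category.assoc, hg, hf]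
  obtain ⟨m, a, ha⟩ := exists_comp_map_eq_zero K c hc (hP (i + 1)).finite _ h1
  refine ⟨m, P.extMk (g ≫ K.map a) (i + 1) rfl (by rw [← Category.assoc, ha]), ?_⟩
  rw [P.extMk_comp_mk₀]
  congr 1
  rw [Category.assoc, c.w a, hg]

include hc hP in
theorem ext_inj (i : ℕ) {l : Λ} (x : Abelian.Ext N (K.obj l) i)
    (hx : x.comp (Ext.mk₀ (c.ι.app l)) (add_zero i) = 0) :
    ∃ (m : Λ) (a : l ⟶ m), x.comp (Ext.mk₀ (K.map a)) (add_zero i) = 0 := by
  obtain ⟨f, hf, rfl⟩ := P.extMk_surjective x (i + 1) rfl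
  rw [P.extMk_comp_mk₀] at hx
  cases i with
  | zero =>
    rw [ExtCompare.extMk_zero_eq_zero_iff] at hx
    obtain ⟨m, a, ha⟩ := exists_comp_map_eq_zero K c hc (hP 0).finite f hx
    refine ⟨m, a, ?_⟩
    rw [P.extMk_comp_mk₀, ExtCompare.extMk_zero_eq_zero_iff]
    exact ha
  | succ i =>
    rw [P.extMk_eq_zero_iff _ _ _ _ i rfl] at hx
    obtain ⟨h, hh⟩ := hx
    obtain ⟨m, h', hh'⟩ := exists_lift K c hc (hP i) h
    have h2 : (P.complex.d (i + 1) i ≫ h' ≫ K.map (IsFiltered.rightToMax l m)) ≫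
        c.ι.app (IsFiltered.max l m) =
        (f ≫ K.map (IsFiltered.leftToMax l m)) ≫ c.ι.app (IsFiltered.max l m) := by
      simp only [Category.assoc, c.w]
      rw [hh', hh]
    obtain ⟨n, b, hb⟩ := exists_comp_map_eq K c hc (hP (i + 1)).finite _ _ h2
    refine ⟨n, IsFiltered.leftToMax l m ≫ b, ?_⟩
    rw [P.extMk_comp_mk₀, P.extMk_eq_zero_iff _ _ _ _ i rfl]
    refine ⟨h' ≫ K.map (IsFiltered.rightToMax l m) ≫ K.map b, ?_⟩
    rw [K.map_comp, ← Category.assoc f, ← hb]
    simp only [Category.assoc]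

/-- shorthand for the functor `Ext^i(N, -)` -/
noncomputable abbrev E (N : ModuleCat.{u} R) (i : ℕ) : ModuleCat.{u} R ⥤ ModuleCat.{u} R :=
  (Ext R (ModuleCat.{u} R) i).obj (op N)

theorem E_map_comp_apply (N : ModuleCat.{u} R) (i : ℕ) {A B C : ModuleCat.{u} R} (f : A ⟶ B)
    (g : B ⟶ C) (x : (E N i).obj A) :
    ((E N i).map (f ≫ g)).hom x = ((E N i).map g).hom (((E N i).map f).hom x) := by
  rw [(E N i).map_comp]; rfl

include hc hP in
theorem ext_isColimit_mapCocone (i : ℕ) :
    Nonempty (IsColimit ((E N i).mapCocone c)) := by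
  refine ⟨?_⟩
  apply isColimitOfReflects (forget (ModuleCat.{u} R))
  apply Types.FilteredColimit.isColimitOf
  · intro y
    let y' : (E N i).obj c.pt := y
    obtain ⟨l, x, hx⟩ := ext_surj K c hc P hP i (ExtCompare.extEquiv (R := R) N c.pt i y')
    refine ⟨l, (ExtCompare.extEquiv (R := R) N (K.obj l) i).symm x, ?_⟩
    change y' = ((E N i).map (c.ι.app l)).hom ((ExtCompare.extEquiv (R := R) N (K.obj l) i).symm x)
    apply (ExtCompare.extEquiv (R := R) N c.pt i).injective
    rw [← hx, ExtCompare.extEquiv_naturality_right, LinearEquiv.apply_symm_apply]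
  · intro l m xl xm h
    let xl' : (E N i).obj (K.obj l) := xl
    let xm' : (E N i).obj (K.obj m) := xm
    have h' : ((E N i).map (c.ι.app l)).hom xl' = ((E N i).map (c.ι.app m)).hom xm' := h
    let z : (E N i).obj (K.obj (IsFiltered.max l m)) :=
      ((E N i).map (K.map (IsFiltered.leftToMax l m))).hom xl' -
        ((E N i).map (K.map (IsFiltered.rightToMax l m))).hom xm'
    have hz : ((E N i).map (c.ι.app (IsFiltered.max l m))).hom z = 0 := by
      simp only [z, map_sub]
      rw [← E_map_comp_apply, ← E_map_comp_apply, c.w, c.w, h', sub_self]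
    have hz' : (ExtCompare.extEquiv (R := R) N _ i z).comp
        (Ext.mk₀ (c.ι.app (IsFiltered.max l m))) (add_zero i) = 0 := by
      rw [← ExtCompare.extEquiv_naturality_right, hz, map_zero]
    obtain ⟨n, d, hd⟩ := ext_inj K c hc P hP i _ hz'
    rw [← ExtCompare.extEquiv_naturality_right] at hd
    have hd' : ((E N i).map (K.map d)).hom z = 0 :=
      (ExtCompare.extEquiv (R := R) N _ i).injective (by rw [hd, map_zero])
    refine ⟨n, IsFiltered.leftToMax l m ≫ d, IsFiltered.rightToMax l m ≫ d, ?_⟩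
    change ((E N i).map (K.map (IsFiltered.leftToMax l m ≫ d))).hom xl' =
      ((E N i).map (K.map (IsFiltered.rightToMax l m ≫ d))).hom xm'
    rw [K.map_comp, K.map_comp, E_map_comp_apply, E_map_comp_apply, ← sub_eq_zero, ← map_sub]
    exact hd'

end ext

section main
variable [IsNoetherianRing R] {Λ : Type u} [SmallCategory Λ] [IsFiltered Λ]

theorem ext_preservesColimitsOfShape (N : ModuleCat.{u} R) (hN : Module.Finite R N) (i : ℕ) :
    PreservesColimitsOfShape Λ ((Ext R (ModuleCat.{u} R) i).obj (op N)) :=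
  ⟨fun {K} => ⟨fun {c} hc =>
    ext_isColimit_mapCocone K c hc (finRes N) (finRes_finFree N hN) i⟩⟩

end main

section general
universe v₁ v₂ v₃ v₄ u₁ u₂ u₃ u₄
variable {J : Type u₁} [Category.{v₁} J] {K : Type u₂} [Category.{v₂} K]
  {C : Type u₃} [Category.{v₃} C] {L : Type u₄} [Category.{v₄} L]

theorem preservesColimitsOfShape_colimit [HasColimitsOfShape J C] (F : J ⥤ K ⥤ C)
    (h : ∀ j, PreservesColimitsOfShape L (F.obj j)) : PreservesColimitsOfShape L (colimit F) := by
  have h1 : PreservesColimitsOfShape L F.flip := by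
    apply preservesColimitsOfShape_of_evaluation
    intro j
    exact h j
  have h2 : PreservesColimitsOfShape L (colim : (J ⥤ C) ⥤ C) :=
    (colimConstAdj (J := J) (C := C)).leftAdjoint_preservesColimits.preservesColimitsOfShape
  have h3 : PreservesColimitsOfShape L (F.flip ⋙ colim) := inferInstance
  exact preservesColimitsOfShape_of_natIso (colimitIsoFlipCompColim F).symm

end general

end Groth.Agent.H58.LCColim
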