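import Groth.Agent.H58.LCTorsion
import Groth.Agent.H58.LCBasic
import Groth.Agent.H58.DepthBasic
import Mathlib.RingTheory.Depth.Rees

/-!
# Depth and local cohomology

For a finite module `M` over a Noetherian ring with `IM ≠ M`: `H^i_I(M) = 0` for `i < depth_I M`
and `H^t_I(M) ≠ 0` for `t = depth_I M`.
-/
set_option autoImplicit false
set_option linter.unusedSectionVars false
universe u
open CategoryTheory CategoryTheory.Limits Opposite RingTheory.Sequence

namespace Groth.Agent.H58.LC
open Groth.Agent.H58 Groth.Agent.H58.ExtCompare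

variable {R : Type u} [CommRing R] [IsNoetherianRing R] (I : Ideal R)

theorem support_Q_subset (n : ℕ) :
    Module.support R (Q I n) ⊆ PrimeSpectrum.zeroLocus (I : Set R) := by
  change Module.support R (R ⧸ I ^ n) ⊆ _
  rw [Module.support_eq_zeroLocus, Ideal.annihilator_quotient]
  rcases Nat.eq_zero_or_pos n with rfl | hn
  · simp
  · rw [PrimeSpectrum.zeroLocus_pow I hn.ne']

variable (M : Type u) [AddCommGroup M] [Module R M] [Module.Finite R M]

/-- vanishing of `Ext^i(R/I^k, M)` below the depth -/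
theorem subsingleton_ext_Q_of_lt_idealDepth (hne : I • (⊤ : Submodule R M) ≠ ⊤) (i : ℕ)
    (hi : ((i + 1 : ℕ) : ℕ∞) ≤ LocCoh.idealDepth I M) (N : ModuleCat.{u} R) [Module.Finite R N]
    (hN : Module.support R N ⊆ PrimeSpectrum.zeroLocus (I : Set R)) :
    Subsingleton (Abelian.Ext N (ModuleCat.of R M) i) := by
  obtain ⟨rs, hlen, hmem, hreg⟩ :=
    Groth.Agent.H58.DepthBasic.exists_isRegular_of_le_idealDepth I M hne (i + 1) hi
  exact ModuleCat.subsingleton_ext_of_exists_isRegular I N hN (ModuleCat.of R M)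
    (lt_top_iff_ne_top.2 hne) rs hmem hreg i (by omega)

/-- vanishing below the depth -/
theorem subsingleton_H_of_lt_idealDepth (hne : I • (⊤ : Submodule R M) ≠ ⊤) (i : ℕ)
    (hi : (i : ℕ∞) < LocCoh.idealDepth I M) : Subsingleton (LocCoh.H I i M) := by
  have hi' : ((i + 1 : ℕ) : ℕ∞) ≤ LocCoh.idealDepth I M := by
    rw [Nat.cast_add, Nat.cast_one]
    exact Order.add_one_le_of_lt hi
  have key : ∀ x : LocCoh.H I i M, x = 0 := by
    intro x
    obtain ⟨n, e, rfl⟩ := exists_rep I i (ModuleCat.of R M) x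
    have := subsingleton_ext_Q_of_lt_idealDepth I M hne i hi' (Q I n) (support_Q_subset I n)
    rw [Subsingleton.elim e 0, map_zero]
  exact ⟨fun a b => by rw [key a, key b]⟩

theorem subsingleton_ext_of_iso {X X' Y : ModuleCat.{u} R} (φ : X ≅ X') (n : ℕ)
    (h : Subsingleton (Abelian.Ext X' Y n)) : Subsingleton (Abelian.Ext X Y n) := by
  have key : ∀ e : Abelian.Ext X Y n, e = 0 := by
    intro e
    have h1 : (Abelian.Ext.mk₀ φ.hom).comp ((Abelian.Ext.mk₀ φ.inv).comp e (zero_add n))
        (zero_add n) = e := by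
      rw [Abelian.Ext.mk₀_comp_mk₀_assoc, Iso.hom_inv_id, Abelian.Ext.mk₀_id_comp]
    rw [← h1, Subsingleton.elim ((Abelian.Ext.mk₀ φ.inv).comp e (zero_add n)) 0,
      Abelian.Ext.comp_zero]
  exact ⟨fun a b => by rw [key a, key b]⟩

/-- `Ext^t(R/I, M) ≠ 0` at the depth. -/
theorem exists_ext_ne_zero (hne : I • (⊤ : Submodule R M) ≠ ⊤) (t : ℕ)
    (ht : LocCoh.idealDepth I M = t) :
    ∃ e : Abelian.Ext (Q I 1) (ModuleCat.of R M) t, e ≠ 0 := by
  by_contra hcon
  push_neg at hcon
  have hsub : Subsingleton (Abelian.Ext (Q I 1) (ModuleCat.of R M) t) :=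
    ⟨fun a b => by rw [hcon a, hcon b]⟩
  let φ : ModuleCat.of R (Shrink.{u} (R ⧸ I)) ≅ Q I 1 :=
    ((Shrink.linearEquiv R (R ⧸ I)).trans
      (Submodule.quotEquivOfEq I (I ^ 1) (pow_one I).symm)).toModuleIso
  have h2 : ∀ i < t + 1, Subsingleton
      (Abelian.Ext (ModuleCat.of R (Shrink.{u} (R ⧸ I))) (ModuleCat.of R M) i) := by
    intro i hi
    apply subsingleton_ext_of_iso φ
    rcases Nat.lt_or_ge i t with h | h
    · apply subsingleton_ext_Q_of_lt_idealDepth I M hne i _ (Q I 1) (support_Q_subset I 1)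
      rw [ht]
      exact_mod_cast h
    · obtain rfl : i = t := by omega
      exact hsub
  obtain ⟨rs, hlen, hmem, hreg⟩ := ((ModuleCat.exists_isRegular_tfae I (t + 1) (ModuleCat.of R M)
    (lt_top_iff_ne_top.2 hne)).out 1 3).mp h2
  have := Groth.Agent.H58.DepthBasic.le_idealDepth I M hreg.toIsWeaklyRegular hmem
  rw [hlen, ht] at this
  have : t + 1 ≤ t := by exact_mod_cast this
  omega

theorem Qmap_surjective {n m : ℕ} (h : n ≤ m) : Function.Surjective (Qmap I h).hom := by
  intro y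
  obtain ⟨r, rfl⟩ := Submodule.Quotient.mk_surjective _ y
  exact ⟨Submodule.Quotient.mk r, rfl⟩

/-- the transition maps out of `Ext^t(R/I, M)` are injective at the depth -/
theorem eq_zero_of_Qmap_comp_eq_zero (hne : I • (⊤ : Submodule R M) ≠ ⊤) (t : ℕ)
    (ht : LocCoh.idealDepth I M = t) {m : ℕ} (hm : 1 ≤ m)
    (e : Abelian.Ext (Q I 1) (ModuleCat.of R M) t)
    (h : (Abelian.Ext.mk₀ (Qmap I hm)).comp e (zero_add t) = 0) : e = 0 := by
  cases t with
  | zero =>
    haveI : Epi (Qmap I hm) := (ModuleCat.epi_iff_surjective _).2 (Qmap_surjective I hm)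
    apply Abelian.Ext.precomp_mk₀_injective_of_epi (ModuleCat.of R M) (Qmap I hm)
    rw [map_zero]
    exact h
  | succ s =>
    have hS := shortExact_of (LinearMap.ker (Qmap I hm).hom).subtype (Qmap I hm).hom
      (Submodule.injective_subtype _) (Qmap_surjective I hm)
      (fun y => by
        constructor
        · intro hy
          exact ⟨⟨y, hy⟩, rfl⟩
        · rintro ⟨z, rfl⟩
          exact z.2)
    obtain ⟨x₁, hx₁⟩ := Abelian.Ext.contravariant_sequence_exact₃ hS (ModuleCat.of R M) e h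
      (show 1 + s = s + 1 by omega)
    have hKsupp : Module.support R (LinearMap.ker (Qmap I hm).hom) ⊆
        PrimeSpectrum.zeroLocus (I : Set R) :=
      (Module.support_subset_of_injective _ (Submodule.injective_subtype _)).trans
        (support_Q_subset I m)
    have hsub : Subsingleton (Abelian.Ext (ModuleCat.of R (LinearMap.ker (Qmap I hm).hom))
        (ModuleCat.of R M) s) := by
      apply subsingleton_ext_Q_of_lt_idealDepth I M hne s _ _ hKsupp
      rw [ht]
    rw [← hx₁, Subsingleton.elim x₁ 0, Abelian.Ext.comp_zero]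

/-- non-vanishing at the depth -/
theorem nontrivial_H_of_idealDepth_eq (hne : I • (⊤ : Submodule R M) ≠ ⊤) (t : ℕ)
    (ht : LocCoh.idealDepth I M = t) : Nontrivial (LocCoh.H I t M) := by
  obtain ⟨e, he⟩ := exists_ext_ne_zero I M hne t ht
  refine ⟨⟨ι I t (ModuleCat.of R M) 1 e, 0, fun h0 => he ?_⟩⟩
  obtain ⟨m, hm, h1⟩ := (ι_eq_zero_iff I t (ModuleCat.of R M) e).1 h0
  exact eq_zero_of_Qmap_comp_eq_zero I M hne t ht hm e h1

end Groth.Agent.H58.LC
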