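import Groth.Agent.H58.LCMV3

set_option autoImplicit false
set_option linter.unusedSectionVars false
universe u
open CategoryTheory CategoryTheory.Limits Opposite

namespace Groth.Agent.H58.LC
open Groth.Agent.H58.ExtCompare

variable {R : Type u} [CommRing R]

/-- transporting exactness along bijections -/
theorem ker_eq_range_of_transport {A₁ A₂ A₃ B₁ B₂ B₃ : Type*}
    [AddCommGroup A₁] [Module R A₁] [AddCommGroup A₂] [Module R A₂] [AddCommGroup A₃] [Module R A₃]
    [AddCommGroup B₁] [Module R B₁] [AddCommGroup B₂] [Module R B₂] [AddCommGroup B₃] [Module R B₃]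
    (f : A₁ →ₗ[R] A₂) (g : A₂ →ₗ[R] A₃) (F : B₁ →ₗ[R] B₂) (G : B₂ →ₗ[R] B₃)
    (t₁ : A₁ →ₗ[R] B₁) (t₂ : A₂ →ₗ[R] B₂) (t₃ : A₃ →ₗ[R] B₃)
    (hgf : ∀ x, g (f x) = 0) (hex : ∀ y, g y = 0 → ∃ x, f x = y)
    (hF : ∀ x, F (t₁ x) = t₂ (f x)) (hG : ∀ y, G (t₂ y) = t₃ (g y))
    (h₁ : Function.Surjective t₁) (h₂ : Function.Surjective t₂) (h₃ : Function.Injective t₃) :
    LinearMap.ker G = LinearMap.range F := by
  apply le_antisymm
  · intro v hv
    rw [LinearMap.mem_ker] at hv
    obtain ⟨y, rfl⟩ := h₂ v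
    rw [hG] at hv
    have : g y = 0 := h₃ (by rw [hv, map_zero])
    obtain ⟨x, rfl⟩ := hex y this
    exact ⟨t₁ x, hF x⟩
  · rintro _ ⟨w, rfl⟩
    obtain ⟨x, rfl⟩ := h₁ w
    rw [LinearMap.mem_ker, hF, hG, hgf, map_zero]

section
variable {a a' : Ideal R} (h : a ≤ a') (M : ModuleCat.{u} R)

theorem ev_qLE (n : ℕ) (e : Abelian.Ext (Q a' n) M 0) :
    ev a M n ((Abelian.Ext.mk₀ (qLE h n)).comp e (zero_add 0)) = ev a' M n e := by
  obtain ⟨f, rfl⟩ := exists_mk₀ e
  rw [Abelian.Ext.mk₀_comp_mk₀, ev_mk₀, ev_mk₀]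
  rfl

theorem H0equiv_HmapOfLE (x : (localCohomology a' 0).obj M) :
    (H0equiv a M (((Dual2.HmapOfLE h 0).app M).hom x) : M) = (H0equiv a' M x : M) := by
  obtain ⟨n, e, rfl⟩ := exists_rep a' 0 M x
  rw [HmapOfLE_ι, H0equiv_ι, H0equiv_ι, ev_qLE]

theorem HmapOfLE_zero_injective :
    Function.Injective ((Dual2.HmapOfLE h 0).app M).hom := by
  rw [injective_iff_map_eq_zero]
  intro x hx
  have h1 := H0equiv_HmapOfLE h M x
  rw [hx, map_zero] at h1
  apply (H0equiv a' M).injective
  rw [map_zero]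
  apply Subtype.ext
  exact h1.symm

end

variable [IsNoetherianRing R] (a b : Ideal R) {M : ModuleCat.{u} R} (J : InjectiveResolution M)

/-- `H^i(Γ_a(J•) × Γ_b(J•)) → H^i_a(M) × H^i_b(M)` -/
noncomputable def θ₂ (i : ℕ) : (GK2 a b J).homology i →ₗ[R]
    ((localCohomology a i).obj M × (localCohomology b i).obj M) :=
  LinearMap.prod
    ((HomologicalComplex.homologyMap (p₁K a b J) i ≫ GKhomologyToH a J i).hom)
    ((HomologicalComplex.homologyMap (p₂K a b J) i ≫ GKhomologyToH b J i).hom)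

theorem θ₂_apply (i : ℕ) (x : (GK2 a b J).homology i) :
    θ₂ a b J i x =
      ((GKhomologyToH a J i).hom ((HomologicalComplex.homologyMap (p₁K a b J) i).hom x),
       (GKhomologyToH b J i).hom ((HomologicalComplex.homologyMap (p₂K a b J) i).hom x)) := rfl

theorem homologyMap_comp_apply {K L N : CochainComplex (ModuleCat.{u} R) ℕ} (φ : K ⟶ L) (ψ : L ⟶ N)
    (i : ℕ) (x : K.homology i) :
    (HomologicalComplex.homologyMap ψ i).hom ((HomologicalComplex.homologyMap φ i).hom x) =
      (HomologicalComplex.homologyMap (φ ≫ ψ) i).hom x := by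
  rw [HomologicalComplex.homologyMap_comp]
  rfl

theorem θ₂_bijective (i : ℕ) : Function.Bijective (θ₂ a b J i) := by
  constructor
  · rw [injective_iff_map_eq_zero]
    intro x hx
    rw [θ₂_apply, Prod.mk_eq_zero] at hx
    have h1 := (GKhomologyToH_bijective a J i).1 (hx.1.trans (map_zero _).symm)
    have h2 := (GKhomologyToH_bijective b J i).1 (hx.2.trans (map_zero _).symm)
    have h3 : (HomologicalComplex.homologyMap (p₁K a b J ≫ i₁K a b J + p₂K a b J ≫ i₂K a b J) i).hom x
        = x := by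
      rw [pK_iK, HomologicalComplex.homologyMap_id]
      rfl
    rw [HomologicalComplex.homologyMap_add, ModuleCat.hom_add, LinearMap.add_apply,
      ← homologyMap_comp_apply, ← homologyMap_comp_apply, h1, h2, map_zero, map_zero, add_zero] at h3
    exact h3.symm
  · rintro ⟨u, v⟩
    obtain ⟨u', rfl⟩ := (GKhomologyToH_bijective a J i).2 u
    obtain ⟨v', rfl⟩ := (GKhomologyToH_bijective b J i).2 v
    refine ⟨(HomologicalComplex.homologyMap (i₁K a b J) i).hom u' +
      (HomologicalComplex.homologyMap (i₂K a b J) i).hom v', ?_⟩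
    have e1 : (HomologicalComplex.homologyMap (p₁K a b J) i).hom
        ((HomologicalComplex.homologyMap (i₁K a b J) i).hom u' +
          (HomologicalComplex.homologyMap (i₂K a b J) i).hom v') = u' := by
      rw [map_add, homologyMap_comp_apply, homologyMap_comp_apply, i₁K_p₁K, i₂K_p₁K,
        HomologicalComplex.homologyMap_id, HomologicalComplex.homologyMap_zero]
      change u' + 0 = u'
      rw [add_zero]
    have e2 : (HomologicalComplex.homologyMap (p₂K a b J) i).hom
        ((HomologicalComplex.homologyMap (i₁K a b J) i).hom u' +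
          (HomologicalComplex.homologyMap (i₂K a b J) i).hom v') = v' := by
      rw [map_add, homologyMap_comp_apply, homologyMap_comp_apply, i₁K_p₂K, i₂K_p₂K,
        HomologicalComplex.homologyMap_id, HomologicalComplex.homologyMap_zero]
      change 0 + v' = v'
      rw [zero_add]
    rw [θ₂_apply, e1, e2]

/-- the pair of comparison maps -/
noncomputable def Pmap (i : ℕ) : (localCohomology (a ⊔ b) i).obj M →ₗ[R]
    ((localCohomology a i).obj M × (localCohomology b i).obj M) :=
  LinearMap.prod ((Dual2.HmapOfLE (le_sup_left : a ≤ a ⊔ b) i).app M).hom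
    ((Dual2.HmapOfLE (le_sup_right : b ≤ a ⊔ b) i).app M).hom

/-- the difference of comparison maps -/
noncomputable def Dmap (i : ℕ) : ((localCohomology a i).obj M × (localCohomology b i).obj M) →ₗ[R]
    (localCohomology (a ⊓ b) i).obj M :=
  ((Dual2.HmapOfLE (inf_le_left : a ⊓ b ≤ a) i).app M).hom ∘ₗ LinearMap.fst R _ _ -
    ((Dual2.HmapOfLE (inf_le_right : a ⊓ b ≤ b) i).app M).hom ∘ₗ LinearMap.snd R _ _

theorem Pmap_θ₁ (i : ℕ) (x : (GK (a ⊔ b) J).homology i) :
    Pmap a b i ((GKhomologyToH (a ⊔ b) J i).hom x) =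
      θ₂ a b J i ((HomologicalComplex.homologyMap (αK a b J) i).hom x) := by
  rw [θ₂_apply, homologyMap_comp_apply, homologyMap_comp_apply, αK_p₁K, αK_p₂K]
  apply Prod.ext
  · exact GKhomologyToH_GKle (le_sup_left : a ≤ a ⊔ b) J i x
  · exact GKhomologyToH_GKle (le_sup_right : b ≤ a ⊔ b) J i x

theorem Dmap_θ₂ (i : ℕ) (y : (GK2 a b J).homology i) :
    Dmap a b i (θ₂ a b J i y) =
      (GKhomologyToH (a ⊓ b) J i).hom ((HomologicalComplex.homologyMap (βK a b J) i).hom y) := by
  rw [βK_eq, HomologicalComplex.homologyMap_sub, ModuleCat.hom_sub, LinearMap.sub_apply, map_sub,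
    ← homologyMap_comp_apply, ← homologyMap_comp_apply,
    ← GKhomologyToH_GKle (inf_le_left : a ⊓ b ≤ a) J i,
    ← GKhomologyToH_GKle (inf_le_right : a ⊓ b ≤ b) J i]
  rfl

/-- `θ₃` as a linear equivalence -/
noncomputable def θ₃Equiv (i : ℕ) :
    (GK (a ⊓ b) J).homology i ≃ₗ[R] (localCohomology (a ⊓ b) i).obj M :=
  LinearEquiv.ofBijective (GKhomologyToH (a ⊓ b) J i).hom (GKhomologyToH_bijective (a ⊓ b) J i)

/-- the Mayer–Vietoris connecting map -/
noncomputable def δMV (i : ℕ) :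
    (localCohomology (a ⊓ b) i).obj M →ₗ[R] (localCohomology (a ⊔ b) (i + 1)).obj M :=
  (GKhomologyToH (a ⊔ b) J (i + 1)).hom ∘ₗ
    ((SMV_shortExact a b J).δ i (i + 1) (by simp)).hom ∘ₗ (θ₃Equiv a b J i).symm.toLinearMap

theorem δMV_θ₃ (i : ℕ) (y : (GK (a ⊓ b) J).homology i) :
    δMV a b J i ((GKhomologyToH (a ⊓ b) J i).hom y) =
      (GKhomologyToH (a ⊔ b) J (i + 1)).hom
        (((SMV_shortExact a b J).δ i (i + 1) (by simp)).hom y) := by
  have : (θ₃Equiv a b J i).symm ((GKhomologyToH (a ⊓ b) J i).hom y) = y :=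
    (θ₃Equiv a b J i).symm_apply_apply y
  change (GKhomologyToH (a ⊔ b) J (i + 1)).hom
    (((SMV_shortExact a b J).δ i (i + 1) (by simp)).hom
      ((θ₃Equiv a b J i).symm ((GKhomologyToH (a ⊓ b) J i).hom y))) = _
  rw [this]

theorem Pmap_zero_injective : Function.Injective (Pmap a b (M := M) 0) := by
  intro x y hxy
  have := congrArg Prod.fst hxy
  exact HmapOfLE_zero_injective (le_sup_left : a ≤ a ⊔ b) M this

theorem ker_Pmap_succ (i : ℕ) :
    LinearMap.ker (Pmap a b (M := M) (i + 1)) = LinearMap.range (δMV a b J i) := by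
  have hex := (ShortComplex.moduleCat_exact_iff _).mp
    ((SMV_shortExact a b J).homology_exact₁ i (i + 1) (by simp))
  refine ker_eq_range_of_transport ((SMV_shortExact a b J).δ i (i + 1) (by simp)).hom
    (HomologicalComplex.homologyMap (αK a b J) (i + 1)).hom _ _
    (GKhomologyToH (a ⊓ b) J i).hom (GKhomologyToH (a ⊔ b) J (i + 1)).hom (θ₂ a b J (i + 1))
    ?_ hex ?_ ?_ (GKhomologyToH_bijective _ J i).2 (GKhomologyToH_bijective _ J (i + 1)).2
    (θ₂_bijective a b J (i + 1)).1
  · intro x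
    exact congrArg (fun φ => φ.hom x) ((SMV_shortExact a b J).δ_comp i (i + 1) (by simp))
  · intro x
    exact δMV_θ₃ a b J i x
  · intro y
    exact Pmap_θ₁ a b J (i + 1) y

include J in
theorem ker_Dmap (i : ℕ) :
    LinearMap.ker (Dmap a b (M := M) i) = LinearMap.range (Pmap a b (M := M) i) := by
  have hex := (ShortComplex.moduleCat_exact_iff _).mp
    ((SMV_shortExact a b J).homology_exact₂ i)
  refine ker_eq_range_of_transport
    (HomologicalComplex.homologyMap (αK a b J) i).hom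
    (HomologicalComplex.homologyMap (βK a b J) i).hom _ _
    (GKhomologyToH (a ⊔ b) J i).hom (θ₂ a b J i) (GKhomologyToH (a ⊓ b) J i).hom
    ?_ hex ?_ ?_ (GKhomologyToH_bijective _ J i).2 (θ₂_bijective a b J i).2
    (GKhomologyToH_bijective _ J i).1
  · intro x
    rw [homologyMap_comp_apply, αK_βK, HomologicalComplex.homologyMap_zero]
    rfl
  · intro x
    exact Pmap_θ₁ a b J i x
  · intro y
    exact Dmap_θ₂ a b J i y

theorem ker_δMV (i : ℕ) :
    LinearMap.ker (δMV a b J i) = LinearMap.range (Dmap a b (M := M) i) := by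
  have hex := (ShortComplex.moduleCat_exact_iff _).mp
    ((SMV_shortExact a b J).homology_exact₃ i (i + 1) (by simp))
  refine ker_eq_range_of_transport
    (HomologicalComplex.homologyMap (βK a b J) i).hom
    ((SMV_shortExact a b J).δ i (i + 1) (by simp)).hom _ _
    (θ₂ a b J i) (GKhomologyToH (a ⊓ b) J i).hom (GKhomologyToH (a ⊔ b) J (i + 1)).hom
    ?_ hex ?_ ?_ (θ₂_bijective a b J i).2 (GKhomologyToH_bijective _ J i).2
    (GKhomologyToH_bijective _ J (i + 1)).1
  · intro x
    exact congrArg (fun φ => φ.hom x) ((SMV_shortExact a b J).comp_δ i (i + 1) (by simp))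
  · intro x
    exact Dmap_θ₂ a b J i x
  · intro y
    exact δMV_θ₃ a b J i y

end Groth.Agent.H58.LC
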