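import Groth.Prelude.Def_W4bk5brsh16IT
import Mathlib.CategoryTheory.Limits.ConcreteCategory.Basic
import Mathlib.Algebra.Category.ModuleCat.FilteredColimits

set_option autoImplicit false
universe u
open CategoryTheory CategoryTheory.Limits Opposite

namespace Groth.Agent.H58

variable {R : Type u} [CommRing R] (I : Ideal R) (M : Type u) [AddCommGroup M] [Module R M]

/-- The evaluated diagram `n ↦ Hom_R(I^n, M)`. -/
noncomputable abbrev dtDiagram : ℕᵒᵖᵒᵖ ⥤ ModuleCat.{u} R :=
  LocCoh.transformDiagram I ⋙ (evaluation _ _).obj (ModuleCat.of R M)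

/-- The colimit cocone with point `DT I M`. -/
noncomputable def dtCocone : Cocone (dtDiagram I M) :=
  ((evaluation _ _).obj (ModuleCat.of R M)).mapCocone (colimit.cocone (LocCoh.transformDiagram I))

noncomputable def dtIsColimit : IsColimit (dtCocone I M) :=
  isColimitOfPreserves _ (colimit.isColimit _)

/-- The class of `f : I^n → M` in `D_I(M)`. -/
noncomputable def dtι (n : ℕ) : (↥(I ^ n) →ₗ[R] M) →ₗ[R] LocCoh.DT I M :=
  ((colimit.ι (LocCoh.transformDiagram I) (op (op n))).app (ModuleCat.of R M)).hom ∘ₗ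
    (ModuleCat.homLinearEquiv (S := R) (M := ModuleCat.of R ↥(I ^ n))
      (N := ModuleCat.of R M)).symm.toLinearMap

theorem dtι_apply (n : ℕ) (f : ↥(I ^ n) →ₗ[R] M) :
    dtι I M n f = ((colimit.ι (LocCoh.transformDiagram I) (op (op n))).app (ModuleCat.of R M)).hom
      (ModuleCat.ofHom f) := rfl

theorem forget_preservesSmallFiltered :
    PreservesFilteredColimitsOfSize.{0, 0} (forget (ModuleCat.{u} R)) :=
  preservesSmallestFilteredColimits_of_preservesFilteredColimits.{u, u} _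

theorem forget_preservesColimit_dtDiagram : PreservesColimit (dtDiagram I M) (forget (ModuleCat.{u} R)) := by
  have := forget_preservesSmallFiltered (R := R)
  infer_instance

theorem dt_exists_rep (x : LocCoh.DT I M) :
    ∃ (n : ℕ) (f : ↥(I ^ n) →ₗ[R] M), dtι I M n f = x := by
  have := forget_preservesColimit_dtDiagram I M
  obtain ⟨j, y, hy⟩ := Concrete.isColimit_exists_rep (dtDiagram I M) (dtIsColimit I M) x
  refine ⟨j.unop.unop, ModuleCat.Hom.hom y, ?_⟩
  exact hy

/-- `f : I^n → M` as an element of the `n`-th term of the diagram. -/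
def dtElem (n : ℕ) (f : ↥(I ^ n) →ₗ[R] M) : ToType ((dtDiagram I M).obj (op (op n))) :=
  (ModuleCat.ofHom f : ModuleCat.of R ↥(I ^ n) ⟶ ModuleCat.of R M)

theorem dtι_eq_cocone (n : ℕ) (f : ↥(I ^ n) →ₗ[R] M) :
    dtι I M n f = (dtCocone I M).ι.app (op (op n)) (dtElem I M n f) := rfl

theorem dtDiagram_map {n m : ℕ} (h : n ≤ m) (f : ↥(I ^ n) →ₗ[R] M) :
    (dtDiagram I M).map (homOfLE h).op.op (dtElem I M n f) =
      dtElem I M m (f ∘ₗ Submodule.inclusion (Ideal.pow_le_pow_right h)) := rfl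

theorem dtι_restrict {n m : ℕ} (h : n ≤ m) (f : ↥(I ^ n) →ₗ[R] M) :
    dtι I M m (f ∘ₗ Submodule.inclusion (Ideal.pow_le_pow_right h)) = dtι I M n f := by
  have := (dtCocone I M).w (homOfLE h).op.op
  have h2 := ConcreteCategory.congr_hom this (dtElem I M n f)
  exact h2

theorem dtElem_injective (n : ℕ) : Function.Injective (dtElem I M n) := by
  intro f g h
  exact congrArg ModuleCat.Hom.hom h

theorem dtι_eq_iff {n n' : ℕ} (f : ↥(I ^ n) →ₗ[R] M) (f' : ↥(I ^ n') →ₗ[R] M) :
    dtι I M n f = dtι I M n' f' ↔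
      ∃ (m : ℕ) (h : n ≤ m) (h' : n' ≤ m),
        f ∘ₗ Submodule.inclusion (Ideal.pow_le_pow_right h) =
          f' ∘ₗ Submodule.inclusion (Ideal.pow_le_pow_right h') := by
  constructor
  · intro heq
    have := forget_preservesColimit_dtDiagram I M
    rw [dtι_eq_cocone, dtι_eq_cocone] at heq
    obtain ⟨k, a, b, hab⟩ := Concrete.isColimit_exists_of_rep_eq (dtDiagram I M)
      (dtIsColimit I M) (i := op (op n)) (j := op (op n')) (dtElem I M n f) (dtElem I M n' f') heq
    have hk : n ≤ k.unop.unop := a.unop.unop.le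
    have hk' : n' ≤ k.unop.unop := b.unop.unop.le
    refine ⟨k.unop.unop, hk, hk', ?_⟩
    have ha : a = (homOfLE hk).op.op := Subsingleton.elim _ _
    have hb : b = (homOfLE hk').op.op := Subsingleton.elim _ _
    rw [ha, hb] at hab
    erw [dtDiagram_map, dtDiagram_map] at hab
    exact dtElem_injective I M _ hab
  · rintro ⟨m, h, h', heq⟩
    rw [← dtι_restrict I M h f, ← dtι_restrict I M h' f', heq]

/-- `r ↦ r • x` on an ideal. -/
def smulMap (J : Ideal R) (x : M) : ↥J →ₗ[R] M :=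
  ((LinearMap.lsmul R M).domRestrict J).flip x

@[simp] theorem smulMap_apply (J : Ideal R) (x : M) (r : ↥J) : smulMap M J x r = (r : R) • x := rfl

theorem toDT_apply (x : M) : LocCoh.toDT I M x = dtι I M 0 (smulMap M (I ^ 0) x) := rfl

variable {M} in
theorem idealTransform_map_dtι {N : Type u} [AddCommGroup N] [Module R N] (g : M →ₗ[R] N)
    (n : ℕ) (f : ↥(I ^ n) →ₗ[R] M) :
    ((LocCoh.idealTransform I).map (ModuleCat.ofHom g)).hom (dtι I M n f) =
      dtι I N n (g ∘ₗ f) := by
  have := (colimit.ι (LocCoh.transformDiagram I) (op (op n))).naturality (ModuleCat.ofHom g)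
  have h2 := ConcreteCategory.congr_hom this (dtElem I M n f)
  exact h2.symm

theorem dtι_eq_zero_iff {n : ℕ} (f : ↥(I ^ n) →ₗ[R] M) :
    dtι I M n f = 0 ↔ ∃ (m : ℕ) (h : n ≤ m), ∀ r : ↥(I ^ m),
      f (Submodule.inclusion (Ideal.pow_le_pow_right h) r) = 0 := by
  rw [← (dtι I M n).map_zero, dtι_eq_iff]
  constructor
  · rintro ⟨m, h, h', heq⟩
    refine ⟨m, h, fun r => ?_⟩
    have := LinearMap.congr_fun heq r
    simpa using this
  · rintro ⟨m, h, hr⟩
    refine ⟨m, h, h, ?_⟩
    ext r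
    simpa using hr r

theorem ker_toDT : LinearMap.ker (LocCoh.toDT I M) = DRing.torsionSub I M := by
  ext x
  rw [LinearMap.mem_ker, toDT_apply, dtι_eq_zero_iff]
  constructor
  · rintro ⟨m, hm, hr⟩
    refine ⟨m, fun a ha => ?_⟩
    exact hr ⟨a, ha⟩
  · rintro ⟨m, hm⟩
    refine ⟨m, Nat.zero_le m, fun r => ?_⟩
    exact hm r.1 r.2

end Groth.Agent.H58
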