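import Groth.Agent.H58.DT2

set_option autoImplicit false
universe u
open CategoryTheory CategoryTheory.Limits Opposite

namespace Groth.Agent.H58

variable {R : Type u} [CommRing R] (I : Ideal R)

/-- `D_I(g)` as a linear map. -/
noncomputable def dtMap {M N : Type u} [AddCommGroup M] [Module R M] [AddCommGroup N] [Module R N]
    (g : M →ₗ[R] N) : LocCoh.DT I M →ₗ[R] LocCoh.DT I N :=
  ((LocCoh.idealTransform I).map (ModuleCat.ofHom g)).hom

theorem dtMap_dtι {M N : Type u} [AddCommGroup M] [Module R M] [AddCommGroup N] [Module R N]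
    (g : M →ₗ[R] N) (n : ℕ) (f : ↥(I ^ n) →ₗ[R] M) :
    dtMap I g (dtι I M n f) = dtι I N n (g ∘ₗ f) := idealTransform_map_dtι I g n f

theorem dtMap_toDT {M N : Type u} [AddCommGroup M] [Module R M] [AddCommGroup N] [Module R N]
    (g : M →ₗ[R] N) (x : M) : dtMap I g (LocCoh.toDT I M x) = LocCoh.toDT I N (g x) := by
  rw [toDT_apply, dtMap_dtι, toDT_apply]
  congr 1
  ext r
  simp

theorem dtMap_comp_toDT {M N : Type u} [AddCommGroup M] [Module R M] [AddCommGroup N]
    [Module R N] (g : M →ₗ[R] N) : dtMap I g ∘ₗ LocCoh.toDT I M = LocCoh.toDT I N ∘ₗ g := by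
  ext x
  exact dtMap_toDT I g x

variable [IsNoetherianRing R]

theorem torsionSub_DT_eq_bot (K : Type u) [AddCommGroup K] [Module R K] :
    DRing.torsionSub I (LocCoh.DT I K) = ⊥ := by
  rw [eq_bot_iff]
  rintro x ⟨k, hk⟩
  rw [Submodule.mem_bot]
  obtain ⟨n, f, rfl⟩ := dt_exists_rep I K x
  let m := max n k
  have hnm : n ≤ m := le_max_left n k
  have hkm : k ≤ m := le_max_right n k
  let f' : ↥(I ^ m) →ₗ[R] K := f ∘ₗ Submodule.inclusion (Ideal.pow_le_pow_right hnm)
  have hf' : ∀ p ∈ LinearMap.range f', ∃ j : ℕ, ∀ a ∈ I ^ j, a • p = 0 := by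
    rintro _ ⟨r, rfl⟩
    have h1 : (r : R) • dtι I K n f = 0 := hk r.1 (Ideal.pow_le_pow_right hkm r.2)
    rw [smul_dtι_eq_toDT I f r.1 (Ideal.pow_le_pow_right hnm r.2)] at h1
    have h2 : f ⟨r.1, Ideal.pow_le_pow_right hnm r.2⟩ ∈ LinearMap.ker (LocCoh.toDT I K) := h1
    rw [ker_toDT] at h2
    exact h2
  obtain ⟨j, hj⟩ := exists_pow_smul_eq_zero_of_fg I _ (range_fg I f') hf'
  have hzero := eq_zero_on_pow_add I f' (fun b hb x => hj b hb _ ⟨x, rfl⟩)
  rw [← dtι_restrict I K hnm f, dtι_eq_zero_iff]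
  exact ⟨m + j, Nat.le_add_right m j, hzero⟩

/-- A linear map from a power-torsion module to `D_I(K)` vanishes. -/
theorem eq_zero_of_isPowerTorsion_source {Q K : Type u} [AddCommGroup Q] [Module R Q]
    [AddCommGroup K] [Module R K] (hQ : LocCoh.IsPowerTorsion I Q)
    (δ : Q →ₗ[R] LocCoh.DT I K) : δ = 0 := by
  ext q
  have : δ q ∈ DRing.torsionSub I (LocCoh.DT I K) := by
    obtain ⟨n, hn⟩ := hQ q
    exact ⟨n, fun a ha => by rw [← map_smul, hn a ha, map_zero]⟩
  rw [torsionSub_DT_eq_bot] at this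
  simpa using this

section factor
variable {M M' K : Type u} [AddCommGroup M] [Module R M] [AddCommGroup M'] [Module R M']
  [AddCommGroup K] [Module R K] (e : M →ₗ[R] M')
  (hker : LinearMap.ker e ≤ DRing.torsionSub I M)
  (hcoker : LocCoh.IsPowerTorsion I (M' ⧸ LinearMap.range e))

/-- `D_I(e)` as a linear equivalence. -/
noncomputable def dtEquiv : LocCoh.DT I M ≃ₗ[R] LocCoh.DT I M' :=
  LinearEquiv.ofBijective (dtMap I e) (idealTransform_map_bijective I e hker hcoker)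

/-- The canonical factorisation `M' → D_I(K)` of `η_K ∘ ψ` through `e`. -/
noncomputable def factorDT (ψ : M →ₗ[R] K) : M' →ₗ[R] LocCoh.DT I K :=
  dtMap I ψ ∘ₗ (dtEquiv I e hker hcoker).symm.toLinearMap ∘ₗ LocCoh.toDT I M'

theorem factorDT_comp (ψ : M →ₗ[R] K) :
    factorDT I e hker hcoker ψ ∘ₗ e = LocCoh.toDT I K ∘ₗ ψ := by
  ext x
  simp only [factorDT, LinearMap.coe_comp, LinearEquiv.coe_coe, Function.comp_apply]
  rw [← dtMap_toDT I e x]
  have : (dtEquiv I e hker hcoker).symm (dtMap I e (LocCoh.toDT I M x)) = LocCoh.toDT I M x :=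
    (dtEquiv I e hker hcoker).symm_apply_apply _
  rw [this, dtMap_toDT]

include hcoker in
theorem factor_unique (ψ₁ ψ₂ : M' →ₗ[R] LocCoh.DT I K) (h : ψ₁ ∘ₗ e = ψ₂ ∘ₗ e) : ψ₁ = ψ₂ := by
  have hle : LinearMap.range e ≤ LinearMap.ker (ψ₁ - ψ₂) := by
    rintro _ ⟨x, rfl⟩
    rw [LinearMap.mem_ker, LinearMap.sub_apply, sub_eq_zero]
    exact LinearMap.congr_fun h x
  let δ := (LinearMap.range e).liftQ (ψ₁ - ψ₂) hle
  have hδ : δ = 0 := eq_zero_of_isPowerTorsion_source I hcoker δ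
  ext y
  have : δ (Submodule.Quotient.mk y) = 0 := by rw [hδ]; rfl
  have h2 : (ψ₁ - ψ₂) y = 0 := this
  rwa [LinearMap.sub_apply, sub_eq_zero] at h2

include hker hcoker in
theorem existsUnique_factor (ψ : M →ₗ[R] K) :
    ∃! ψ' : M' →ₗ[R] LocCoh.DT I K, ψ' ∘ₗ e = LocCoh.toDT I K ∘ₗ ψ := by
  refine ⟨factorDT I e hker hcoker ψ, factorDT_comp I e hker hcoker ψ, ?_⟩
  intro ψ' hψ'
  apply factor_unique I e hcoker
  rw [hψ', factorDT_comp]

include hker hcoker in
theorem factor_bijective (ψ : M →ₗ[R] K) (hψ : Function.Bijective ψ)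
    (ψ' : M' →ₗ[R] LocCoh.DT I K) (hψ' : ψ' ∘ₗ e = LocCoh.toDT I K ∘ₗ ψ)
    (hη : Function.Bijective (LocCoh.toDT I M')) : Function.Bijective ψ' := by
  have h1 : ψ' = factorDT I e hker hcoker ψ := by
    apply factor_unique I e hcoker
    rw [hψ', factorDT_comp]
  rw [h1]
  have hDψ : Function.Bijective (dtMap I ψ) := by
    apply idealTransform_map_bijective I ψ
    · rw [LinearMap.ker_eq_bot.mpr hψ.1]; exact bot_le
    · intro q
      refine ⟨0, fun a _ => ?_⟩
      obtain ⟨y, rfl⟩ := Submodule.Quotient.mk_surjective _ q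
      have : y ∈ LinearMap.range ψ := by
        rw [LinearMap.range_eq_top.mpr hψ.2]; exact Submodule.mem_top
      rw [(Submodule.Quotient.mk_eq_zero _).mpr this, smul_zero]
  simp only [factorDT, LinearMap.coe_comp, LinearEquiv.coe_coe]
  exact hDψ.comp ((dtEquiv I e hker hcoker).symm.bijective.comp hη)

end factor

end Groth.Agent.H58
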