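import Groth.Agent.H58.DT3
import Mathlib.Algebra.Module.LocalizedModule.Basic

set_option autoImplicit false
universe u
open CategoryTheory CategoryTheory.Limits Opposite

namespace Groth.Agent.H58

variable {R : Type u} [CommRing R] (a : R)

theorem mem_span_singleton_pow {t : ℕ} {r : R} :
    r ∈ (Ideal.span {a}) ^ t ↔ ∃ c, c * a ^ t = r := by
  rw [Ideal.span_singleton_pow, Ideal.mem_span_singleton']

/-- If every power of `a` acts bijectively on `N`, then `η_N : N → D_{(a)}(N)` is bijective. -/
theorem toDT_bijective_of_smul_bijective (N : Type u) [AddCommGroup N] [Module R N]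
    (ha : ∀ k : ℕ, Function.Bijective (fun n : N => a ^ k • n)) :
    Function.Bijective (LocCoh.toDT (Ideal.span {a}) N) := by
  constructor
  · rw [← LinearMap.ker_eq_bot, ker_toDT, eq_bot_iff]
    rintro x ⟨k, hk⟩
    rw [Submodule.mem_bot]
    have h1 : a ^ k • x = 0 := hk _ (Ideal.pow_mem_pow (Ideal.mem_span_singleton_self a) k)
    apply (ha k).1
    simpa using h1
  · intro x
    obtain ⟨t, f, rfl⟩ := dt_exists_rep (Ideal.span {a}) N x
    have hat : a ^ t ∈ (Ideal.span {a}) ^ t :=
      Ideal.pow_mem_pow (Ideal.mem_span_singleton_self a) t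
    obtain ⟨n, hn⟩ := (ha t).2 (f ⟨a ^ t, hat⟩)
    refine ⟨n, ?_⟩
    rw [toDT_apply, ← dtι_restrict (Ideal.span {a}) N (Nat.zero_le t)]
    congr 1
    ext r
    obtain ⟨c, hc⟩ := (mem_span_singleton_pow a).mp r.2
    have hr : r = c • ⟨a ^ t, hat⟩ := Subtype.ext (by simp [hc])
    simp only [LinearMap.coe_comp, Function.comp_apply, smulMap_apply, Submodule.coe_inclusion]
    rw [hr, map_smul, ← hn]
    simp [mul_smul]

variable (M : Type u) [AddCommGroup M] [Module R M]

theorem smul_pow_bijective_localizedModule (k : ℕ) :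
    Function.Bijective (fun n : LocalizedModule (Submonoid.powers a) M => a ^ k • n) := by
  have h := IsLocalizedModule.map_units (LocalizedModule.mkLinearMap (Submonoid.powers a) M)
    ⟨a ^ k, pow_mem (Submonoid.mem_powers a) k⟩
  have := (Module.End.isUnit_iff _).mp h
  exact this

theorem ker_mkLinearMap_le_torsionSub :
    LinearMap.ker (LocalizedModule.mkLinearMap (Submonoid.powers a) M) ≤
      DRing.torsionSub (Ideal.span {a}) M := by
  intro m hm
  rw [LinearMap.mem_ker] at hm
  obtain ⟨⟨s, k, rfl⟩, hs⟩ :=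
    (IsLocalizedModule.eq_zero_iff (Submonoid.powers a)
      (LocalizedModule.mkLinearMap (Submonoid.powers a) M)).mp hm
  refine ⟨k, fun r hr => ?_⟩
  obtain ⟨c, rfl⟩ := (mem_span_singleton_pow a).mp hr
  have : a ^ k • m = 0 := hs
  rw [mul_smul, this, smul_zero]

theorem isPowerTorsion_coker_mkLinearMap :
    LocCoh.IsPowerTorsion (Ideal.span {a})
      (LocalizedModule (Submonoid.powers a) M ⧸
        LinearMap.range (LocalizedModule.mkLinearMap (Submonoid.powers a) M)) := by
  intro q
  obtain ⟨x, rfl⟩ := Submodule.Quotient.mk_surjective _ q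
  induction x using LocalizedModule.induction_on with
  | h m s =>
    obtain ⟨k, hk⟩ := s.2
    have hk' : a ^ k = (s : R) := hk
    refine ⟨k, fun r hr => ?_⟩
    obtain ⟨c, rfl⟩ := (mem_span_singleton_pow a).mp hr
    rw [← Submodule.Quotient.mk_smul, Submodule.Quotient.mk_eq_zero]
    refine ⟨c • m, ?_⟩
    rw [LocalizedModule.mkLinearMap_apply, mul_smul]
    have h1 : a ^ k • LocalizedModule.mk m s = LocalizedModule.mk m 1 := by
      rw [hk', ← LocalizedModule.mk_cancel (S := Submonoid.powers a) s m, LocalizedModule.smul'_mk]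
      rfl
    rw [h1, LocalizedModule.smul'_mk]

variable [IsNoetherianRing R]

/-- The isomorphism `D_{(a)}(M) ≃ M_a`. -/
noncomputable def dtPrincipalEquiv :
    LocCoh.DT (Ideal.span {a}) M ≃ₗ[R] LocalizedModule (Submonoid.powers a) M :=
  (dtEquiv (Ideal.span {a}) (LocalizedModule.mkLinearMap (Submonoid.powers a) M)
    (ker_mkLinearMap_le_torsionSub a M) (isPowerTorsion_coker_mkLinearMap a M)).trans
  (LinearEquiv.ofBijective (LocCoh.toDT (Ideal.span {a}) (LocalizedModule (Submonoid.powers a) M))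
    (toDT_bijective_of_smul_bijective a _ (smul_pow_bijective_localizedModule a M))).symm

theorem dtPrincipalEquiv_apply_iff (x : LocCoh.DT (Ideal.span {a}) M)
    (y : LocalizedModule (Submonoid.powers a) M) :
    dtPrincipalEquiv a M x = y ↔
      dtMap (Ideal.span {a}) (LocalizedModule.mkLinearMap (Submonoid.powers a) M) x =
        LocCoh.toDT (Ideal.span {a}) (LocalizedModule (Submonoid.powers a) M) y := by
  unfold dtPrincipalEquiv
  rw [LinearEquiv.trans_apply, LinearEquiv.symm_apply_eq]
  rfl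

theorem dtPrincipalEquiv_dtι (t : ℕ) (f : ↥((Ideal.span {a}) ^ t) →ₗ[R] M) :
    dtPrincipalEquiv a M (dtι (Ideal.span {a}) M t f) =
      LocalizedModule.mk (f ⟨a ^ t, Ideal.pow_mem_pow (Ideal.mem_span_singleton_self a) t⟩)
        ⟨a ^ t, pow_mem (Submonoid.mem_powers a) t⟩ := by
  rw [dtPrincipalEquiv_apply_iff, dtMap_dtι, toDT_apply,
    ← dtι_restrict (Ideal.span {a}) _ (Nat.zero_le t)]
  congr 1
  ext r
  have hat : a ^ t ∈ (Ideal.span {a}) ^ t :=
    Ideal.pow_mem_pow (Ideal.mem_span_singleton_self a) t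
  obtain ⟨c, hc⟩ := (mem_span_singleton_pow a).mp r.2
  have hr : r = c • ⟨a ^ t, hat⟩ := Subtype.ext (by simp [hc])
  simp only [LinearMap.coe_comp, Function.comp_apply, smulMap_apply, Submodule.coe_inclusion]
  rw [hr, map_smul, map_smul, LocalizedModule.mkLinearMap_apply]
  simp only [SetLike.val_smul, smul_eq_mul, mul_smul]
  congr 1
  have := LocalizedModule.mk_cancel (S := Submonoid.powers a)
    ⟨a ^ t, pow_mem (Submonoid.mem_powers a) t⟩ (f ⟨a ^ t, hat⟩)
  rw [← this, LocalizedModule.smul'_mk]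
  rfl

theorem dtPrincipalEquiv_comp_toDT :
    (dtPrincipalEquiv a M).toLinearMap ∘ₗ LocCoh.toDT (Ideal.span {a}) M =
      LocalizedModule.mkLinearMap (Submonoid.powers a) M := by
  ext m
  simp only [LinearMap.coe_comp, LinearEquiv.coe_coe, Function.comp_apply]
  rw [dtPrincipalEquiv_apply_iff, dtMap_toDT]

end Groth.Agent.H58
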