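import Groth.Agent.H58.LCDT
import Mathlib.RingTheory.TensorProduct.Basic
import Mathlib.LinearAlgebra.Isomorphisms

set_option autoImplicit false
universe u w
open CategoryTheory CategoryTheory.Limits Opposite

namespace Groth.Agent.H58

section DTDescAdd
variable {R : Type u} [CommRing R] (I : Ideal R) (M : Type u) [AddCommGroup M] [Module R M]
variable {T : Type w} [AddCommGroup T]
  (φ : ∀ n, (↥(I ^ n) →ₗ[R] M) →+ T)
  (hφ : ∀ {n m : ℕ} (h : n ≤ m) (f : ↥(I ^ n) →ₗ[R] M),
    φ m (f ∘ₗ Submodule.inclusion (Ideal.pow_le_pow_right h)) = φ n f)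

include hφ in
theorem dtDescAdd_wd {n n' : ℕ} (f : ↥(I ^ n) →ₗ[R] M) (f' : ↥(I ^ n') →ₗ[R] M)
    (h : dtι I M n f = dtι I M n' f') : φ n f = φ n' f' := by
  obtain ⟨m, h1, h2, heq⟩ := (dtι_eq_iff I M f f').1 h
  rw [← hφ h1 f, ← hφ h2 f', heq]

/-- Additive maps out of `D_I(M)` from compatible families on `Hom(I^n, M)`. -/
noncomputable def dtDescAdd : LocCoh.DT I M →+ T where
  toFun x := φ (dt_exists_rep I M x).choose (dt_exists_rep I M x).choose_spec.choose
  map_zero' := by
    have h0 : (0 : LocCoh.DT I M) = dtι I M 0 0 := by rw [map_zero]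
    rw [dtDescAdd_wd I M φ hφ _ _ ((dt_exists_rep I M 0).choose_spec.choose_spec.trans h0), map_zero]
  map_add' x y := by
    obtain ⟨n, f, hx⟩ := dt_exists_rep I M x
    obtain ⟨n', f', hy⟩ := dt_exists_rep I M y
    have hxy : x + y = dtι I M (max n n')
        (f ∘ₗ Submodule.inclusion (Ideal.pow_le_pow_right (le_max_left n n')) +
          f' ∘ₗ Submodule.inclusion (Ideal.pow_le_pow_right (le_max_right n n'))) := by
      rw [map_add, dtι_restrict I M (le_max_left n n'), dtι_restrict I M (le_max_right n n'), hx, hy]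
    rw [dtDescAdd_wd I M φ hφ _ _ ((dt_exists_rep I M (x + y)).choose_spec.choose_spec.trans hxy),
      dtDescAdd_wd I M φ hφ _ _ ((dt_exists_rep I M x).choose_spec.choose_spec.trans hx.symm),
      dtDescAdd_wd I M φ hφ _ _ ((dt_exists_rep I M y).choose_spec.choose_spec.trans hy.symm),
      map_add, hφ (le_max_left n n'), hφ (le_max_right n n')]

theorem dtDescAdd_dtι (n : ℕ) (f : ↥(I ^ n) →ₗ[R] M) :
    dtDescAdd I M φ hφ (dtι I M n f) = φ n f :=
  dtDescAdd_wd I M φ hφ _ _ (dt_exists_rep I M (dtι I M n f)).choose_spec.choose_spec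

end DTDescAdd

section BaseChange
variable {R : Type u} [CommRing R] {R' : Type u} [CommRing R'] [Algebra R R'] (I : Ideal R)
  (M' : Type u) [AddCommGroup M'] [Module R' M'] [Module R M'] [IsScalarTower R R' M']

theorem algebraMap_mem_map_pow {n : ℕ} {r : R} (hr : r ∈ I ^ n) :
    algebraMap R R' r ∈ (Ideal.map (algebraMap R R') I) ^ n := by
  rw [← Ideal.map_pow]
  exact Ideal.mem_map_of_mem _ hr

/-- `I^n → (IR')^n`. -/
def rho (n : ℕ) : ↥(I ^ n) →ₗ[R] ↥((Ideal.map (algebraMap R R') I) ^ n) where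
  toFun r := ⟨algebraMap R R' r, algebraMap_mem_map_pow I r.2⟩
  map_add' r s := by
    apply Subtype.ext
    simp
  map_smul' c r := by
    apply Subtype.ext
    simp [Algebra.smul_def]

@[simp] theorem rho_coe (n : ℕ) (r : ↥(I ^ n)) : ((rho (R' := R') I n r : ↥((Ideal.map (algebraMap R R') I) ^ n)) : R') =
    algebraMap R R' r := rfl

/-- restriction of an `R'`-linear map on `(IR')^n` to `I^n`. -/
def restr (n : ℕ) : (↥((Ideal.map (algebraMap R R') I) ^ n) →ₗ[R'] M') →+ (↥(I ^ n) →ₗ[R] M') where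
  toFun g := (g.restrictScalars R) ∘ₗ rho I n
  map_zero' := by ext; simp
  map_add' g g' := by ext; simp

@[simp] theorem restr_apply (n : ℕ) (g : ↥((Ideal.map (algebraMap R R') I) ^ n) →ₗ[R'] M')
    (r : ↥(I ^ n)) : restr I M' n g r = g (rho I n r) := rfl

theorem restr_compat {n m : ℕ} (h : n ≤ m)
    (g : ↥((Ideal.map (algebraMap R R') I) ^ n) →ₗ[R'] M') :
    restr I M' m (g ∘ₗ Submodule.inclusion (Ideal.pow_le_pow_right h)) =
      restr I M' n g ∘ₗ Submodule.inclusion (Ideal.pow_le_pow_right h) := by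
  ext r
  rfl

/-- the family defining the comparison map -/
noncomputable def epsFam (n : ℕ) :
    (↥((Ideal.map (algebraMap R R') I) ^ n) →ₗ[R'] M') →+ LocCoh.DT I M' :=
  (dtι I M' n).toAddMonoidHom.comp (restr I M' n)

theorem epsFam_apply (n : ℕ) (g : ↥((Ideal.map (algebraMap R R') I) ^ n) →ₗ[R'] M') :
    epsFam I M' n g = dtι I M' n (restr I M' n g) := rfl

theorem epsFam_compat {n m : ℕ} (h : n ≤ m)
    (g : ↥((Ideal.map (algebraMap R R') I) ^ n) →ₗ[R'] M') :
    epsFam I M' m (g ∘ₗ Submodule.inclusion (Ideal.pow_le_pow_right h)) = epsFam I M' n g := by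
  rw [epsFam_apply, epsFam_apply, restr_compat I M' h g, dtι_restrict I M' h]

/-- the comparison map `D_{IR'}(M') → D_I(M')`. -/
noncomputable def epsBC : LocCoh.DT (Ideal.map (algebraMap R R') I) M' →+ LocCoh.DT I M' :=
  dtDescAdd (Ideal.map (algebraMap R R') I) M' (epsFam I M') (epsFam_compat I M')

theorem epsBC_dtι (n : ℕ) (g : ↥((Ideal.map (algebraMap R R') I) ^ n) →ₗ[R'] M') :
    epsBC I M' (dtι (Ideal.map (algebraMap R R') I) M' n g) = dtι I M' n (restr I M' n g) :=
  dtDescAdd_dtι _ _ (epsFam I M') (epsFam_compat I M') n g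

theorem epsBC_smul (r : R) (x : LocCoh.DT (Ideal.map (algebraMap R R') I) M') :
    epsBC I M' (algebraMap R R' r • x) = r • epsBC I M' x := by
  obtain ⟨n, g, rfl⟩ := dt_exists_rep _ M' x
  rw [← map_smul, epsBC_dtι, epsBC_dtι, ← map_smul]
  congr 1
  ext s
  simp

theorem epsBC_toDT (m : M') :
    epsBC I M' (LocCoh.toDT (Ideal.map (algebraMap R R') I) M' m) = LocCoh.toDT I M' m := by
  rw [toDT_apply, epsBC_dtι, toDT_apply]
  congr 1
  ext s
  simp [smulMap_apply]


open TensorProduct

theorem forall_mem_map_pow {n : ℕ} {P : R' → Prop}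
    (hgen : ∀ r ∈ I ^ n, P (algebraMap R R' r)) (h0 : P 0)
    (hadd : ∀ a b, P a → P b → P (a + b)) (hmul : ∀ c a, P a → P (c * a)) :
    ∀ a ∈ (Ideal.map (algebraMap R R') I) ^ n, P a := by
  intro a ha
  rw [← Ideal.map_pow] at ha
  unfold Ideal.map at ha
  refine Submodule.span_induction (p := fun a _ => P a) ?_ h0 ?_ ?_ ha
  · rintro _ ⟨r, hr, rfl⟩
    exact hgen r hr
  · intro a b _ _ ha hb
    exact hadd a b ha hb
  · intro c a _ ha
    exact hmul c a ha

/-- `R' ⊗ I^n → (IR')^n`. -/
noncomputable def muBC (n : ℕ) :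
    R' ⊗[R] ↥(I ^ n) →ₗ[R'] ↥((Ideal.map (algebraMap R R') I) ^ n) :=
  LinearMap.liftBaseChange R' (rho I n)

theorem muBC_tmul (n : ℕ) (x : R') (r : ↥(I ^ n)) :
    ((muBC (R' := R') I n (x ⊗ₜ r) : ↥((Ideal.map (algebraMap R R') I) ^ n)) : R') =
      x * algebraMap R R' r := by
  rw [muBC, LinearMap.liftBaseChange_tmul]
  rfl

theorem muBC_surjective (n : ℕ) : Function.Surjective (muBC (R' := R') I n) := by
  rintro ⟨a, ha⟩
  have key : ∃ t, ((muBC (R' := R') I n t : ↥((Ideal.map (algebraMap R R') I) ^ n)) : R') = a := by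
    refine forall_mem_map_pow I (P := fun a => ∃ t,
      ((muBC (R' := R') I n t : ↥((Ideal.map (algebraMap R R') I) ^ n)) : R') = a) ?_ ?_ ?_ ?_ a ha
    · intro r hr
      exact ⟨1 ⊗ₜ ⟨r, hr⟩, by rw [muBC_tmul, one_mul]⟩
    · exact ⟨0, by simp⟩
    · rintro a b ⟨t, rfl⟩ ⟨t', rfl⟩
      exact ⟨t + t', by simp⟩
    · rintro c a ⟨t, rfl⟩
      exact ⟨c • t, by simp⟩
  obtain ⟨t, ht⟩ := key
  exact ⟨t, Subtype.ext ht⟩

theorem eq_zero_of_restr_eq_zero {n : ℕ}
    (g : ↥((Ideal.map (algebraMap R R') I) ^ n) →ₗ[R'] M')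
    (hg : ∀ r : ↥(I ^ n), g (rho I n r) = 0) : g = 0 := by
  have h : g ∘ₗ muBC I n = 0 := by
    apply TensorProduct.AlgebraTensorModule.ext
    intro x r
    have : muBC (R' := R') I n (x ⊗ₜ r) = x • rho I n r := by
      rw [muBC, LinearMap.liftBaseChange_tmul]
    rw [LinearMap.comp_apply, this, map_smul, hg r, smul_zero]
    rfl
  ext a
  obtain ⟨t, rfl⟩ := muBC_surjective I n a
  exact LinearMap.congr_fun h t

theorem epsBC_injective : Function.Injective (epsBC (R' := R') I M') := by
  rw [injective_iff_map_eq_zero]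
  intro x hx
  obtain ⟨n, g, rfl⟩ := dt_exists_rep _ M' x
  rw [epsBC_dtι I M', dtι_eq_zero_iff] at hx
  obtain ⟨m, hm, hr⟩ := hx
  rw [← dtι_restrict _ M' hm g]
  have : g ∘ₗ Submodule.inclusion (Ideal.pow_le_pow_right hm) = 0 := by
    apply eq_zero_of_restr_eq_zero I M'
    intro r
    exact hr r
  rw [this, map_zero]


theorem exists_factor {A B C : Type*} [AddCommGroup A] [Module R' A] [AddCommGroup B] [Module R' B]
    [AddCommGroup C] [Module R' C] (μ : A →ₗ[R'] B) (hμ : Function.Surjective μ)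
    (ft : A →ₗ[R'] C) (h : LinearMap.ker μ ≤ LinearMap.ker ft) :
    ∃ g : B →ₗ[R'] C, ∀ a, g (μ a) = ft a := by
  refine ⟨(LinearMap.ker μ).liftQ ft h ∘ₗ (μ.quotKerEquivOfSurjective hμ).symm.toLinearMap, ?_⟩
  intro a
  have : (μ.quotKerEquivOfSurjective hμ).symm (μ a) = Submodule.Quotient.mk a := by
    rw [LinearEquiv.symm_apply_eq, LinearMap.quotKerEquivOfSurjective_apply_mk]
  rw [LinearMap.comp_apply, LinearEquiv.coe_coe, this, Submodule.liftQ_apply]

variable [IsNoetherianRing R] [IsNoetherianRing R']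

theorem epsBC_surjective : Function.Surjective (epsBC (R' := R') I M') := by
  intro y
  obtain ⟨n, f, rfl⟩ := dt_exists_rep I M' y
  let N' : Submodule R' M' := Submodule.span R' (Set.range f)
  have hN'fg : N'.FG := by
    obtain ⟨S, hS⟩ := range_fg I f
    refine ⟨S, ?_⟩
    apply le_antisymm
    · apply Submodule.span_mono
      intro s hs
      have : s ∈ LinearMap.range f := hS ▸ Submodule.subset_span hs
      exact this
    · rw [Submodule.span_le]
      rintro _ ⟨r, rfl⟩
      have h1 : f r ∈ Submodule.span R (S : Set M') := hS ▸ (⟨r, rfl⟩ : f r ∈ LinearMap.range f)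
      exact Submodule.span_le_restrictScalars R R' (S : Set M') h1
  obtain ⟨k, hk⟩ := exists_pow_smul_inf_eq_bot (Ideal.map (algebraMap R R') I) N'
    (DRing.torsionSub (Ideal.map (algebraMap R R') I) M') hN'fg (fun t ht => ht)
  let fk : ↥(I ^ (n + k)) →ₗ[R] M' :=
    f ∘ₗ Submodule.inclusion (Ideal.pow_le_pow_right (Nat.le_add_right n k))
  let ft : R' ⊗[R] ↥(I ^ (n + k)) →ₗ[R'] M' := LinearMap.liftBaseChange R' fk
  -- Claim A
  have hA : ∀ t, ft t ∈ (Ideal.map (algebraMap R R') I) ^ k • N' := by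
    intro t
    induction t using TensorProduct.induction_on with
    | zero => rw [map_zero]; exact Submodule.zero_mem _
    | add a b ha hb => rw [map_add]; exact Submodule.add_mem _ ha hb
    | tmul x r =>
      rw [LinearMap.liftBaseChange_tmul]
      apply Submodule.smul_mem
      have h1 := inclusion_mem_pow_smul_top I n k r
      have h2 : fk r ∈ (I ^ k • (⊤ : Submodule R ↥(I ^ n))).map f := Submodule.mem_map_of_mem h1
      rw [Submodule.map_smul'', Submodule.map_top] at h2
      have h3 : I ^ k • LinearMap.range f ≤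
          ((Ideal.map (algebraMap R R') I) ^ k • N').restrictScalars R := by
        rw [Submodule.smul_le]
        intro a ha p hp
        rw [Submodule.restrictScalars_mem, ← algebraMap_smul R' a p]
        exact Submodule.smul_mem_smul (algebraMap_mem_map_pow I ha) (Submodule.subset_span hp)
      exact h3 h2
  -- Claim B
  have hB : ∀ t, ∀ s : ↥(I ^ n), algebraMap R R' (s : R) • ft t =
      ((muBC (R' := R') I (n + k) t : ↥((Ideal.map (algebraMap R R') I) ^ (n + k))) : R') • f s := by
    intro t s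
    induction t using TensorProduct.induction_on with
    | zero => simp
    | add a b ha hb => rw [map_add, smul_add, ha, hb, map_add, Submodule.coe_add, add_smul]
    | tmul x r =>
      rw [LinearMap.liftBaseChange_tmul, muBC_tmul, smul_comm, mul_smul]
      congr 1
      rw [algebraMap_smul, algebraMap_smul]
      change (s : R) • f (Submodule.inclusion (Ideal.pow_le_pow_right (Nat.le_add_right n k)) r) =
        (r : R) • f s
      have e1 : (s : R) • f (Submodule.inclusion (Ideal.pow_le_pow_right (Nat.le_add_right n k)) r) =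
          f ((s : R) • Submodule.inclusion (Ideal.pow_le_pow_right (Nat.le_add_right n k)) r) :=
        (map_smul f _ _).symm
      have e2 : (r : R) • f s = f ((r : R) • s) := (map_smul f _ _).symm
      rw [e1, e2]
      congr 1
      apply Subtype.ext
      simp [mul_comm]
  have hker : LinearMap.ker (muBC (R' := R') I (n + k)) ≤ LinearMap.ker ft := by
    intro t ht
    rw [LinearMap.mem_ker] at ht ⊢
    have hz : ft t ∈ DRing.torsionSub (Ideal.map (algebraMap R R') I) M' := by
      refine ⟨n, ?_⟩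
      refine forall_mem_map_pow I (P := fun a => a • ft t = 0) ?_ ?_ ?_ ?_
      · intro r hr
        have := hB t ⟨r, hr⟩
        rw [ht] at this
        simpa using this
      · exact zero_smul _ _
      · intro a b ha hb
        rw [add_smul, ha, hb, add_zero]
      · intro c a ha
        rw [mul_smul, ha, smul_zero]
    have hmem : ft t ∈ ((Ideal.map (algebraMap R R') I) ^ k • N') ⊓
        DRing.torsionSub (Ideal.map (algebraMap R R') I) M' := ⟨hA t, hz⟩
    rw [hk] at hmem
    exact hmem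
  obtain ⟨g, hg⟩ := exists_factor (muBC (R' := R') I (n + k)) (muBC_surjective I (n + k)) ft hker
  refine ⟨dtι (Ideal.map (algebraMap R R') I) M' (n + k) g, ?_⟩
  rw [epsBC_dtι I M', ← dtι_restrict I M' (Nat.le_add_right n k) f]
  congr 1
  ext r
  have h1 : rho (R' := R') I (n + k) r = muBC I (n + k) (1 ⊗ₜ r) := by
    apply Subtype.ext
    rw [muBC_tmul, one_mul]
    rfl
  rw [restr_apply, h1, hg, LinearMap.liftBaseChange_tmul, one_smul]

/-- `D_{IR'}(M') ≃+ D_I(M')`. -/
noncomputable def epsBCEquiv : LocCoh.DT (Ideal.map (algebraMap R R') I) M' ≃+ LocCoh.DT I M' :=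
  AddEquiv.ofBijective (epsBC (R' := R') I M') ⟨epsBC_injective I M', epsBC_surjective I M'⟩

end BaseChange

end Groth.Agent.H58
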