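import Mathlib
set_option autoImplicit false
universe v u
open CategoryTheory CategoryTheory.Limits Opposite

namespace Groth.Agent.H58.ExtCompare

variable {C : Type u} [Category.{v} C] [Abelian C] [HasExt.{v} C]
variable {X Y : C} (J : InjectiveResolution Y)

open CochainComplex HomComplex in
theorem inj_extMk_zero_eq_zero_iff (f : X ⟶ J.cocomplex.X 0) (hf : f ≫ J.cocomplex.d 0 1 = 0) :
    J.extMk f 1 rfl hf = 0 ↔ f = 0 := by
  constructor
  · intro h
    rw [← J.extEquivCohomologyClass.apply_eq_iff_eq,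
      InjectiveResolution.extEquivCohomologyClass_extMk,
      InjectiveResolution.extEquivCohomologyClass_zero, CohomologyClass.mk_eq_zero_iff] at h
    rw [Cocycle.fromSingleMk_mem_coboundaries_iff _ _ _ _ _ (-1) (by simp)] at h
    obtain ⟨g, hg⟩ := h
    have hz : IsZero (J.cochainComplex.X (-1)) := J.cochainComplex.isZero_of_isStrictlyGE 0 (-1)
    have hg0 : g = 0 := hz.eq_of_tgt _ _
    rw [hg0, zero_comp] at hg
    have := congrArg (fun φ => φ ≫ (J.cochainComplexXIso 0 0 rfl).hom) hg
    simpa using this.symm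
  · rintro rfl
    exact J.extMk_zero 1 rfl

/-- uniform version of `InjectiveResolution.extMk_eq_zero_iff`, also valid in degree `0`. -/
theorem inj_extMk_eq_zero_iff' (n : ℕ) (f : X ⟶ J.cocomplex.X n)
    (hf : f ≫ J.cocomplex.d n (n + 1) = 0) :
    J.extMk f (n + 1) rfl hf = 0 ↔
      ∃ g : X ⟶ J.cocomplex.X ((ComplexShape.up ℕ).prev n),
        g ≫ J.cocomplex.d ((ComplexShape.up ℕ).prev n) n = f := by
  cases n with
  | zero =>
    rw [inj_extMk_zero_eq_zero_iff]
    have h0 : J.cocomplex.d ((ComplexShape.up ℕ).prev 0) 0 = 0 := by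
      apply J.cocomplex.shape
      simp
    constructor
    · rintro rfl
      exact ⟨0, by simp⟩
    · rintro ⟨y, rfl⟩
      rw [h0, comp_zero]
  | succ p =>
    rw [J.extMk_eq_zero_iff f (p + 1 + 1) rfl hf p rfl]
    have hp : (ComplexShape.up ℕ).prev (p + 1) = p := by simp
    rw [hp]

end Groth.Agent.H58.ExtCompare
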