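import Groth.Prelude.Def_W4bk5brsh16IT
import Mathlib.Algebra.Homology.ShortComplex.ExactFunctor
import Mathlib.Algebra.Homology.ShortComplex.ModuleCat
import Mathlib.CategoryTheory.Limits.ConcreteCategory.Basic
import Mathlib.Algebra.Category.ModuleCat.FilteredColimits
import Mathlib.CategoryTheory.Limits.Types.Filtered

set_option autoImplicit false
universe u
open CategoryTheory CategoryTheory.Limits Opposite

namespace Groth.Agent.H58

variable {R : Type u} [CommRing R] (I : Ideal R)

/-- View an element of `Γ_I(M)` (as an object of `ModuleCat`) as an element of the submodule. -/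
def gammaIElem {M : ModuleCat.{u} R} (x : (DRing.gammaI I).obj M) : ↥(DRing.torsionSub I M) := x

theorem gammaI_map_apply {M N : ModuleCat.{u} R} (f : M ⟶ N) (x : (DRing.gammaI I).obj M) :
    (gammaIElem I (((DRing.gammaI I).map f).hom x) : N) = f.hom (gammaIElem I x : M) := rfl

theorem gammaIElem_injective {M : ModuleCat.{u} R} (x y : (DRing.gammaI I).obj M)
    (h : (gammaIElem I x : M) = (gammaIElem I y : M)) : x = y := Subtype.ext h

theorem gammaI_preservesFiniteLimits : PreservesFiniteLimits (DRing.gammaI I) := by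
  rw [Functor.preservesFiniteLimits_iff_forall_exact_map_and_mono]
  intro S hS
  have hinj : Function.Injective S.f.hom := hS.moduleCat_injective_f
  have hex := (ShortComplex.moduleCat_exact_iff S).mp hS.exact
  constructor
  · rw [ShortComplex.moduleCat_exact_iff]
    intro x hx
    have hx' : S.g.hom (gammaIElem I x : S.X₂) = 0 := by
      have := congrArg (fun t => (gammaIElem I t : S.X₃)) hx
      exact this
    obtain ⟨a, ha⟩ := hex (gammaIElem I x : S.X₂) hx'
    have hmem : a ∈ DRing.torsionSub I S.X₁ := by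
      obtain ⟨n, hn⟩ := (gammaIElem I x).2
      refine ⟨n, fun r hr => ?_⟩
      apply hinj
      rw [map_smul, map_zero]
      have : S.f.hom a = (gammaIElem I x : S.X₂) := ha
      rw [this]
      exact hn r hr
    refine ⟨(⟨a, hmem⟩ : ↥(DRing.torsionSub I S.X₁)), ?_⟩
    apply gammaIElem_injective
    exact ha
  · rw [ModuleCat.mono_iff_injective]
    intro x y hxy
    apply gammaIElem_injective
    apply hinj
    exact congrArg (fun t => (gammaIElem I t : S.X₂)) hxy

section filtered
variable {Λ : Type u} [SmallCategory Λ] [IsFiltered Λ] (K : Λ ⥤ ModuleCat.{u} R) (c : Cocone K)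
  (hc : IsColimit c)

include hc in
theorem exists_map_eq_zero_of_ι_eq_zero {i : Λ} (z : K.obj i) (hz : c.ι.app i z = 0) :
    ∃ (j : Λ) (f : i ⟶ j), K.map f z = 0 := by
  have h0 : c.ι.app i z = c.ι.app i 0 := by rw [hz, map_zero]
  obtain ⟨k, f, g, hfg⟩ := Concrete.isColimit_exists_of_rep_eq K hc z 0 h0
  exact ⟨k, f, by rw [hfg, map_zero]⟩

include hc in
theorem exists_map_smul_eq_zero {i : Λ} (x : K.obj i) (S : Finset R)
    (hS : ∀ a ∈ S, a • c.ι.app i x = 0) :
    ∃ (j : Λ) (f : i ⟶ j), ∀ a ∈ S, a • K.map f x = 0 := by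
  classical
  induction S using Finset.induction_on with
  | empty => exact ⟨i, 𝟙 i, fun a ha => by simp at ha⟩
  | insert a S _ ih =>
    obtain ⟨j, f, hf⟩ := ih (fun b hb => hS b (Finset.mem_insert_of_mem hb))
    have h1 : c.ι.app j (a • K.map f x) = 0 := by
      rw [map_smul]
      have : c.ι.app j (K.map f x) = c.ι.app i x := by
        rw [← ConcreteCategory.comp_apply, c.w f]
      rw [this]
      exact hS a (Finset.mem_insert_self a S)
    obtain ⟨j', g, hg⟩ := exists_map_eq_zero_of_ι_eq_zero K c hc _ h1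
    refine ⟨j', f ≫ g, fun b hb => ?_⟩
    rw [K.map_comp, ConcreteCategory.comp_apply, ← map_smul]
    rcases Finset.mem_insert.mp hb with rfl | hb
    · exact hg
    · rw [hf b hb, map_zero]

variable [IsNoetherianRing R]

include hc in
theorem gammaI_isColimit_mapCocone : Nonempty (IsColimit ((DRing.gammaI I).mapCocone c)) := by
  refine ⟨?_⟩
  apply isColimitOfReflects (forget (ModuleCat.{u} R))
  apply Types.FilteredColimit.isColimitOf
  · intro y
    let y' : ↥(DRing.torsionSub I c.pt) := y
    obtain ⟨n, hn⟩ := y'.2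
    obtain ⟨i, x, hx⟩ := Concrete.isColimit_exists_rep K hc (y' : c.pt)
    obtain ⟨S, hS⟩ : (I ^ n).FG := IsNoetherian.noetherian (I ^ n)
    obtain ⟨j, f, hf⟩ := exists_map_smul_eq_zero K c hc x S (fun a ha => by
      rw [hx]; exact hn a (hS ▸ Ideal.subset_span ha))
    have hmem : K.map f x ∈ DRing.torsionSub I (K.obj j) := by
      refine ⟨n, fun r hr => ?_⟩
      rw [← hS] at hr
      refine Submodule.span_induction (p := fun r _ => r • K.map f x = 0) ?_ ?_ ?_ ?_ hr
      · intro a ha; exact hf a ha
      · exact zero_smul _ _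
      · intro a b _ _ ha hb; rw [add_smul, ha, hb, add_zero]
      · intro a b _ hb; rw [smul_eq_mul, mul_smul, hb, smul_zero]
    refine ⟨j, (⟨K.map f x, hmem⟩ : ↥(DRing.torsionSub I (K.obj j))), ?_⟩
    apply gammaIElem_injective
    change (y' : c.pt) = c.ι.app j (K.map f x)
    rw [← hx, ← ConcreteCategory.comp_apply, c.w f]
  · intro i j xi xj h
    let xi' : ↥(DRing.torsionSub I (K.obj i)) := xi
    let xj' : ↥(DRing.torsionSub I (K.obj j)) := xj
    have h' : c.ι.app i (xi' : K.obj i) = c.ι.app j (xj' : K.obj j) :=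
      congrArg (fun t : ↥(DRing.torsionSub I c.pt) => (t : c.pt)) h
    obtain ⟨k, f, g, hfg⟩ := Concrete.isColimit_exists_of_rep_eq K hc _ _ h'
    refine ⟨k, f, g, ?_⟩
    apply gammaIElem_injective
    exact hfg

theorem gammaI_preservesColimitsOfShape_filtered :
    PreservesColimitsOfShape Λ (DRing.gammaI I) :=
  ⟨fun {K} => ⟨fun {c} hc => gammaI_isColimit_mapCocone I K c hc⟩⟩

end filtered

end Groth.Agent.H58
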