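import Groth.Agent.H58.LCDTExact
import Groth.Agent.H58.LCDepth

set_option autoImplicit false
universe u
open CategoryTheory CategoryTheory.Limits Opposite

namespace Groth.Agent.H58.LC
open Groth.Agent.H58 Groth.Agent.H58.ExtCompare

variable {R : Type u} [CommRing R] (I : Ideal R)

theorem map_mem_smul_top {A B : Type*} [AddCommGroup A] [Module R A] [AddCommGroup B] [Module R B]
    (φ : A →ₗ[R] B) {x : A} (hx : x ∈ I • (⊤ : Submodule R A)) :
    φ x ∈ I • (⊤ : Submodule R B) := by
  have h1 : φ x ∈ (I • (⊤ : Submodule R A)).map φ := Submodule.mem_map_of_mem hx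
  rw [Submodule.map_smul''] at h1
  exact Submodule.smul_mono le_rfl le_top h1

/-- A power-torsion module whose identity lies in `I • End` is zero. -/
theorem subsingleton_of_id_mem_smul_top (H : Type u) [AddCommGroup H] [Module R H]
    (hT : ∀ y : H, y ∈ DRing.torsionSub I H)
    (hid : (LinearMap.id : H →ₗ[R] H) ∈ I • (⊤ : Submodule R (H →ₗ[R] H))) :
    Subsingleton H := by
  have step : ∀ (n : ℕ) (y : H), (∀ r ∈ I ^ (n + 1), r • y = 0) → ∀ b ∈ I ^ n, b • y = 0 := by
    intro n y hy b hb
    let W : Submodule R (H →ₗ[R] H) :=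
      { carrier := {σ | b • σ y = 0}
        add_mem' := by
          intro σ τ hσ hτ
          change b • (σ + τ) y = 0
          rw [LinearMap.add_apply, smul_add, hσ, hτ, add_zero]
        zero_mem' := by
          change b • (0 : H →ₗ[R] H) y = 0
          simp
        smul_mem' := by
          intro c σ hσ
          change b • (c • σ) y = 0
          rw [LinearMap.smul_apply, smul_comm, hσ, smul_zero] }
    have hW : I • (⊤ : Submodule R (H →ₗ[R] H)) ≤ W := by
      rw [Submodule.smul_le]
      intro a ha σ _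
      change b • (a • σ) y = 0
      rw [LinearMap.smul_apply, smul_smul, ← map_smul, hy _ (by
        rw [pow_succ]; exact Ideal.mul_mem_mul hb ha), map_zero]
    exact hW hid
  have key : ∀ (n : ℕ) (y : H), (∀ r ∈ I ^ n, r • y = 0) → y = 0 := by
    intro n
    induction n with
    | zero =>
      intro y hy
      have := hy 1 (by simp)
      rwa [one_smul] at this
    | succ n ih =>
      intro y hy
      exact ih y (step n y hy)
  refine ⟨fun a b => ?_⟩
  obtain ⟨n, hn⟩ := hT a
  obtain ⟨n', hn'⟩ := hT b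
  rw [key n a hn, key n' b hn']

variable [IsNoetherianRing R]

/-- The `R`-linear map `End(N) → End(H^i_I(N))`. -/
noncomputable def HmapEnd (i : ℕ) (N : ModuleCat.{u} R) :
    (N →ₗ[R] N) →ₗ[R] ((localCohomology I i).obj N →ₗ[R] (localCohomology I i).obj N) where
  toFun σ := ((localCohomology I i).map (ModuleCat.ofHom σ)).hom
  map_add' σ τ := by
    ext x
    exact map_add' I i (ModuleCat.ofHom σ) (ModuleCat.ofHom τ) x
  map_smul' r σ := by
    ext x
    exact map_smul' I i r (ModuleCat.ofHom σ) x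

theorem subsingleton_H_of_id_mem (i : ℕ) (N : ModuleCat.{u} R)
    (hid : (LinearMap.id : N →ₗ[R] N) ∈ I • (⊤ : Submodule R (N →ₗ[R] N))) :
    Subsingleton ((localCohomology I i).obj N) := by
  apply subsingleton_of_id_mem_smul_top I _ (isTors_H I i N)
  have h := map_mem_smul_top I (HmapEnd I i N) hid
  have h2 : HmapEnd I i N LinearMap.id = LinearMap.id := by
    change ((localCohomology I i).map (𝟙 N)).hom = LinearMap.id
    rw [CategoryTheory.Functor.map_id]
    rfl
  rwa [h2] at h


omit [IsNoetherianRing R] in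
/-- From `I • D_I(R) = D_I(R)`: the inclusion `I^m → R` lies in `I • Hom(I^m, R)` for some `m`. -/
theorem exists_incl_mem_smul_top (h1 : I • (⊤ : Submodule R (LocCoh.DT I R)) = ⊤) :
    ∃ (m : ℕ) (g : ↥(I ^ m) →ₗ[R] R),
      g ∈ I • (⊤ : Submodule R (↥(I ^ m) →ₗ[R] R)) ∧ ∀ r : ↥(I ^ m), g r = (r : R) := by
  have key : ∀ x ∈ I • (⊤ : Submodule R (LocCoh.DT I R)),
      ∃ (n : ℕ) (g : ↥(I ^ n) →ₗ[R] R),
        g ∈ I • (⊤ : Submodule R (↥(I ^ n) →ₗ[R] R)) ∧ x = dtι I R n g := by
    intro x hx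
    refine Submodule.smul_induction_on hx ?_ ?_
    · intro a ha y _
      obtain ⟨n, f, rfl⟩ := dt_exists_rep I R y
      exact ⟨n, a • f, Submodule.smul_mem_smul ha Submodule.mem_top, by rw [map_smul]⟩
    · rintro x y ⟨n, g, hg, rfl⟩ ⟨n', g', hg', rfl⟩
      refine ⟨max n n', g ∘ₗ Submodule.inclusion (Ideal.pow_le_pow_right (le_max_left n n')) +
          g' ∘ₗ Submodule.inclusion (Ideal.pow_le_pow_right (le_max_right n n')), ?_, ?_⟩
      · apply Submodule.add_mem
        · exact map_mem_smul_top I (LinearMap.lcomp R R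
            (Submodule.inclusion (Ideal.pow_le_pow_right (le_max_left n n')))) hg
        · exact map_mem_smul_top I (LinearMap.lcomp R R
            (Submodule.inclusion (Ideal.pow_le_pow_right (le_max_right n n')))) hg'
      · rw [map_add, dtι_restrict I R (le_max_left n n'), dtι_restrict I R (le_max_right n n')]
  have hone : LocCoh.toDT I R 1 ∈ I • (⊤ : Submodule R (LocCoh.DT I R)) := by
    rw [h1]; exact Submodule.mem_top
  obtain ⟨n, g, hg, heq⟩ := key _ hone
  rw [toDT_apply, dtι_eq_iff] at heq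
  obtain ⟨m, h0, hn, hm⟩ := heq
  refine ⟨m, g ∘ₗ Submodule.inclusion (Ideal.pow_le_pow_right hn), ?_, ?_⟩
  · exact map_mem_smul_top I (LinearMap.lcomp R R
      (Submodule.inclusion (Ideal.pow_le_pow_right hn))) hg
  · intro r
    rw [← hm]
    simp [smulMap_apply]

/-- If `η_N` is bijective and `I D_I(R) = D_I(R)` then `id_N ∈ I • End(N)`. -/
theorem id_mem_of_toDT_bijective (h1 : I • (⊤ : Submodule R (LocCoh.DT I R)) = ⊤)
    (N : Type u) [AddCommGroup N] [Module R N] (hN : Function.Bijective (LocCoh.toDT I N)) :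
    (LinearMap.id : N →ₗ[R] N) ∈ I • (⊤ : Submodule R (N →ₗ[R] N)) := by
  obtain ⟨m, g, hg, hgr⟩ := exists_incl_mem_smul_top I h1
  let e : N ≃ₗ[R] LocCoh.DT I N := LinearEquiv.ofBijective (LocCoh.toDT I N) hN
  let Φ : (↥(I ^ m) →ₗ[R] R) →ₗ[R] (N →ₗ[R] N) :=
    (LinearMap.llcomp R N (↥(I ^ m) →ₗ[R] N) N (e.symm.toLinearMap ∘ₗ dtι I N m)) ∘ₗ
      LinearMap.smulRightₗ
  have h := map_mem_smul_top I Φ hg
  have h2 : Φ g = LinearMap.id := by
    ext x
    change e.symm (dtι I N m (LinearMap.smulRight g x)) = x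
    rw [LinearEquiv.symm_apply_eq]
    change _ = LocCoh.toDT I N x
    rw [toDT_eq_dtι I N m x]
    congr 1
    ext r
    simp [hgr r]
  rwa [h2] at h

theorem subsingleton_H_DT (h1 : I • (⊤ : Submodule R (LocCoh.DT I R)) = ⊤)
    (M : Type u) [AddCommGroup M] [Module R M] (i : ℕ) :
    Subsingleton ((localCohomology I i).obj (ModuleCat.of R (LocCoh.DT I M))) :=
  subsingleton_H_of_id_mem I i _
    (id_mem_of_toDT_bijective I h1 (LocCoh.DT I M) (toDT_DT_bijective I M))

theorem cdLE_of_smul_top (h1 : I • (⊤ : Submodule R (LocCoh.DT I R)) = ⊤) :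
    LocCoh.CdLE R I 1 := by
  intro M _ _ i hi
  obtain ⟨k, rfl⟩ : ∃ k, i = k + 1 + 1 := ⟨i - 2, by omega⟩
  have hb := map_toDT_bijective I M k
  have hs := subsingleton_H_DT I h1 M (k + 1 + 1)
  exact hb.1.subsingleton


theorem smul_top_of_exact
    (hR : PreservesFiniteColimits (LocCoh.idealTransform I)) :
    I • (⊤ : Submodule R (LocCoh.DT I R)) = ⊤ := by
  have hsurj := (idealTransform_preservesFiniteColimits_iff I).mp hR
  have hL' := (Functor.preservesFiniteLimits_iff_forall_exact_map_and_mono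
    (LocCoh.idealTransform I)).mp (idealTransform_preservesFiniteLimits I)
  obtain ⟨k, φ, hφ⟩ := Module.Finite.exists_fin' R ↥I
  -- the two short exact sequences
  let S₁ : ShortComplex (ModuleCat.{u} R) :=
    ShortComplex.mk (ModuleCat.ofHom (LinearMap.ker φ).subtype) (ModuleCat.ofHom φ) (by
      ext x
      exact congrArg Subtype.val (LinearMap.mem_ker.mp x.2))
  have hS₁ : S₁.ShortExact := shortExact_of (LinearMap.ker φ).subtype φ
    (Submodule.subtype_injective _) hφ (LinearMap.exact_subtype_ker_map φ)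
  let S₂ : ShortComplex (ModuleCat.{u} R) :=
    ShortComplex.mk (ModuleCat.ofHom I.subtype) (ModuleCat.ofHom (Submodule.mkQ I)) (by
      ext x
      exact (LinearMap.exact_subtype_mkQ I).apply_apply_eq_zero x)
  have hS₂ : S₂.ShortExact := shortExact_of I.subtype (Submodule.mkQ I)
    (Submodule.subtype_injective _) (Submodule.mkQ_surjective _) (LinearMap.exact_subtype_mkQ I)
  have hsub : Subsingleton (LocCoh.DT I (R ⧸ I)) := by
    apply dt_subsingleton_of_isPowerTorsion
    intro q
    refine ⟨1, fun a ha => ?_⟩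
    obtain ⟨r, rfl⟩ := Submodule.Quotient.mk_surjective _ q
    rw [pow_one] at ha
    rw [← Submodule.Quotient.mk_smul, Submodule.Quotient.mk_eq_zero, smul_eq_mul]
    exact I.mul_mem_right _ ha
  rw [eq_top_iff]
  intro y _
  have hex := (ShortComplex.moduleCat_exact_iff _).mp (hL' S₂ hS₂).1
  obtain ⟨x, hx⟩ := hex y (Subsingleton.elim (α := LocCoh.DT I (R ⧸ I)) _ _)
  obtain ⟨w, hw⟩ := hsurj S₁ hS₁ x
  obtain ⟨n, f, rfl⟩ := dt_exists_rep I (Fin k → R) w
  have hy : y = dtι I R n (I.subtype ∘ₗ φ ∘ₗ f) := by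
    have e1 : ((LocCoh.idealTransform I).map (ModuleCat.ofHom φ)).hom (dtι I (Fin k → R) n f) = x := hw
    have e2 : ((LocCoh.idealTransform I).map (ModuleCat.ofHom I.subtype)).hom x = y := hx
    rw [← e2, ← e1, idealTransform_map_dtι, idealTransform_map_dtι]
  have hdecomp : I.subtype ∘ₗ φ ∘ₗ f =
      ∑ i : Fin k, ((φ fun j => if i = j then 1 else 0 : ↥I) : R) • (LinearMap.proj i ∘ₗ f) := by
    ext r
    rw [LinearMap.sum_apply]
    simp only [LinearMap.coe_comp, Function.comp_apply, Submodule.coe_subtype,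
      LinearMap.smul_apply, LinearMap.proj_apply, smul_eq_mul]
    rw [LinearMap.pi_apply_eq_sum_univ φ (f r)]
    simp only [Submodule.coe_sum, Submodule.coe_smul, smul_eq_mul]
    exact Finset.sum_congr rfl (fun i _ => mul_comm _ _)
  rw [hy, hdecomp, map_sum]
  refine Submodule.sum_mem _ (fun i _ => ?_)
  rw [map_smul]
  exact Submodule.smul_mem_smul (φ _).2 Submodule.mem_top

theorem idealTransform_exact_iff_smul_top :
    (PreservesFiniteLimits (LocCoh.idealTransform I) ∧
      PreservesFiniteColimits (LocCoh.idealTransform I)) ↔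
      I • (⊤ : Submodule R (LocCoh.DT I R)) = ⊤ := by
  constructor
  · rintro ⟨_, h2⟩
    exact smul_top_of_exact I h2
  · intro h
    exact idealTransform_exact_of_cdLE I (cdLE_of_smul_top I h)

end Groth.Agent.H58.LC
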