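import Mathlib

/-!
# Injective resolutions from a chosen family of injective embeddings
-/
set_option autoImplicit false
set_option linter.unusedSectionVars false
universe v u
open CategoryTheory CategoryTheory.Limits

namespace Groth.Agent.H58.InjResOf

variable {C : Type u} [Category.{v} C] [Abelian C]
  (G : C → C) (j : ∀ Y : C, Y ⟶ G Y) [∀ Y, Mono (j Y)] [∀ Y, Injective (G Y)]

/-- the differential `Y → G (coker f)` -/
noncomputable def dd {X Y : C} (f : X ⟶ Y) : Y ⟶ G (cokernel f) := cokernel.π f ≫ j (cokernel f)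

@[reassoc (attr := simp)]
theorem f_dd {X Y : C} (f : X ⟶ Y) : f ≫ dd G j f = 0 := by
  simp [dd]

set_option backward.isDefEq.respectTransparency false in
theorem exact_f_dd {X Y : C} (f : X ⟶ Y) :
    (ShortComplex.mk f (dd G j f) (by simp)).Exact := by
  let α : ShortComplex.mk f (cokernel.π f) (by simp) ⟶ ShortComplex.mk f (dd G j f) (by simp) :=
    { τ₁ := 𝟙 _
      τ₂ := 𝟙 _
      τ₃ := j _
      comm₂₃ := by simp [dd] }
  rw [← ShortComplex.exact_iff_of_epi_of_isIso_of_mono α]
  apply ShortComplex.exact_of_g_is_cokernel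
  apply cokernelIsCokernel

set_option backward.isDefEq.respectTransparency.types false in
/-- the cocomplex -/
noncomputable def ofCocomplex (Z : C) : CochainComplex C ℕ :=
  CochainComplex.mk' (G Z) (G (cokernel (j Z))) (dd G j (j Z))
    fun f => ⟨_, dd G j f, by simp⟩

set_option backward.isDefEq.respectTransparency.types false in
lemma ofCocomplex_d_0_1 (Z : C) : (ofCocomplex G j Z).d 0 1 = dd G j (j Z) := by
  simp [ofCocomplex]

set_option backward.isDefEq.respectTransparency.types false in
lemma ofCocomplex_exactAt_succ (Z : C) (n : ℕ) : (ofCocomplex G j Z).ExactAt (n + 1) := by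
  rw [HomologicalComplex.exactAt_iff' _ n (n + 1) (n + 1 + 1) (by simp) (by simp)]
  simp only [HomologicalComplex.sc', HomologicalComplex.shortComplexFunctor', ofCocomplex,
    CochainComplex.mk', CochainComplex.mk, CochainComplex.of_d]
  match n with
  | 0 => apply exact_f_dd G j ((CochainComplex.mkAux _ _ _
      (dd G j (j Z)) (dd G j (dd G j (j Z))) _ _ 0).f)
  | n + 1 => apply exact_f_dd G j ((CochainComplex.mkAux _ _ _
      (dd G j (j Z)) (dd G j (dd G j (j Z))) _ _ (n + 1)).f)

/-- every term is of the form `G Y` -/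
theorem ofCocomplex_X (Z : C) (n : ℕ) : ∃ Y : C, (ofCocomplex G j Z).X n = G Y := by
  obtain (_ | _ | _ | n) := n <;> exact ⟨_, rfl⟩

instance (Z : C) (n : ℕ) : Injective ((ofCocomplex G j Z).X n) := by
  obtain ⟨Y, hY⟩ := ofCocomplex_X G j Z n
  rw [hY]; infer_instance

set_option backward.isDefEq.respectTransparency false in
/-- the injective resolution built from the embeddings `j`. -/
noncomputable def of (Z : C) : InjectiveResolution Z where
  cocomplex := ofCocomplex G j Z
  ι := (CochainComplex.fromSingle₀Equiv _ _).symm ⟨j Z,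
    by rw [ofCocomplex_d_0_1, dd, cokernel.condition_assoc, zero_comp]⟩
  quasiIso := ⟨fun n => by
    cases n
    · rw [CochainComplex.quasiIsoAt₀_iff, ShortComplex.quasiIso_iff_of_zeros]
      · refine (ShortComplex.exact_and_mono_f_iff_of_iso ?_).2
          ⟨exact_f_dd G j (j Z), by dsimp; infer_instance⟩
        exact ShortComplex.isoMk (Iso.refl _) (Iso.refl _) (Iso.refl _) (by simp)
          (by simp [ofCocomplex])
      all_goals rfl
    · rw [quasiIsoAt_iff_exactAt]
      · apply ofCocomplex_exactAt_succ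
      · apply CochainComplex.exactAt_succ_single_obj⟩

set_option backward.isDefEq.respectTransparency.types false in
/-- a property of objects stable under `G` and cokernels holds for all terms. -/
theorem ofCocomplex_X_prop (P : C → Prop) (hG : ∀ Y, P Y → P (G Y))
    (hcok : ∀ {X Y : C} (f : X ⟶ Y), P Y → P (cokernel f)) (Z : C) (hZ : P Z) (n : ℕ) :
    P ((ofCocomplex G j Z).X n) := by
  have key : ∀ n, P ((CochainComplex.mkAux (G Z) (G (cokernel (j Z)))
      (G (cokernel (dd G j (j Z)))) (dd G j (j Z)) (dd G j (dd G j (j Z))) (by simp)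
      (fun S => ⟨_, dd G j S.g, by simp⟩) n).X₁) ∧
      P ((CochainComplex.mkAux (G Z) (G (cokernel (j Z)))
      (G (cokernel (dd G j (j Z)))) (dd G j (j Z)) (dd G j (dd G j (j Z))) (by simp)
      (fun S => ⟨_, dd G j S.g, by simp⟩) n).X₂) ∧
      P ((CochainComplex.mkAux (G Z) (G (cokernel (j Z)))
      (G (cokernel (dd G j (j Z)))) (dd G j (j Z)) (dd G j (dd G j (j Z))) (by simp)
      (fun S => ⟨_, dd G j S.g, by simp⟩) n).X₃) := by
    intro n
    induction n with
    | zero =>
      exact ⟨hG _ hZ, hG _ (hcok _ (hG _ hZ)), hG _ (hcok _ (hG _ (hcok _ (hG _ hZ))))⟩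
    | succ n ih =>
      exact ⟨ih.2.1, ih.2.2, hG _ (hcok _ ih.2.2)⟩
  exact (key n).1

theorem of_X_prop (P : C → Prop) (hG : ∀ Y, P Y → P (G Y))
    (hcok : ∀ {X Y : C} (f : X ⟶ Y), P Y → P (cokernel f)) (Z : C) (hZ : P Z) (n : ℕ) :
    P (((of G j Z).cocomplex).X n) :=
  ofCocomplex_X_prop G j P hG hcok Z hZ n

theorem of_X (Z : C) (n : ℕ) : ∃ Y : C, ((of G j Z).cocomplex).X n = G Y :=
  ofCocomplex_X G j Z n

end Groth.Agent.H58.InjResOf
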