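import Groth.Agent.H58.HeightAdd
import Groth.Agent.H58.X72.DepthLocIneq
import Groth.Prelude.Def_W4bk5brsh7111920
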