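import Groth.Agent.H58.LCMV4
import Groth.Agent.H58.LCDTExact2
import Groth.Agent.H58.DT4

set_option autoImplicit false
set_option linter.unusedSectionVars false
universe u
open CategoryTheory CategoryTheory.Limits Opposite

namespace Groth.Agent.H58.LC
open Groth.Agent.H58 Groth.Agent.H58.ExtCompare

variable {R : Type u} [CommRing R]

/-- `H^i_0(M) = 0` for `i > 0`. -/
theorem subsingleton_H_bot (M : ModuleCat.{u} R) (i : ℕ) :
    Subsingleton ((localCohomology (⊥ : Ideal R) (i + 1)).obj M) := by
  have key : ∀ x : (localCohomology (⊥ : Ideal R) (i + 1)).obj M, x = 0 := by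
    intro x
    obtain ⟨n, e, rfl⟩ := exists_rep (⊥ : Ideal R) (i + 1) M x
    rw [← ι_restrict (⊥ : Ideal R) (i + 1) M (Nat.le_succ n) e]
    have hbot : (⊥ : Ideal R) ^ (n + 1) = ⊥ := by
      rw [← Ideal.zero_eq_bot, zero_pow (Nat.succ_ne_zero n)]
    have hproj : Projective (Q (⊥ : Ideal R) (n + 1)) := by
      have e' : (R ⧸ (⊥ : Ideal R) ^ (n + 1)) ≃ₗ[R] R := Submodule.quotEquivOfEqBot _ hbot
      exact Projective.of_iso (e'.toModuleIso).symm (inferInstance : Projective (ModuleCat.of R R))
    rw [Abelian.Ext.eq_zero_of_projective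
      ((Abelian.Ext.mk₀ (Qmap (⊥ : Ideal R) (Nat.le_succ n))).comp e (zero_add (i + 1))), map_zero]
  exact ⟨fun x y => (key x).trans (key y).symm⟩

variable [IsNoetherianRing R]

/-- principal ideals have cohomological dimension `≤ 1`. -/
theorem cdLE_span_singleton (x : R) : LocCoh.CdLE R (Ideal.span {x}) 1 := by
  apply cdLE_of_smul_top
  rw [eq_top_iff]
  intro y _
  let e := dtPrincipalEquiv x R
  obtain ⟨w, hw⟩ := (smul_pow_bijective_localizedModule x R 1).2 (e y)
  have hy : y = x • e.symm w := by
    rw [← map_smul, LinearEquiv.eq_symm_apply]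
    simpa using hw.symm
  rw [hy]
  exact Submodule.smul_mem_smul (Ideal.mem_span_singleton_self x) Submodule.mem_top

theorem subsingleton_of_iso {A B : ModuleCat.{u} R} (e : A ≅ B) (h : Subsingleton B) :
    Subsingleton A :=
  (e.toLinearEquiv.toEquiv).subsingleton

section Main
variable (M : ModuleCat.{u} R) (C : Set (Ideal R))
  (hsum : ∀ a ∈ C, ∀ b ∈ C, a ⊔ b ∈ C) (hmul : ∀ a ∈ C, ∀ b ∈ C, a * b ∈ C)
  (hzero : (⊥ : Ideal R) ∈ C)
  (hone : ∀ c ∈ C, Subsingleton ((localCohomology c 1).obj M))

include hsum hzero in
theorem span_mem_of_forall (s : Finset R) (hs : ∀ x ∈ s, Ideal.span {x} ∈ C) :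
    Ideal.span (s : Set R) ∈ C := by
  classical
  induction s using Finset.induction_on with
  | empty => simpa using hzero
  | insert x s hx ih =>
    rw [Finset.coe_insert, Ideal.span_insert]
    exact hsum _ (hs x (Finset.mem_insert_self x s)) _
      (ih (fun y hy => hs y (Finset.mem_insert_of_mem hy)))

include hsum hmul hzero hone in
theorem subsingleton_H_of_card (k : ℕ) : ∀ (s : Finset R), s.card ≤ k →
    (∀ x ∈ s, Ideal.span {x} ∈ C) → ∀ i : ℕ,
      Subsingleton ((localCohomology (Ideal.span (s : Set R)) (i + 1)).obj M) := by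
  classical
  induction k with
  | zero =>
    intro s hs _ i
    have : s = ∅ := Finset.card_eq_zero.mp (Nat.le_zero.mp hs)
    subst this
    rw [Finset.coe_empty, Ideal.span_empty]
    exact subsingleton_H_bot M i
  | succ k ih =>
    intro s hs hsC i
    rcases s.eq_empty_or_nonempty with rfl | ⟨x, hx⟩
    · rw [Finset.coe_empty, Ideal.span_empty]
      exact subsingleton_H_bot M i
    · -- s = insert x s'
      let s' := s.erase x
      have hs' : s'.card ≤ k := by
        have h1 : (s.erase x).card = s.card - 1 := Finset.card_erase_of_mem hx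
        change (s.erase x).card ≤ k
        omega
      have hins : (s : Set R) = insert x (s' : Set R) := by
        rw [← Finset.coe_insert, Finset.insert_erase hx]
      have hs'C : ∀ y ∈ s', Ideal.span {y} ∈ C := fun y hy => hsC y (Finset.mem_of_mem_erase hy)
      let a : Ideal R := Ideal.span (s' : Set R)
      let b : Ideal R := Ideal.span {x}
      have hab : Ideal.span (s : Set R) = a ⊔ b := by
        rw [hins, Ideal.span_insert, sup_comm]
      have haC : a ∈ C := span_mem_of_forall C hsum hzero s' hs'C
      have hbC : b ∈ C := hsC x hx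
      cases i with
      | zero =>
        rw [hab]
        exact hone _ (hsum a haC b hbC)
      | succ j =>
        -- H^{j+1}_{a ⊓ b} = 0
        let s'' : Finset R := s'.image (fun y => y * x)
        have hs''card : s''.card ≤ k := (Finset.card_image_le).trans hs'
        have hs''C : ∀ y ∈ s'', Ideal.span {y} ∈ C := by
          intro y hy
          obtain ⟨z, hz, rfl⟩ := Finset.mem_image.mp hy
          rw [← Ideal.span_singleton_mul_span_singleton]
          exact hmul _ (hs'C z hz) _ hbC
        have hspan'' : Ideal.span (s'' : Set R) = a * b := by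
          rw [Ideal.span_mul_span', Finset.coe_image, Set.mul_singleton]
        have hrad : (a ⊓ b).radical = (Ideal.span (s'' : Set R)).radical := by
          rw [hspan'', Ideal.radical_mul, Ideal.radical_inf]
        have h3 : Subsingleton ((localCohomology (a ⊓ b) (j + 1)).obj M) :=
          subsingleton_of_iso ((localCohomology.isoOfSameRadical hrad (j + 1)).app M)
            (ih s'' hs''card hs''C j)
        have h1 : Subsingleton ((localCohomology a (j + 1 + 1)).obj M) := ih s' hs' hs'C (j + 1)
        have h2 : Subsingleton ((localCohomology b (j + 1 + 1)).obj M) :=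
          cdLE_span_singleton x M (j + 1 + 1) (by omega)
        rw [hab]
        let res := injectiveResolution M
        have hker := ker_Pmap_succ a b res (j + 1)
        refine ⟨fun u v => ?_⟩
        have hu : u ∈ LinearMap.ker (Pmap a b (M := M) (j + 1 + 1)) := by
          rw [LinearMap.mem_ker]
          exact Subsingleton.elim _ _
        have hv : v ∈ LinearMap.ker (Pmap a b (M := M) (j + 1 + 1)) := by
          rw [LinearMap.mem_ker]
          exact Subsingleton.elim _ _
        rw [hker] at hu hv
        obtain ⟨u', rfl⟩ := hu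
        obtain ⟨v', rfl⟩ := hv
        rw [Subsingleton.elim u' v']

end Main

end Groth.Agent.H58.LC
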