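import Groth.Agent.H58.LCLocSeq
import Groth.Agent.H58.LCCd

/-!
# `cd(I + J) ≤ cd(I) + cd(J)`
-/
set_option autoImplicit false
set_option linter.unusedSectionVars false
universe u
open CategoryTheory CategoryTheory.Limits Opposite

namespace Groth.Agent.H58.LC
open Groth.Agent.H58 Groth.Agent.H58.ExtCompare

variable {R : Type u} [CommRing R] [IsNoetherianRing R] (I J : Ideal R)
variable {M : ModuleCat.{u} R} (Jr : InjectiveResolution M)

/-- the module `Γ_J(E^q)` -/
abbrev Cq (q : ℕ) : Type u := ↥(DRing.torsionSub J (Jr.cocomplex.X q))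

/-- the differential `Γ_J(E^q) → Γ_J(E^{q+1})` -/
noncomputable def dC (q : ℕ) : Cq J Jr q →ₗ[R] Cq J Jr (q + 1) := ((GK J Jr).d q (q + 1)).hom

theorem dC_val (q : ℕ) (x : Cq J Jr q) :
    ((dC J Jr q x : Cq J Jr (q + 1)) : Jr.cocomplex.X (q + 1)) =
      (Jr.cocomplex.d q (q + 1)).hom (x : Jr.cocomplex.X q) := rfl

theorem dC_dC (q : ℕ) (x : Cq J Jr q) : dC J Jr (q + 1) (dC J Jr q x) = 0 := by
  have h := (GK J Jr).d_comp_d q (q + 1) (q + 1 + 1)
  exact congrArg (fun φ => φ.hom x) h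

/-- the cocycles -/
noncomputable def Zq (q : ℕ) : Submodule R (Cq J Jr q) := LinearMap.ker (dC J Jr q)

/-- `d : C^q → Z^{q+1}` -/
noncomputable def dZ (q : ℕ) : Cq J Jr q →ₗ[R] Zq J Jr (q + 1) :=
  (dC J Jr q).codRestrict (Zq J Jr (q + 1)) (fun x => dC_dC J Jr q x)

theorem exact_subtype_dZ (q : ℕ) : Function.Exact (Zq J Jr q).subtype (dZ J Jr q) := by
  intro x
  constructor
  · intro hx
    have hx' : dC J Jr q x = 0 := congrArg Subtype.val hx
    exact ⟨⟨x, hx'⟩, rfl⟩
  · rintro ⟨z, rfl⟩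
    apply Subtype.ext
    exact z.2

theorem dZ_surjective (q : ℕ) (h : Subsingleton ((localCohomology J (q + 1)).obj M)) :
    Function.Surjective (dZ J Jr q) := by
  have h1 : Subsingleton ((GK J Jr).homology (q + 1)) :=
    (GKhomologyToH_bijective J Jr (q + 1)).1.subsingleton
  have h2 : IsZero ((GK J Jr).homology (q + 1)) := ModuleCat.isZero_of_subsingleton _
  have h3 : (GK J Jr).ExactAt (q + 1) := by
    rw [HomologicalComplex.exactAt_iff_isZero_homology]; exact h2
  rw [HomologicalComplex.exactAt_iff' _ q (q + 1) (q + 1 + 1) (by simp) (by simp)] at h3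
  have h4 := (ShortComplex.moduleCat_exact_iff _).mp h3
  intro z
  obtain ⟨c, hc⟩ := h4 z.1 z.2
  exact ⟨c, Subtype.ext hc⟩

/-- the short exact sequence `0 → Z^q → C^q → Z^{q+1} → 0` -/
theorem SZ_shortExact (q : ℕ) (h : Subsingleton ((localCohomology J (q + 1)).obj M)) :
    (ShortComplex.mk (ModuleCat.ofHom (Zq J Jr q).subtype) (ModuleCat.ofHom (dZ J Jr q)) (by
      apply ModuleCat.hom_ext
      apply LinearMap.ext
      intro x
      exact (exact_subtype_dZ J Jr q).apply_apply_eq_zero x)).ShortExact :=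
  shortExact_of (Zq J Jr q).subtype (dZ J Jr q) (Submodule.injective_subtype _)
    (dZ_surjective J Jr q h) (exact_subtype_dZ J Jr q)

theorem injective_Cq (q : ℕ) : Injective (ModuleCat.of R (Cq J Jr q)) := by
  have hE : Injective (Jr.cocomplex.X q) := Jr.injective q
  have hE₀ : Module.Injective R (Jr.cocomplex.X q) :=
    (Module.injective_iff_injective_object R _).mpr hE
  have hG : Module.Injective R (DRing.torsionSub J (Jr.cocomplex.X q)) :=
    injective_torsionSub J (Jr.cocomplex.X q)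
  exact Module.injective_object_of_injective_module R _

variable (a b : ℕ) (hI : LocCoh.CdLE R I a) (hJ : LocCoh.CdLE R J b)

include hI hJ in
theorem subsingleton_H_Zq : ∀ (t j : ℕ), 1 ≤ j → a + b < j + (b + t) →
    Subsingleton (LocCoh.H I j (Zq J Jr (b + t))) := by
  intro t
  induction t with
  | zero =>
    intro j _ hj
    exact hI _ j (by omega)
  | succ t ih =>
    intro j hj1 hj
    have hvan : Subsingleton ((localCohomology J (b + t + 1)).obj M) := hJ M (b + t + 1) (by omega)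
    have hS := SZ_shortExact J Jr (b + t) hvan
    obtain ⟨j', rfl⟩ : ∃ j', j = j' + 1 := ⟨j - 1, by omega⟩
    have hinj := injective_Cq J Jr (b + t)
    have h2 : Subsingleton ((localCohomology I (j' + 1)).obj (ModuleCat.of R (Cq J Jr (b + t)))) :=
      subsingleton_of_injective I _ j'
    have h1 := ih (j' + 1 + 1) (by omega) (by omega)
    exact subsingleton_right I hS (j' + 1) h2 h1

include hI hJ in
theorem exists_primitive (k : ℕ) (hk : a + b < k + 1) (c : Jr.cocomplex.X (k + 1)) (m : ℕ)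
    (hc : ∀ r ∈ (I ⊔ J) ^ m, r • c = 0) (hd : (Jr.cocomplex.d (k + 1) (k + 1 + 1)).hom c = 0) :
    ∃ (m' : ℕ) (e : Jr.cocomplex.X k), (∀ r ∈ (I ⊔ J) ^ m', r • e = 0) ∧
      (Jr.cocomplex.d k (k + 1)).hom e = c := by
  obtain ⟨t, rfl⟩ : ∃ t, k = b + t := ⟨k - b, by omega⟩
  have hcJ : c ∈ DRing.torsionSub J (Jr.cocomplex.X (b + t + 1)) :=
    torsionSub_mono (le_sup_right : J ≤ I ⊔ J) ⟨m, hc⟩
  let cJ : Cq J Jr (b + t + 1) := ⟨c, hcJ⟩
  have hcJd : dC J Jr (b + t + 1) cJ = 0 := Subtype.ext hd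
  let z : Zq J Jr (b + t + 1) := ⟨cJ, hcJd⟩
  have hz : z ∈ DRing.torsionSub I (Zq J Jr (b + t + 1)) := by
    refine ⟨m, fun r hr => ?_⟩
    apply Subtype.ext
    apply Subtype.ext
    exact hc r (Ideal.pow_right_mono le_sup_left m hr)
  have hvan : Subsingleton ((localCohomology J (b + t + 1)).obj M) := hJ M (b + t + 1) (by omega)
  have hS := SZ_shortExact J Jr (b + t) hvan
  have h1 : Subsingleton (LocCoh.H I 1 (Zq J Jr (b + t))) :=
    subsingleton_H_Zq I J Jr a b hI hJ t 1 le_rfl (by omega)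
  let x := (H0equiv I (ModuleCat.of R (Zq J Jr (b + t + 1)))).symm ⟨z, hz⟩
  obtain ⟨x₂, hx₂⟩ := exact₃ I 0 hS x (Subsingleton.elim (h := h1) _ _)
  have h2 := H0equiv_map I (ModuleCat.ofHom (dZ J Jr (b + t))) x₂
  rw [hx₂] at h2
  have h3 : (H0equiv I (ModuleCat.of R (Zq J Jr (b + t + 1))) x : Zq J Jr (b + t + 1)) = z := by
    simp [x]
  rw [h3] at h2
  -- the primitive
  let e : Cq J Jr (b + t) := (H0equiv I (ModuleCat.of R (Cq J Jr (b + t))) x₂ : Cq J Jr (b + t))
  have he : e ∈ DRing.torsionSub I (Cq J Jr (b + t)) :=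
    (H0equiv I (ModuleCat.of R (Cq J Jr (b + t))) x₂).2
  have hde : dZ J Jr (b + t) e = z := h2.symm
  have hmem : (e : Jr.cocomplex.X (b + t)) ∈ DRing.torsionSub (I ⊔ J) (Jr.cocomplex.X (b + t)) := by
    apply mem_torsionSub_sup I J _ _ e.2
    obtain ⟨m', hm'⟩ := he
    exact ⟨m', fun r hr => congrArg Subtype.val (hm' r hr)⟩
  obtain ⟨m', hm'⟩ := hmem
  refine ⟨m', (e : Jr.cocomplex.X (b + t)), hm', ?_⟩
  have := congrArg (fun w : Zq J Jr (b + t + 1) => ((w : Cq J Jr (b + t + 1)) : Jr.cocomplex.X (b + t + 1))) hde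
  exact this

include hI hJ Jr in
theorem subsingleton_H_sup (n : ℕ) (hn : a + b < n) :
    Subsingleton ((localCohomology (I ⊔ J) n).obj M) := by
  obtain ⟨k, rfl⟩ : ∃ k, n = k + 1 := ⟨n - 1, by omega⟩
  have key : ∀ x : (localCohomology (I ⊔ J) (k + 1)).obj M, x = 0 := by
    intro x
    obtain ⟨m, c, hc, hd, rfl⟩ := exists_cls (I ⊔ J) Jr (k + 1) x
    rw [cls_eq_zero_iff]
    obtain ⟨m', e, he, hde⟩ := exists_primitive I J Jr a b hI hJ k hn c m hc hd
    have hp : (ComplexShape.up ℕ).prev (k + 1) = k := by simp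
    rw [hp]
    exact ⟨m', e, he, hde⟩
  exact ⟨fun x y => by rw [key x, key y]⟩

end Groth.Agent.H58.LC
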