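import Groth.Agent.H58.LCColim

/-!
# `Hom(N, -)` commutes with filtered colimits for `N` finite over a Noetherian ring;
  the ideal transform commutes with filtered colimits
-/
set_option autoImplicit false
set_option linter.unusedSectionVars false
universe u
open CategoryTheory CategoryTheory.Limits Opposite

namespace Groth.Agent.H58.LCColim

variable {R : Type u} [CommRing R] [IsNoetherianRing R]

section filtered
variable {Λ : Type u} [SmallCategory Λ] [IsFiltered Λ] (K : Λ ⥤ ModuleCat.{u} R) (c : Cocone K)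
  (hc : IsColimit c)

include hc in
theorem exists_lift_of_finite {N : ModuleCat.{u} R} (hN : Module.Finite R N) (f : N ⟶ c.pt) :
    ∃ (l : Λ) (g : N ⟶ K.obj l), g ≫ c.ι.app l = f := by
  have hG : IsFinFree (G N) := G_finFree N hN
  have hker : Module.Finite R (kernel (p N) : ModuleCat.{u} R) := by
    have : Module.Finite R (G N) := hG.finite
    have : IsNoetherian R (G N) := isNoetherian_of_isNoetherianRing_of_finite R (G N)
    have h2 : Module.Finite R (LinearMap.ker (p N).hom) := inferInstance
    exact Module.Finite.equiv (ModuleCat.kernelIsoKer (p N)).toLinearEquiv.symm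
  obtain ⟨l, g, hg⟩ := exists_lift K c hc hG (p N ≫ f)
  have h1 : (kernel.ι (p N) ≫ g) ≫ c.ι.app l = 0 := by
    rw [Category.assoc, hg, kernel.condition_assoc, zero_comp]
  obtain ⟨m, a, ha⟩ := exists_comp_map_eq_zero K c hc hker _ h1
  rw [Category.assoc] at ha
  refine ⟨m, Abelian.epiDesc (p N) (g ≫ K.map a) ha, ?_⟩
  rw [← cancel_epi (p N), Abelian.comp_epiDesc_assoc, Category.assoc, c.w a, hg]

/-- shorthand for the functor `Hom(N, -)` -/
noncomputable abbrev Hm (N : ModuleCat.{u} R) : ModuleCat.{u} R ⥤ ModuleCat.{u} R :=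
  (linearCoyoneda R (ModuleCat.{u} R)).obj (op N)

include hc in
theorem hom_isColimit_mapCocone {N : ModuleCat.{u} R} (hN : Module.Finite R N) :
    Nonempty (IsColimit ((Hm N).mapCocone c)) := by
  refine ⟨?_⟩
  apply isColimitOfReflects (forget (ModuleCat.{u} R))
  apply Types.FilteredColimit.isColimitOf
  · intro y
    let y' : N ⟶ c.pt := y
    obtain ⟨l, g, hg⟩ := exists_lift_of_finite K c hc hN y'
    exact ⟨l, g, hg.symm⟩
  · intro l m xl xm h
    let xl' : N ⟶ K.obj l := xl
    let xm' : N ⟶ K.obj m := xm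
    have h' : xl' ≫ c.ι.app l = xm' ≫ c.ι.app m := h
    have h2 : (xl' ≫ K.map (IsFiltered.leftToMax l m)) ≫ c.ι.app (IsFiltered.max l m) =
        (xm' ≫ K.map (IsFiltered.rightToMax l m)) ≫ c.ι.app (IsFiltered.max l m) := by
      simp only [Category.assoc, c.w]
      exact h'
    obtain ⟨n, b, hb⟩ := exists_comp_map_eq K c hc hN _ _ h2
    refine ⟨n, IsFiltered.leftToMax l m ≫ b, IsFiltered.rightToMax l m ≫ b, ?_⟩
    change xl' ≫ K.map (IsFiltered.leftToMax l m ≫ b) = xm' ≫ K.map (IsFiltered.rightToMax l m ≫ b)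
    rw [K.map_comp, K.map_comp, ← Category.assoc, ← Category.assoc]
    exact hb

end filtered

theorem hom_preservesColimitsOfShape {Λ : Type u} [SmallCategory Λ] [IsFiltered Λ]
    (N : ModuleCat.{u} R) (hN : Module.Finite R N) :
    PreservesColimitsOfShape Λ ((linearCoyoneda R (ModuleCat.{u} R)).obj (op N)) :=
  ⟨fun {K} => ⟨fun {c} hc => hom_isColimit_mapCocone K c hc hN⟩⟩

end Groth.Agent.H58.LCColim
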