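import Groth.Agent.H58.LCDT
import Groth.Agent.H58.LCTorsion2
import Mathlib.Algebra.Homology.ShortComplex.ExactFunctor

set_option autoImplicit false
universe u
open CategoryTheory CategoryTheory.Limits Opposite

namespace Groth.Agent.H58.LC
open Groth.Agent.H58 Groth.Agent.H58.ExtCompare

variable {R : Type u} [CommRing R] [IsNoetherianRing R] (I : Ideal R)

/-- Naturality of `ψ : D_I(M) → H^1_I(M)`. -/
theorem ψ_naturality {M N : Type u} [AddCommGroup M] [Module R M] [AddCommGroup N] [Module R N]
    (g : M →ₗ[R] N) (x : LocCoh.DT I M) :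
    ψ I N (((LocCoh.idealTransform I).map (ModuleCat.ofHom g)).hom x) =
      ((localCohomology I 1).map (ModuleCat.ofHom g)).hom (ψ I M x) := by
  obtain ⟨n, f, rfl⟩ := dt_exists_rep I M x
  rw [idealTransform_map_dtι, ψ_dtι, ψ_dtι, map_ι, Abelian.Ext.comp_assoc_of_third_deg_zero,
    Abelian.Ext.mk₀_comp_mk₀]
  rfl

theorem toDT_naturality {M N : Type u} [AddCommGroup M] [Module R M] [AddCommGroup N] [Module R N]
    (g : M →ₗ[R] N) (x : M) :
    ((LocCoh.idealTransform I).map (ModuleCat.ofHom g)).hom (LocCoh.toDT I M x) =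
      LocCoh.toDT I N (g x) := by
  rw [toDT_apply, idealTransform_map_dtι, toDT_apply]
  congr 1
  ext r
  simp

/-- `D_I` is left exact (Noetherian `R`). -/
theorem idealTransform_preservesFiniteLimits :
    PreservesFiniteLimits (LocCoh.idealTransform I) := by
  rw [Functor.preservesFiniteLimits_iff_forall_exact_map_and_mono]
  intro S hS
  have hinj : Function.Injective S.f.hom := hS.moduleCat_injective_f
  have hex := (ShortComplex.moduleCat_exact_iff S).mp hS.exact
  have hker : LinearMap.ker S.f.hom ≤ DRing.torsionSub I S.X₁ := by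
    rw [LinearMap.ker_eq_bot.mpr hinj]; exact bot_le
  constructor
  · rw [ShortComplex.moduleCat_exact_iff]
    intro x hx
    obtain ⟨n, h, rfl⟩ := dt_exists_rep I S.X₂ x
    have hx' : ((LocCoh.idealTransform I).map (ModuleCat.ofHom S.g.hom)).hom (dtι I S.X₂ n h) = 0 := hx
    rw [idealTransform_map_dtι, dtι_eq_zero_iff] at hx'
    obtain ⟨m, hm, hr⟩ := hx'
    let h' : ↥(I ^ m) →ₗ[R] S.X₂ := h ∘ₗ Submodule.inclusion (Ideal.pow_le_pow_right hm)
    have hrange : LinearMap.range h' ≤ LinearMap.range S.f.hom := by
      rintro _ ⟨r, rfl⟩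
      obtain ⟨a, ha⟩ := hex (h' r) (hr r)
      exact ⟨a, ha⟩
    obtain ⟨j, f', hf'⟩ := exists_lift_of_range_le I S.f.hom hker h' hrange
    refine ⟨dtι I S.X₁ (m + j) f', ?_⟩
    have : ((LocCoh.idealTransform I).map (ModuleCat.ofHom S.f.hom)).hom (dtι I S.X₁ (m + j) f') =
        dtι I S.X₂ n h := by
      rw [idealTransform_map_dtι, hf', dtι_restrict I S.X₂ (Nat.le_add_right m j) h',
        dtι_restrict I S.X₂ hm h]
    exact this
  · rw [ModuleCat.mono_iff_injective]
    exact idealTransform_map_injective I S.f.hom hker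


/-- Given left exactness, `D_I` is right exact iff it preserves surjections. -/
theorem idealTransform_preservesFiniteColimits_iff :
    PreservesFiniteColimits (LocCoh.idealTransform I) ↔
      ∀ S : ShortComplex (ModuleCat.{u} R), S.ShortExact →
        Function.Surjective ((LocCoh.idealTransform I).map S.g).hom := by
  rw [Functor.preservesFiniteColimits_iff_forall_exact_map_and_epi]
  have hL := idealTransform_preservesFiniteLimits I
  have hL' := (Functor.preservesFiniteLimits_iff_forall_exact_map_and_mono
    (LocCoh.idealTransform I)).mp hL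
  constructor
  · intro h S hS
    have := (h S hS).2
    rwa [ModuleCat.epi_iff_surjective] at this
  · intro h S hS
    refine ⟨(hL' S hS).1, ?_⟩
    rw [ModuleCat.epi_iff_surjective]
    exact h S hS

/-- If `H^2_I` vanishes on the kernel then `D_I` of a surjection is surjective. -/
theorem idealTransform_map_g_surjective {S : ShortComplex (ModuleCat.{u} R)} (hS : S.ShortExact)
    (h2 : Subsingleton ((localCohomology I (1 + 1)).obj S.X₁)) :
    Function.Surjective ((LocCoh.idealTransform I).map S.g).hom := by
  intro y
  have hsurj : Function.Surjective S.g.hom := hS.moduleCat_surjective_g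
  obtain ⟨z, hz⟩ := exact₃ I 1 hS (ψ I S.X₃ y) (Subsingleton.elim _ _)
  obtain ⟨x, rfl⟩ := ψ_surjective I S.X₂ z
  have hnat := ψ_naturality I S.g.hom x
  have hker : y - ((LocCoh.idealTransform I).map (ModuleCat.ofHom S.g.hom)).hom x ∈
      LinearMap.ker (ψ I S.X₃) := by
    rw [LinearMap.mem_ker, map_sub, hnat, sub_eq_zero]
    exact hz.symm
  rw [ker_ψ] at hker
  obtain ⟨c, hc⟩ := hker
  obtain ⟨b, rfl⟩ := hsurj c
  refine ⟨x + LocCoh.toDT I S.X₂ b, ?_⟩
  have h1 := toDT_naturality I S.g.hom b
  have : ((LocCoh.idealTransform I).map (ModuleCat.ofHom S.g.hom)).hom (x + LocCoh.toDT I S.X₂ b) = y := by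
    rw [map_add, h1, hc]
    abel
  exact this

theorem idealTransform_exact_of_cdLE (h : LocCoh.CdLE R I 1) :
    PreservesFiniteLimits (LocCoh.idealTransform I) ∧
      PreservesFiniteColimits (LocCoh.idealTransform I) := by
  refine ⟨idealTransform_preservesFiniteLimits I, ?_⟩
  rw [idealTransform_preservesFiniteColimits_iff]
  intro S hS
  exact idealTransform_map_g_surjective I hS (h S.X₁ 2 (by norm_num))

/-- If `D_I` preserves surjections, then `H^1_I` of any quotient of an injective vanishes. -/
theorem subsingleton_H1_of_surjective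
    (h : ∀ S : ShortComplex (ModuleCat.{u} R), S.ShortExact →
        Function.Surjective ((LocCoh.idealTransform I).map S.g).hom)
    {S : ShortComplex (ModuleCat.{u} R)} (hS : S.ShortExact) [Injective S.X₂] :
    Subsingleton ((localCohomology I (0 + 1)).obj S.X₃) := by
  have hE := subsingleton_of_injective I S.X₂ 0
  have key : ∀ z : (localCohomology I (0 + 1)).obj S.X₃, z = 0 := by
    intro z
    obtain ⟨y, rfl⟩ := ψ_surjective I S.X₃ z
    obtain ⟨x, hx⟩ := h S hS y
    have hxk : x ∈ LinearMap.ker (ψ I S.X₂) := by
      rw [LinearMap.mem_ker]; exact Subsingleton.elim _ _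
    rw [ker_ψ] at hxk
    obtain ⟨e, rfl⟩ := hxk
    have h1 := toDT_naturality I S.g.hom e
    have : y = LocCoh.toDT I S.X₃ (S.g.hom e) := by
      rw [← h1]; exact hx.symm
    rw [this]
    exact ψ_toDT I S.X₃ _
  exact ⟨fun a b => (key a).trans (key b).symm⟩

theorem cdLE_of_surjective
    (h : ∀ S : ShortComplex (ModuleCat.{u} R), S.ShortExact →
        Function.Surjective ((LocCoh.idealTransform I).map S.g).hom) :
    LocCoh.CdLE R I 1 := by
  have key : ∀ (k : ℕ) (M : ModuleCat.{u} R),
      Subsingleton ((localCohomology I (k + 1 + 1)).obj M) := by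
    intro k
    induction k with
    | zero =>
      intro M
      let E : ModuleCat.{u} R := Injective.under M
      let j : M ⟶ E := Injective.ι M
      have hj : Function.Injective j.hom := (ModuleCat.mono_iff_injective j).mp inferInstance
      let S : ShortComplex (ModuleCat.{u} R) :=
        ShortComplex.mk (ModuleCat.ofHom j.hom) (ModuleCat.ofHom (LinearMap.range j.hom).mkQ) (by
          ext x
          exact (LinearMap.exact_map_mkQ_range j.hom).apply_apply_eq_zero x)
      have hS : S.ShortExact := shortExact_of j.hom _ hj (Submodule.mkQ_surjective _)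
        (LinearMap.exact_map_mkQ_range j.hom)
      haveI : Injective S.X₂ := (inferInstance : Injective E)
      have h1 := subsingleton_H1_of_surjective I h hS
      exact subsingleton_succ_of_ses I hS 0 h1
    | succ k ih =>
      intro M
      let E : ModuleCat.{u} R := Injective.under M
      let j : M ⟶ E := Injective.ι M
      have hj : Function.Injective j.hom := (ModuleCat.mono_iff_injective j).mp inferInstance
      let S : ShortComplex (ModuleCat.{u} R) :=
        ShortComplex.mk (ModuleCat.ofHom j.hom) (ModuleCat.ofHom (LinearMap.range j.hom).mkQ) (by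
          ext x
          exact (LinearMap.exact_map_mkQ_range j.hom).apply_apply_eq_zero x)
      have hS : S.ShortExact := shortExact_of j.hom _ hj (Submodule.mkQ_surjective _)
        (LinearMap.exact_map_mkQ_range j.hom)
      haveI : Injective S.X₂ := (inferInstance : Injective E)
      exact subsingleton_succ_of_ses I hS (k + 1) (ih S.X₃)
  intro M _ _ i hi
  obtain ⟨k, rfl⟩ : ∃ k, i = k + 1 + 1 := ⟨i - 2, by omega⟩
  exact key k (ModuleCat.of R M)

theorem idealTransform_exact_iff_cdLE :
    (PreservesFiniteLimits (LocCoh.idealTransform I) ∧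
      PreservesFiniteColimits (LocCoh.idealTransform I)) ↔ LocCoh.CdLE R I 1 := by
  constructor
  · rintro ⟨_, h2⟩
    exact cdLE_of_surjective I ((idealTransform_preservesFiniteColimits_iff I).mp h2)
  · exact idealTransform_exact_of_cdLE I

end Groth.Agent.H58.LC
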