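import Groth.Agent.H58.LCInjRes
import Groth.Agent.H58.LCDTExact
import Mathlib.Algebra.Homology.HomologySequenceLemmas
import Mathlib.Algebra.Homology.HomologicalComplexAbelian

set_option autoImplicit false
set_option linter.unusedSectionVars false
universe u
open CategoryTheory CategoryTheory.Limits Opposite

namespace Groth.Agent.H58.LC
open Groth.Agent.H58 Groth.Agent.H58.ExtCompare

variable {R : Type u} [CommRing R] [IsNoetherianRing R] (I : Ideal R)

/-- `η` as a natural transformation `𝟭 ⟶ D_I`. -/
noncomputable def ηD : 𝟭 (ModuleCat.{u} R) ⟶ LocCoh.idealTransform I where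
  app M := ModuleCat.ofHom (LocCoh.toDT I M)
  naturality M N g := by
    ext x
    exact (toDT_naturality I g.hom x).symm

theorem toDT_surjective_of_injective (E : ModuleCat.{u} R) [Injective E] :
    Function.Surjective (LocCoh.toDT I E) := by
  intro y
  have hE := subsingleton_of_injective I E 0
  have hy : y ∈ LinearMap.ker (ψ I E) := by
    rw [LinearMap.mem_ker]; exact Subsingleton.elim _ _
  rw [ker_ψ] at hy
  exact hy

variable {M : ModuleCat.{u} R} (J : InjectiveResolution M)

/-- the complex `D_I(J•)` -/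
noncomputable abbrev DK : CochainComplex (ModuleCat.{u} R) ℕ :=
  ((LocCoh.idealTransform I).mapHomologicalComplex (ComplexShape.up ℕ)).obj J.cocomplex

/-- `Γ_I(J•) → J•` -/
noncomputable def GKι : GK I J ⟶ J.cocomplex where
  f i := (DRing.gammaIι I).app (J.cocomplex.X i)
  comm' i j _ := ((DRing.gammaIι I).naturality (J.cocomplex.d i j)).symm

/-- `J• → D_I(J•)` -/
noncomputable def toDK : J.cocomplex ⟶ DK I J where
  f i := (ηD I).app (J.cocomplex.X i)
  comm' i j _ := ((ηD I).naturality (J.cocomplex.d i j)).symm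

/-- `0 → Γ_I(J•) → J• → D_I(J•) → 0` -/
noncomputable def SK : ShortComplex (CochainComplex (ModuleCat.{u} R) ℕ) :=
  ShortComplex.mk (GKι I J) (toDK I J) (by
    ext i x
    have hx : valOf I x ∈ LinearMap.ker (LocCoh.toDT I (J.cocomplex.X i)) := by
      rw [ker_toDT]; exact valOf_mem I J i x
    exact hx)

theorem SK_shortExact : (SK I J).ShortExact := by
  apply HomologicalComplex.shortExact_of_degreewise_shortExact
  intro i
  have : Injective (J.cocomplex.X i) := J.injective i
  apply ModuleCat.shortComplex_shortExact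
  · intro y
    constructor
    · intro hy
      have hy' : y ∈ LinearMap.ker (LocCoh.toDT I (J.cocomplex.X i)) := hy
      rw [ker_toDT] at hy'
      exact ⟨(⟨y, hy'⟩ : ↥(DRing.torsionSub I (J.cocomplex.X i))), rfl⟩
    · rintro ⟨x, rfl⟩
      have hx : valOf I x ∈ LinearMap.ker (LocCoh.toDT I (J.cocomplex.X i)) := by
        rw [ker_toDT]; exact valOf_mem I J i x
      exact hx
  · intro x y hxy
    exact valOf_injective I J i hxy
  · exact toDT_surjective_of_injective I (J.cocomplex.X i)


theorem isZero_homology_succ (k : ℕ) : IsZero ((SK I J).X₂.homology (k + 1)) :=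
  (J.cocomplex_exactAt_succ k).isZero_homology

/-- The connecting isomorphism `H^{k+1}(D_I(J•)) ≅ H^{k+2}(Γ_I(J•))`. -/
noncomputable def δK (k : ℕ) : (DK I J).homology (k + 1) ≅ (GK I J).homology (k + 1 + 1) :=
  (SK_shortExact I J).δIso (k + 1) (k + 1 + 1) (by simp)
    (isZero_homology_succ I J k) (isZero_homology_succ I J (k + 1))

theorem δK_hom (k : ℕ) : (δK I J k).hom =
    (SK_shortExact I J).δ (k + 1) (k + 1 + 1) (by simp) := rfl

section Nat
variable {J}
variable {N : ModuleCat.{u} R} {J' : InjectiveResolution N} {g : M ⟶ N}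
  (φ : InjectiveResolution.Hom J J' g)

/-- `D_I(J•) → D_I(J'•)` -/
noncomputable abbrev DKmap : DK I J ⟶ DK I J' :=
  ((LocCoh.idealTransform I).mapHomologicalComplex (ComplexShape.up ℕ)).map φ.hom

/-- the morphism of short exact sequences of complexes induced by a morphism of resolutions -/
noncomputable def SKmap : SK I J ⟶ SK I J' where
  τ₁ := GKmap I φ
  τ₂ := φ.hom
  τ₃ := DKmap I φ
  comm₁₂ := by
    ext i x
    rfl
  comm₂₃ := by
    ext i x
    exact (toDT_naturality I (φ.hom.f i).hom x).symm

theorem δK_naturality (k : ℕ) :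
    (δK I J k).hom ≫ HomologicalComplex.homologyMap (GKmap I φ) (k + 1 + 1) =
      HomologicalComplex.homologyMap (DKmap I φ) (k + 1) ≫ (δK I J' k).hom :=
  HomologicalComplex.HomologySequence.δ_naturality (SKmap I φ) (SK_shortExact I J)
    (SK_shortExact I J') (k + 1) (k + 1 + 1) (by simp)

end Nat

theorem nat_square_aux3 {D : Type*} [Category D] {A B C E A' B' C' E' : D}
    (a : A ⟶ B) (b : B ⟶ C) (c : C ⟶ E) (a' : A' ⟶ B') (b' : B' ⟶ C') (c' : C' ⟶ E')
    (r : A ⟶ A') (m1 : B ⟶ B') (m2 : C ⟶ C') (l : E ⟶ E')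
    (h1 : r ≫ a' = a ≫ m1) (h2 : b ≫ m2 = m1 ≫ b') (h3 : c ≫ l = m2 ≫ c') :
    r ≫ (a' ≫ b' ≫ c') = (a ≫ b ≫ c) ≫ l := by
  rw [← Category.assoc, h1, Category.assoc, ← Category.assoc m1, ← h2]
  simp only [Category.assoc]
  rw [h3]

/-- the component of `R^{k+1}D_I ≅ H^{k+2}_I` at `M`. -/
noncomputable def rightDerivedDTIsoApp (k : ℕ) (M : ModuleCat.{u} R) :
    ((LocCoh.idealTransform I).rightDerived (k + 1)).obj M ≅
      (localCohomology I (k + 1 + 1)).obj M :=
  (injectiveResolution M).isoRightDerivedObj (LocCoh.idealTransform I) (k + 1) ≪≫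
    δK I (injectiveResolution M) k ≪≫ GKiso I M (injectiveResolution M) (k + 1 + 1)

theorem rightDerivedDTIsoApp_hom (k : ℕ) (M : ModuleCat.{u} R) :
    (rightDerivedDTIsoApp I k M).hom =
      ((injectiveResolution M).isoRightDerivedObj (LocCoh.idealTransform I) (k + 1)).hom ≫
        (δK I (injectiveResolution M) k).hom ≫
          GKhomologyToH I (injectiveResolution M) (k + 1 + 1) := rfl

/-- `R^{k+1}D_I ≅ H^{k+2}_I` -/
noncomputable def rightDerivedDTIso (k : ℕ) :
    (LocCoh.idealTransform I).rightDerived (k + 1) ≅ localCohomology I (k + 1 + 1) :=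
  NatIso.ofComponents (rightDerivedDTIsoApp I k)
    (by
      intro M N g
      have h1 := InjectiveResolution.isoRightDerivedObj_hom_naturality g (injectiveResolution M)
        (injectiveResolution N) (descHom (injectiveResolution M) (injectiveResolution N) g).hom
        (InjectiveResolution.desc_commutes_zero g _ _) (LocCoh.idealTransform I) (k + 1)
      have h2 := δK_naturality I (descHom (injectiveResolution M) (injectiveResolution N) g) k
      have h3 : GKhomologyToH I (injectiveResolution M) (k + 1 + 1) ≫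
          (localCohomology I (k + 1 + 1)).map g =
          HomologicalComplex.homologyMap
            (GKmap I (descHom (injectiveResolution M) (injectiveResolution N) g)) (k + 1 + 1) ≫
            GKhomologyToH I (injectiveResolution N) (k + 1 + 1) := by
        ext x
        exact GKhomologyToH_naturality I
          (descHom (injectiveResolution M) (injectiveResolution N) g) (k + 1 + 1) x
      rw [rightDerivedDTIsoApp_hom, rightDerivedDTIsoApp_hom]
      exact nat_square_aux3 _ _ _ _ _ _ _ _ _ _ h1 h2 h3)

end Groth.Agent.H58.LC
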