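import Groth.Agent.H58.LCIndep2
import Mathlib.Algebra.Module.FinitePresentation
import Mathlib.RingTheory.Flat.Basic

set_option autoImplicit false
set_option linter.unusedSectionVars false
universe u
open CategoryTheory CategoryTheory.Limits Opposite TensorProduct

namespace Groth.Agent.H58.LC
open Groth.Agent.H58 Groth.Agent.H58.ExtCompare

variable {R : Type u} [CommRing R] [IsNoetherianRing R] {R' : Type u} [CommRing R']
  [Algebra R R'] (I : Ideal R)

/-- `I → IR'` -/
def rho1 : ↥I →ₗ[R] ↥(Ideal.map (algebraMap R R') I) where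
  toFun r := ⟨algebraMap R R' r, Ideal.mem_map_of_mem _ r.2⟩
  map_add' r s := by
    apply Subtype.ext
    simp
  map_smul' c r := by
    apply Subtype.ext
    simp [Algebra.smul_def]

/-- `R' ⊗ I → IR'` -/
noncomputable def mu1 : R' ⊗[R] ↥I →ₗ[R'] ↥(Ideal.map (algebraMap R R') I) :=
  LinearMap.liftBaseChange R' (rho1 I)

theorem mu1_tmul (x : R') (r : ↥I) :
    ((mu1 (R' := R') I (x ⊗ₜ r) : ↥(Ideal.map (algebraMap R R') I)) : R') =
      x * algebraMap R R' r := by
  rw [mu1, LinearMap.liftBaseChange_tmul]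
  rfl

theorem mu1_surjective : Function.Surjective (mu1 (R' := R') I) := by
  rintro ⟨a, ha⟩
  have key : ∃ t, ((mu1 (R' := R') I t : ↥(Ideal.map (algebraMap R R') I)) : R') = a := by
    unfold Ideal.map at ha
    refine Submodule.span_induction (p := fun a _ => ∃ t,
      ((mu1 (R' := R') I t : ↥(Ideal.map (algebraMap R R') I)) : R') = a) ?_ ?_ ?_ ?_ ha
    · rintro _ ⟨r, hr, rfl⟩
      exact ⟨1 ⊗ₜ ⟨r, hr⟩, by rw [mu1_tmul, one_mul]⟩
    · exact ⟨0, by simp⟩
    · rintro a b _ _ ⟨t, rfl⟩ ⟨t', rfl⟩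
      exact ⟨t + t', by simp⟩
    · rintro c a _ ⟨t, rfl⟩
      exact ⟨c • t, by simp⟩
  obtain ⟨t, ht⟩ := key
  exact ⟨t, Subtype.ext ht⟩

variable [Module.Flat R R'] (E : Type u) [AddCommGroup E] [Module R E] [Module.Injective R E]

/-- every `R'`-linear map `R' ⊗ I → R' ⊗ E` is multiplication by an element (E injective). -/
theorem exists_smul_of_baseChange_hom (h : R' ⊗[R] ↥I →ₗ[R'] R' ⊗[R] E) :
    ∃ z : R' ⊗[R] E, ∀ t, h t =
      ((mu1 (R' := R') I t : ↥(Ideal.map (algebraMap R R') I)) : R') • z := by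
  haveI : Module.FinitePresentation R ↥I := Module.finitePresentation_of_finite R ↥I
  have hbc := Module.FinitePresentation.isBaseChange_map R ↥I E R'
  refine IsBaseChange.inductionOn hbc h
    (fun h => ∃ z : R' ⊗[R] E, ∀ t, h t =
      ((mu1 (R' := R') I t : ↥(Ideal.map (algebraMap R R') I)) : R') • z) ?_ ?_ ?_ ?_
  · exact ⟨0, fun t => by simp⟩
  · intro f
    obtain ⟨g', hg'⟩ := Module.Baer.of_injective (inferInstance : Module.Injective R E) I f
    refine ⟨1 ⊗ₜ g' 1, fun t => ?_⟩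
    induction t using TensorProduct.induction_on with
    | zero => simp
    | add a b ha hb =>
      rw [map_add, ha, hb, map_add, Submodule.coe_add, add_smul]
    | tmul x r =>
      rw [mu1_tmul]
      change x ⊗ₜ[R] f r = _
      have h1 : f r = (r : R) • g' 1 := by
        rw [← hg' r r.2, ← map_smul, smul_eq_mul, mul_one]
      rw [h1, TensorProduct.smul_tmul', smul_eq_mul, mul_one, TensorProduct.tmul_smul,
        TensorProduct.smul_tmul', Algebra.smul_def, mul_comm]
  · rintro s h ⟨z, hz⟩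
    refine ⟨s • z, fun t => ?_⟩
    rw [LinearMap.smul_apply, hz, smul_comm]
  · rintro h₁ h₂ ⟨z₁, hz₁⟩ ⟨z₂, hz₂⟩
    refine ⟨z₁ + z₂, fun t => ?_⟩
    rw [LinearMap.add_apply, hz₁, hz₂, smul_add]

theorem flip_lsmul_surjective :
    Function.Surjective (((LinearMap.lsmul R' (R' ⊗[R] E)).domRestrict
      (Ideal.map (algebraMap R R') I)).flip) := by
  intro g
  obtain ⟨z, hz⟩ := exists_smul_of_baseChange_hom I E (g ∘ₗ mu1 (R' := R') I)
  refine ⟨z, ?_⟩
  ext a
  obtain ⟨t, rfl⟩ := mu1_surjective I a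
  have := hz t
  rw [LinearMap.comp_apply] at this
  rw [this]
  rfl


theorem exists_smul_of_hom (K : Ideal R) (K' : Ideal R') (hK : K' = Ideal.map (algebraMap R R') K)
    (g : ↥K' →ₗ[R'] R' ⊗[R] E) : ∃ z : R' ⊗[R] E, ∀ a : ↥K', g a = (a : R') • z := by
  subst hK
  obtain ⟨z, hz⟩ := flip_lsmul_surjective K E g
  exact ⟨z, fun a => (LinearMap.congr_fun hz a).symm⟩

variable [IsNoetherianRing R']

theorem toDT_baseChange_surjective :
    Function.Surjective (LocCoh.toDT (Ideal.map (algebraMap R R') I) (R' ⊗[R] E)) := by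
  intro y
  obtain ⟨n, g, rfl⟩ := dt_exists_rep _ _ y
  obtain ⟨z, hz⟩ := exists_smul_of_hom E (I ^ n) _ (Ideal.map_pow _ _ _).symm g
  refine ⟨z, ?_⟩
  rw [toDT_eq_dtι _ _ n z]
  congr 1
  ext a
  rw [hz a]
  rfl

/-- `R' ⊗ E` is `Γ_{IR'}`-acyclic. -/
theorem subsingleton_H_baseChange_injective (i : ℕ) :
    Subsingleton ((localCohomology (Ideal.map (algebraMap R R') I) (i + 1)).obj
      (ModuleCat.of R' (R' ⊗[R] E))) := by
  obtain ⟨s, hs⟩ : (I : Submodule R R).FG := IsNoetherian.noetherian I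
  have hs' : Ideal.span (s : Set R) = I := hs
  let C : Set (Ideal R') := {c' | ∃ c : Ideal R, c' = Ideal.map (algebraMap R R') c}
  classical
  have := subsingleton_H_of_card (ModuleCat.of R' (R' ⊗[R] E)) C
    (by
      rintro _ ⟨c, rfl⟩ _ ⟨d, rfl⟩
      exact ⟨c ⊔ d, (Ideal.map_sup _ _ _).symm⟩)
    (by
      rintro _ ⟨c, rfl⟩ _ ⟨d, rfl⟩
      exact ⟨c * d, (Ideal.map_mul _ _ _).symm⟩)
    ⟨⊥, (Ideal.map_bot).symm⟩
    (by
      rintro _ ⟨c, rfl⟩
      exact subsingleton_H1_of_toDT_surjective _ _ (toDT_baseChange_surjective c E))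
    (s.image (algebraMap R R')).card (s.image (algebraMap R R')) le_rfl
    (by
      intro x hx
      obtain ⟨r, _, rfl⟩ := Finset.mem_image.mp hx
      exact ⟨Ideal.span {r}, by rw [Ideal.map_span, Set.image_singleton]⟩) i
  have h2 : Ideal.span ((s.image (algebraMap R R') : Finset R') : Set R') =
      Ideal.map (algebraMap R R') I := by
    rw [← hs', Ideal.map_span, Finset.coe_image]
  rwa [h2] at this

end Groth.Agent.H58.LC
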