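import Groth.Agent.H58.LCBS33
import Groth.Agent.H58.DTBaseChange
import Groth.Agent.H58.LCDTDerived

set_option autoImplicit false
set_option linter.unusedSectionVars false
universe u
open CategoryTheory CategoryTheory.Limits Opposite

namespace Groth.Agent.H58.LC
open Groth.Agent.H58 Groth.Agent.H58.ExtCompare

variable {R : Type u} [CommRing R] [IsNoetherianRing R]

/-- if `η_M` is surjective then `H^1_I(M) = 0`. -/
theorem subsingleton_H1_of_toDT_surjective (I : Ideal R) (M : Type u) [AddCommGroup M] [Module R M]
    (h : Function.Surjective (LocCoh.toDT I M)) :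
    Subsingleton ((localCohomology I 1).obj (ModuleCat.of R M)) := by
  have key : ∀ z : (localCohomology I 1).obj (ModuleCat.of R M), z = 0 := by
    intro z
    obtain ⟨y, rfl⟩ := ψ_surjective I M z
    obtain ⟨m, rfl⟩ := h y
    exact ψ_toDT I M m
  exact ⟨fun x y => (key x).trans (key y).symm⟩

variable {R' : Type u} [CommRing R'] [IsNoetherianRing R'] [Algebra R R']

theorem toDT_surjective_of_injective_baseChange (I : Ideal R) (E' : Type u) [AddCommGroup E']
    [Module R' E'] [Module R E'] [IsScalarTower R R' E'] [Module.Injective R' E'] :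
    Function.Surjective (LocCoh.toDT I E') := by
  intro y
  have hinj : Injective (ModuleCat.of R' E') := Module.injective_object_of_injective_module R' E'
  obtain ⟨y', rfl⟩ := (epsBCEquiv (R' := R') I E').surjective y
  obtain ⟨m, rfl⟩ := toDT_surjective_of_injective (Ideal.map (algebraMap R R') I)
    (ModuleCat.of R' E') y'
  exact ⟨m, (epsBC_toDT I E' m).symm⟩

/-- An injective `R'`-module is `Γ_I`-acyclic over `R`. -/
theorem subsingleton_H_of_injective_baseChange (I : Ideal R) (E' : Type u) [AddCommGroup E']
    [Module R' E'] [Module R E'] [IsScalarTower R R' E'] [Module.Injective R' E'] (i : ℕ) :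
    Subsingleton ((localCohomology I (i + 1)).obj (ModuleCat.of R E')) := by
  obtain ⟨s, hs⟩ : (I : Submodule R R).FG := IsNoetherian.noetherian I
  have := subsingleton_H_of_card (ModuleCat.of R E') (Set.univ : Set (Ideal R))
    (fun _ _ _ _ => Set.mem_univ _) (fun _ _ _ _ => Set.mem_univ _) (Set.mem_univ _)
    (fun c _ => subsingleton_H1_of_toDT_surjective c E'
      (toDT_surjective_of_injective_baseChange (R' := R') c E'))
    s.card s le_rfl (fun _ _ => Set.mem_univ _) i
  have hs' : Ideal.span (s : Set R) = I := hs
  rwa [hs'] at this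

end Groth.Agent.H58.LC
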