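import Groth.Agent.H58.LCTorsion
import Groth.Prelude.Def_W4bk5brsh16IT

set_option autoImplicit false
universe u
open CategoryTheory CategoryTheory.Limits Opposite localCohomology

namespace Groth.Agent.H58.LC

variable {R : Type u} [CommRing R] (I J : Ideal R)

theorem exists_pow_inf_pow_le [IsNoetherianRing R] (k : ℕ) :
    ∃ m : ℕ, I ^ m ⊓ J ^ m ≤ (I ⊓ J) ^ k := by
  obtain ⟨m, hm, h⟩ := exists_pow_inf_le I (J ^ k) k
  refine ⟨m, ?_⟩
  calc I ^ m ⊓ J ^ m ≤ I ^ m ⊓ J ^ k := inf_le_inf le_rfl (Ideal.pow_le_pow_right hm)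
    _ ≤ I ^ k * J ^ k := h
    _ = (I * J) ^ k := (mul_pow I J k).symm
    _ ≤ (I ⊓ J) ^ k := Ideal.pow_right_mono Ideal.mul_le_inf k

/-- Lifting `infPowersDiagram I J` to `SelfLERadical (I ⊓ J)`. -/
def infPowersToSelfLERadical : ℕᵒᵖ ⥤ SelfLERadical (I ⊓ J) :=
  ObjectProperty.lift _ (LocCoh.infPowersDiagram I J) fun k => by
    change _ ≤ (I ^ unop k ⊓ J ^ unop k).radical
    have h : (I ⊓ J) ^ (unop k) ≤ I ^ unop k ⊓ J ^ unop k :=
      le_inf (Ideal.pow_right_mono inf_le_left _) (Ideal.pow_right_mono inf_le_right _)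
    intro x hx
    exact ⟨unop k, h (Ideal.pow_mem_pow hx _)⟩

instance infPowers_initial [IsNoetherianRing R] :
    Functor.Initial (infPowersToSelfLERadical I J) where
  out J' := by
    apply +allowSynthFailures zigzag_isConnected
    · obtain ⟨k, hk⟩ := Ideal.exists_pow_le_of_le_radical_of_fg J'.2
        (IsNoetherian.noetherian (I ⊓ J))
      obtain ⟨m, hm⟩ := exists_pow_inf_pow_le I J k
      exact ⟨CostructuredArrow.mk
        (⟨⟨⟨hm.trans hk⟩⟩⟩ : (infPowersToSelfLERadical I J).obj (op m) ⟶ J')⟩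
    · intro j1 j2
      apply Relation.ReflTransGen.single
      rcases le_total (unop j1.left) (unop j2.left) with h | h
      · right; exact ⟨CostructuredArrow.homMk (homOfLE h).op rfl⟩
      · left; exact ⟨CostructuredArrow.homMk (homOfLE h).op rfl⟩

/-- `colim_n Ext^i(R/(I^n ∩ J^n), -) ≅ H^i_{I ∩ J}`. -/
noncomputable def infPowersIso [IsNoetherianRing R] (i : ℕ) :
    localCohomology.ofDiagram (LocCoh.infPowersDiagram I J) i ≅ localCohomology (I ⊓ J) i :=
  (HasColimit.isoOfNatIso.{0, 0, u + 1, u + 1} (Iso.refl.{u + 1, u + 1} _) ≪≫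
    localCohomology.isoOfFinal.{u, u, 0} (infPowersToSelfLERadical I J)
      (selfLERadicalDiagram.{u} (I ⊓ J)) i) ≪≫ isoSelfLERadical (I ⊓ J) i

end Groth.Agent.H58.LC
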