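import Groth.Agent.H58.LCInjRes0

set_option autoImplicit false
set_option linter.unusedSectionVars false
universe u
open CategoryTheory CategoryTheory.Limits Opposite

namespace Groth.Agent.H58.LC
open Groth.Agent.H58.ExtCompare

variable {R : Type u} [CommRing R] (I : Ideal R)
variable {M : ModuleCat.{u} R} (J : InjectiveResolution M) (i : ℕ)

/-- the complex `Γ_I(J•)` -/
noncomputable abbrev GK : CochainComplex (ModuleCat.{u} R) ℕ :=
  ((DRing.gammaI I).mapHomologicalComplex (ComplexShape.up ℕ)).obj J.cocomplex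

/-- underlying element -/
def valOf {J : InjectiveResolution M} {i : ℕ} (t : ((GK I J).X i : Type u)) : J.cocomplex.X i :=
  (t : DRing.torsionSub I (J.cocomplex.X i)).1

theorem valOf_mem (t : ((GK I J).X i : Type u)) : valOf I t ∈ DRing.torsionSub I (J.cocomplex.X i) :=
  (t : DRing.torsionSub I (J.cocomplex.X i)).2

@[simp] theorem valOf_add (t t' : ((GK I J).X i : Type u)) :
    valOf I (t + t') = valOf I t + valOf I t' := rfl
@[simp] theorem valOf_smul (r : R) (t : ((GK I J).X i : Type u)) :
    valOf I (r • t) = r • valOf I t := rfl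

theorem valOf_d (a b : ℕ) (t : ((GK I J).X a : Type u)) :
    valOf I (((GK I J).d a b).hom t) = (J.cocomplex.d a b).hom (valOf I t) := rfl

theorem valOf_injective : Function.Injective (valOf I (J := J) (i := i)) :=
  fun _ _ h => Subtype.ext h

/-- cls for a torsion cocycle, with chosen exponent -/
noncomputable def clsT (c : J.cocomplex.X i) (hc : c ∈ DRing.torsionSub I (J.cocomplex.X i))
    (hd : (J.cocomplex.d i (i + 1)).hom c = 0) : (localCohomology I i).obj M :=
  cls I J i hc.choose c hc.choose_spec hd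

theorem clsT_eq (c : J.cocomplex.X i) (hc : c ∈ DRing.torsionSub I (J.cocomplex.X i))
    (hd : (J.cocomplex.d i (i + 1)).hom c = 0) (n : ℕ) (hn : ∀ a ∈ I ^ n, a • c = 0) :
    clsT I J i c hc hd = cls I J i n c hn hd := by
  unfold clsT
  rw [← cls_restrict I J i (le_max_left hc.choose n) c hc.choose_spec hd,
    ← cls_restrict I J i (le_max_right hc.choose n) c hn hd]

theorem clsT_add (c c' : J.cocomplex.X i) (hc : c ∈ DRing.torsionSub I (J.cocomplex.X i))
    (hc' : c' ∈ DRing.torsionSub I (J.cocomplex.X i))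
    (hd : (J.cocomplex.d i (i + 1)).hom c = 0) (hd' : (J.cocomplex.d i (i + 1)).hom c' = 0) :
    clsT I J i (c + c') (Submodule.add_mem _ hc hc') (by rw [map_add, hd, hd', add_zero]) =
      clsT I J i c hc hd + clsT I J i c' hc' hd' := by
  have hcn := hc
  have hcn' := hc'
  obtain ⟨n, hn⟩ := hcn
  obtain ⟨n', hn'⟩ := hcn'
  have h1 : ∀ a ∈ I ^ (max n n'), a • c = 0 := fun a ha =>
    hn a (Ideal.pow_le_pow_right (le_max_left n n') ha)
  have h2 : ∀ a ∈ I ^ (max n n'), a • c' = 0 := fun a ha =>
    hn' a (Ideal.pow_le_pow_right (le_max_right n n') ha)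
  rw [clsT_eq I J i c _ hd _ h1, clsT_eq I J i c' _ hd' _ h2,
    clsT_eq I J i (c + c') _ _ (max n n')
      (fun a ha => by rw [smul_add, h1 a ha, h2 a ha, add_zero]), cls_add]

theorem clsT_smul (r : R) (c : J.cocomplex.X i) (hc : c ∈ DRing.torsionSub I (J.cocomplex.X i))
    (hd : (J.cocomplex.d i (i + 1)).hom c = 0) :
    clsT I J i (r • c) (Submodule.smul_mem _ r hc) (by rw [map_smul, hd, smul_zero]) =
      r • clsT I J i c hc hd := by
  have hcn := hc
  obtain ⟨n, hn⟩ := hcn
  rw [clsT_eq I J i c _ hd _ hn,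
    clsT_eq I J i (r • c) _ _ n (fun a ha => by rw [smul_comm, hn a ha, smul_zero]), cls_smul]

theorem clsT_congr {c c' : J.cocomplex.X i} (h : c = c')
    (hc : c ∈ DRing.torsionSub I (J.cocomplex.X i))
    (hd : (J.cocomplex.d i (i + 1)).hom c = 0) :
    clsT I J i c hc hd = clsT I J i c' (h ▸ hc) (h ▸ hd) := by
  subst h; rfl

theorem GK_cocycle_cond (z : ((GK I J).sc i).cycles) :
    (J.cocomplex.d i (i + 1)).hom (valOf I (((GK I J).sc i).iCycles.hom z)) = 0 := by
  have h := congrArg (fun φ => φ.hom z) ((GK I J).sc i).iCycles_g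
  have h' : (J.cocomplex.d i ((ComplexShape.up ℕ).next i)).hom
      (valOf I (((GK I J).sc i).iCycles.hom z)) = 0 := congrArg (valOf I) h
  have hn : (ComplexShape.up ℕ).next i = i + 1 := by simp
  rw [hn] at h'
  exact h'

/-- cycles of `Γ_I(J•)` → `H^i_I(M)` -/
noncomputable def GKcyclesToH : ((GK I J).sc i).cycles →ₗ[R] (localCohomology I i).obj M where
  toFun z := clsT I J i (valOf I (((GK I J).sc i).iCycles.hom z)) (valOf_mem I J i _)
    (GK_cocycle_cond I J i z)
  map_add' z w := by
    rw [← clsT_add]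
    apply clsT_congr
    rw [map_add]; rfl
  map_smul' r z := by
    rw [RingHom.id_apply, ← clsT_smul]
    apply clsT_congr
    rw [map_smul]; rfl

theorem GKcyclesToH_apply (z : ((GK I J).sc i).cycles) :
    GKcyclesToH I J i z = clsT I J i (valOf I (((GK I J).sc i).iCycles.hom z)) (valOf_mem I J i _)
      (GK_cocycle_cond I J i z) := rfl

theorem GKcyclesToH_eq_zero_iff (z : ((GK I J).sc i).cycles) :
    GKcyclesToH I J i z = 0 ↔ ((GK I J).sc i).homologyπ z = 0 := by
  rw [GKcyclesToH_apply, homologyπ_eq_zero_iff]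
  have hmem := valOf_mem I J i (((GK I J).sc i).iCycles.hom z)
  obtain ⟨n, hn⟩ := hmem
  rw [clsT_eq I J i _ _ _ n hn, cls_eq_zero_iff]
  constructor
  · rintro ⟨m, b, hb, hbc⟩
    refine ⟨(⟨b, m, hb⟩ : DRing.torsionSub I (J.cocomplex.X ((ComplexShape.up ℕ).prev i))), ?_⟩
    apply valOf_injective
    exact hbc
  · rintro ⟨y, hy⟩
    obtain ⟨m, hm⟩ := valOf_mem I J _ y
    exact ⟨m, valOf I y, hm, congrArg (valOf I) hy⟩

theorem toCycles_GKcyclesToH :
    ((GK I J).sc i).toCycles ≫ ModuleCat.ofHom (GKcyclesToH I J i) = 0 := by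
  ext y
  change GKcyclesToH I J i (((GK I J).sc i).toCycles y) = 0
  rw [GKcyclesToH_eq_zero_iff]
  exact congrArg (fun φ => φ.hom y) ((GK I J).sc i).toCycles_comp_homologyπ

/-- `H^i(Γ_I(J•)) → H^i_I(M)` -/
noncomputable def GKhomologyToH : (GK I J).homology i ⟶ (localCohomology I i).obj M :=
  ((GK I J).sc i).descHomology (ModuleCat.ofHom (GKcyclesToH I J i)) (toCycles_GKcyclesToH I J i)

theorem GKhomologyToH_π (z : ((GK I J).sc i).cycles) :
    (GKhomologyToH I J i).hom (((GK I J).sc i).homologyπ z) = GKcyclesToH I J i z := by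
  have h := ((GK I J).sc i).π_descHomology (ModuleCat.ofHom (GKcyclesToH I J i))
    (toCycles_GKcyclesToH I J i)
  exact congrArg (fun φ => φ.hom z) h

theorem GKhomologyToH_bijective : Function.Bijective (GKhomologyToH I J i).hom := by
  constructor
  · rw [injective_iff_map_eq_zero]
    intro x hx
    obtain ⟨z, rfl⟩ := homologyπ_surjective _ x
    rw [GKhomologyToH_π, GKcyclesToH_eq_zero_iff] at hx
    exact hx
  · intro x
    obtain ⟨n, c, hc, hd, rfl⟩ := exists_cls I J i x
    let t : ((GK I J).X i : Type u) := (⟨c, n, hc⟩ : DRing.torsionSub I (J.cocomplex.X i))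
    have hg : ((GK I J).sc i).g t = 0 := by
      apply valOf_injective
      have hn : (ComplexShape.up ℕ).next i = i + 1 := by simp
      change (J.cocomplex.d i ((ComplexShape.up ℕ).next i)).hom c = 0
      rw [hn]; exact hd
    obtain ⟨z, hz⟩ := exists_cycle _ _ hg
    refine ⟨((GK I J).sc i).homologyπ z, ?_⟩
    rw [GKhomologyToH_π, GKcyclesToH_apply]
    have hval : valOf I (((GK I J).sc i).iCycles.hom z) = c := by
      change valOf I (((GK I J).sc i).iCycles z) = c
      rw [hz]; rfl
    rw [clsT_congr I J i hval, clsT_eq I J i c _ _ n hc]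

section Nat
variable {M N : ModuleCat.{u} R} {J : InjectiveResolution M} {J' : InjectiveResolution N}
  {g : M ⟶ N} (φ : InjectiveResolution.Hom J J' g) (i : ℕ)

theorem hom_d_apply (c : J.cocomplex.X i) (hd : (J.cocomplex.d i (i + 1)).hom c = 0) :
    (J'.cocomplex.d i (i + 1)).hom ((φ.hom.f i).hom c) = 0 := by
  have h := congrArg (fun ψ => ψ.hom c) (φ.hom.comm i (i + 1))
  simp only [ModuleCat.hom_comp, LinearMap.comp_apply] at h
  rw [h, hd, map_zero]

theorem map_cls (n : ℕ) (c : J.cocomplex.X i) (hc : ∀ a ∈ I ^ n, a • c = 0)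
    (hd : (J.cocomplex.d i (i + 1)).hom c = 0) :
    ((localCohomology I i).map g).hom (cls I J i n c hc hd) =
      cls I J' i n ((φ.hom.f i).hom c) (fun a ha => by rw [← map_smul, hc a ha, map_zero])
        (hom_d_apply φ i c hd) := by
  unfold cls clsE
  rw [map_ι, InjectiveResolution.extMk_comp_mk₀ _ _ _ _ φ]
  exact congrArg (ι I i N n) (extMk_congr' J' i (ofTorsion_comp I c hc (φ.hom.f i)) _)

theorem map_clsT (c : J.cocomplex.X i) (hc : c ∈ DRing.torsionSub I (J.cocomplex.X i))
    (hd : (J.cocomplex.d i (i + 1)).hom c = 0) :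
    ((localCohomology I i).map g).hom (clsT I J i c hc hd) =
      clsT I J' i ((φ.hom.f i).hom c) (DRing.map_mem_torsionSub I _ hc) (hom_d_apply φ i c hd) := by
  have hcn := hc
  obtain ⟨n, hn⟩ := hcn
  rw [clsT_eq I J i c _ hd n hn, map_cls I φ i n c hn hd]
  exact (clsT_eq I J' i _ _ _ n _).symm

/-- the map `Γ_I(J•) → Γ_I(J'•)` -/
noncomputable abbrev GKmap : GK I J ⟶ GK I J' :=
  ((DRing.gammaI I).mapHomologicalComplex (ComplexShape.up ℕ)).map φ.hom

theorem valOf_GKmap (a : ℕ) (t : ((GK I J).X a : Type u)) :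
    valOf I (((GKmap I φ).f a).hom t) = (φ.hom.f a).hom (valOf I t) := rfl

theorem GKhomologyToH_naturality (x : (GK I J).homology i) :
    ((localCohomology I i).map g).hom ((GKhomologyToH I J i).hom x) =
      (GKhomologyToH I J' i).hom ((HomologicalComplex.homologyMap (GKmap I φ) i).hom x) := by
  obtain ⟨z, rfl⟩ := homologyπ_surjective _ x
  have h1 : (HomologicalComplex.homologyMap (GKmap I φ) i).hom (((GK I J).sc i).homologyπ z) =
      ((GK I J').sc i).homologyπ
        ((ShortComplex.cyclesMap ((HomologicalComplex.shortComplexFunctor _ _ i).map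
          (GKmap I φ))).hom z) :=
    congrArg (fun ψ => ψ.hom z) (ShortComplex.homologyπ_naturality
      ((HomologicalComplex.shortComplexFunctor _ _ i).map (GKmap I φ)))
  rw [h1, GKhomologyToH_π, GKhomologyToH_π, GKcyclesToH_apply, GKcyclesToH_apply, map_clsT I φ]
  apply clsT_congr
  have h2 := congrArg (fun ψ => ψ.hom z) (ShortComplex.cyclesMap_i
      ((HomologicalComplex.shortComplexFunctor _ _ i).map (GKmap I φ)))
  exact (congrArg (valOf I) h2).symm

end Nat

/-- a lift of a morphism to injective resolutions -/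
noncomputable def descHom {M N : ModuleCat.{u} R} (J : InjectiveResolution M)
    (J' : InjectiveResolution N) (g : M ⟶ N) : InjectiveResolution.Hom J J' g where
  hom := InjectiveResolution.desc g J' J
  ι_f_zero_comp_hom_f_zero := by
    have := InjectiveResolution.desc_commutes_zero g J' J
    simpa using this

theorem isIso_GKhomologyToH (M : ModuleCat.{u} R) (J : InjectiveResolution M) (i : ℕ) :
    IsIso (GKhomologyToH I J i) :=
  (ConcreteCategory.isIso_iff_bijective _).2 (GKhomologyToH_bijective I J i)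

/-- the comparison as an iso -/
noncomputable def GKiso (M : ModuleCat.{u} R) (J : InjectiveResolution M) (i : ℕ) :
    (GK I J).homology i ≅ (localCohomology I i).obj M :=
  have := isIso_GKhomologyToH I M J i
  asIso (GKhomologyToH I J i)

theorem GKiso_hom (M : ModuleCat.{u} R) (J : InjectiveResolution M) (i : ℕ) :
    (GKiso I M J i).hom = GKhomologyToH I J i := rfl

theorem nat_square_aux {D : Type*} [Category D] {A B C A' B' C' : D} (a : A ⟶ B) (θ : B ⟶ C)
    (a' : A' ⟶ B') (θ' : B' ⟶ C') (r : A ⟶ A') (hm : B ⟶ B') (l : C ⟶ C')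
    (h1 : r ≫ a' = a ≫ hm) (h2 : θ ≫ l = hm ≫ θ') : r ≫ (a' ≫ θ') = (a ≫ θ) ≫ l := by
  rw [← Category.assoc, h1, Category.assoc, ← h2, Category.assoc]

/-- the component of `R^iΓ_I ≅ H^i_I` at `M`. -/
noncomputable def rightDerivedGammaIsoApp (i : ℕ) (M : ModuleCat.{u} R) :
    ((DRing.gammaI I).rightDerived i).obj M ≅ (localCohomology I i).obj M :=
  (injectiveResolution M).isoRightDerivedObj (DRing.gammaI I) i ≪≫
    GKiso I M (injectiveResolution M) i

theorem rightDerivedGammaIsoApp_hom (i : ℕ) (M : ModuleCat.{u} R) :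
    (rightDerivedGammaIsoApp I i M).hom =
      ((injectiveResolution M).isoRightDerivedObj (DRing.gammaI I) i).hom ≫
        GKhomologyToH I (injectiveResolution M) i := rfl

/-- `R^iΓ_I ≅ H^i_I` -/
noncomputable def rightDerivedGammaIso (i : ℕ) :
    (DRing.gammaI I).rightDerived i ≅ localCohomology I i :=
  NatIso.ofComponents (rightDerivedGammaIsoApp I i)
    (by
      intro M N g
      have h1 := InjectiveResolution.isoRightDerivedObj_hom_naturality g (injectiveResolution M)
        (injectiveResolution N) (descHom (injectiveResolution M) (injectiveResolution N) g).hom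
        (InjectiveResolution.desc_commutes_zero g _ _) (DRing.gammaI I) i
      have h2 : GKhomologyToH I (injectiveResolution M) i ≫ (localCohomology I i).map g =
          HomologicalComplex.homologyMap
            (GKmap I (descHom (injectiveResolution M) (injectiveResolution N) g)) i ≫
            GKhomologyToH I (injectiveResolution N) i := by
        ext x
        exact GKhomologyToH_naturality I
          (descHom (injectiveResolution M) (injectiveResolution N) g) i x
      rw [rightDerivedGammaIsoApp_hom, rightDerivedGammaIsoApp_hom]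
      exact nat_square_aux _ _ _ _ _ _ _ h1 h2)

end Groth.Agent.H58.LC
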