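import Groth.Agent.H58.LCTorsion2
import Groth.Agent.H58.LCDepth
import Groth.Agent.H58.ExtInj

set_option autoImplicit false
set_option linter.unusedSectionVars false
universe u
open CategoryTheory CategoryTheory.Limits Opposite

namespace Groth.Agent.H58.LC

variable {R : Type u} [CommRing R] (I : Ideal R)

section OfTorsion
variable {M N : ModuleCat.{u} R}

theorem hom_ext_Q {n : ℕ} {f g : Q I n ⟶ M}
    (h : f.hom (Submodule.Quotient.mk 1) = g.hom (Submodule.Quotient.mk 1)) : f = g := by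
  apply ModuleCat.hom_ext
  apply LinearMap.ext
  intro x
  obtain ⟨r, rfl⟩ := Submodule.Quotient.mk_surjective _ x
  have : (Submodule.Quotient.mk r : R ⧸ I ^ n) = r • Submodule.Quotient.mk 1 := by
    rw [← Submodule.Quotient.mk_smul, smul_eq_mul, mul_one]
  rw [this, map_smul, map_smul, h]

theorem smul_eq_zero_of_hom {n : ℕ} (f : Q I n ⟶ M) (a : R) (ha : a ∈ I ^ n) :
    a • f.hom (Submodule.Quotient.mk 1) = 0 := by
  rw [← map_smul, ← Submodule.Quotient.mk_smul, smul_eq_mul, mul_one,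
    (Submodule.Quotient.mk_eq_zero _).2 ha, map_zero]

theorem eq_ofTorsion {n : ℕ} (f : Q I n ⟶ M) :
    f = ofTorsion I M n (f.hom (Submodule.Quotient.mk 1)) (smul_eq_zero_of_hom I f) := by
  apply hom_ext_Q
  rw [ofTorsion_one]

theorem ofTorsion_comp {n : ℕ} (c : M) (hc : ∀ a ∈ I ^ n, a • c = 0) (φ : M ⟶ N) :
    ofTorsion I M n c hc ≫ φ = ofTorsion I N n (φ.hom c) (fun a ha => by
      rw [← map_smul, hc a ha, map_zero]) := by
  apply hom_ext_Q
  rw [ofTorsion_one, ModuleCat.hom_comp, LinearMap.comp_apply, ofTorsion_one]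

theorem Qmap_ofTorsion {n m : ℕ} (h : n ≤ m) (c : M) (hc : ∀ a ∈ I ^ n, a • c = 0) :
    Qmap I h ≫ ofTorsion I M n c hc = ofTorsion I M m c (fun a ha =>
      hc a (Ideal.pow_le_pow_right h ha)) := by
  apply hom_ext_Q
  rw [ofTorsion_one, ModuleCat.hom_comp, LinearMap.comp_apply]
  exact ofTorsion_one I M n c hc

theorem ofTorsion_zero {n : ℕ} : ofTorsion I M n 0 (fun a _ => smul_zero a) = 0 := by
  apply hom_ext_Q
  rw [ofTorsion_one]
  rfl

theorem ofTorsion_add {n : ℕ} (c c' : M) (hc : ∀ a ∈ I ^ n, a • c = 0)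
    (hc' : ∀ a ∈ I ^ n, a • c' = 0) :
    ofTorsion I M n (c + c') (fun a ha => by rw [smul_add, hc a ha, hc' a ha, add_zero]) =
      ofTorsion I M n c hc + ofTorsion I M n c' hc' := by
  apply hom_ext_Q
  rw [ofTorsion_one, ModuleCat.hom_add, LinearMap.add_apply, ofTorsion_one, ofTorsion_one]

theorem ofTorsion_smul {n : ℕ} (r : R) (c : M) (hc : ∀ a ∈ I ^ n, a • c = 0) :
    ofTorsion I M n (r • c) (fun a ha => by rw [smul_comm, hc a ha, smul_zero]) =
      r • ofTorsion I M n c hc := by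
  apply hom_ext_Q
  rw [ofTorsion_one, ModuleCat.hom_smul, LinearMap.smul_apply, ofTorsion_one]

theorem ofTorsion_congr {n : ℕ} {c c' : M} (h : c = c') (hc : ∀ a ∈ I ^ n, a • c = 0) :
    ofTorsion I M n c hc = ofTorsion I M n c' (h ▸ hc) := by
  subst h; rfl

end OfTorsion

end Groth.Agent.H58.LC

namespace Groth.Agent.H58.LC

variable {R : Type u} [CommRing R] (I : Ideal R)
variable {M : ModuleCat.{u} R} (J : InjectiveResolution M) (i : ℕ)

theorem extMk_congr' {X : ModuleCat.{u} R} {f g : X ⟶ J.cocomplex.X i} (h : f = g)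
    (hf : f ≫ J.cocomplex.d i (i + 1) = 0) :
    J.extMk f (i + 1) rfl hf = J.extMk g (i + 1) rfl (h ▸ hf) := by
  subst h; rfl

theorem smul_extMk' {X : ModuleCat.{u} R} (r : R) (f : X ⟶ J.cocomplex.X i)
    (hf : f ≫ J.cocomplex.d i (i + 1) = 0) :
    r • J.extMk f (i + 1) rfl hf = J.extMk (r • f) (i + 1) rfl (by simp [hf]) := by
  rw [smul_eq_mk₀_comp, J.mk₀_comp_extMk]
  apply extMk_congr'
  simp

theorem ofTorsion_d_eq_zero (n : ℕ) (c : J.cocomplex.X i) (hc : ∀ a ∈ I ^ n, a • c = 0)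
    (hd : (J.cocomplex.d i (i + 1)).hom c = 0) :
    ofTorsion I _ n c hc ≫ J.cocomplex.d i (i + 1) = 0 := by
  rw [ofTorsion_comp, ofTorsion_congr I hd, ofTorsion_zero]

/-- the Ext class of a cocycle `c ∈ J^i` killed by `I^n`. -/
noncomputable def clsE (n : ℕ) (c : J.cocomplex.X i) (hc : ∀ a ∈ I ^ n, a • c = 0)
    (hd : (J.cocomplex.d i (i + 1)).hom c = 0) : Abelian.Ext (Q I n) M i :=
  J.extMk (ofTorsion I _ n c hc) (i + 1) rfl (ofTorsion_d_eq_zero I J i n c hc hd)

theorem clsE_restrict {n m : ℕ} (h : n ≤ m) (c : J.cocomplex.X i) (hc : ∀ a ∈ I ^ n, a • c = 0)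
    (hd : (J.cocomplex.d i (i + 1)).hom c = 0) :
    (Abelian.Ext.mk₀ (Qmap I h)).comp (clsE I J i n c hc hd) (zero_add i) =
      clsE I J i m c (fun a ha => hc a (Ideal.pow_le_pow_right h ha)) hd := by
  unfold clsE
  refine (J.mk₀_comp_extMk _ _ _ _ _).trans ?_
  apply extMk_congr'
  rw [Qmap_ofTorsion]

theorem clsE_add (n : ℕ) (c c' : J.cocomplex.X i) (hc : ∀ a ∈ I ^ n, a • c = 0)
    (hc' : ∀ a ∈ I ^ n, a • c' = 0) (hd : (J.cocomplex.d i (i + 1)).hom c = 0)
    (hd' : (J.cocomplex.d i (i + 1)).hom c' = 0) :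
    clsE I J i n (c + c') (fun a ha => by rw [smul_add, hc a ha, hc' a ha, add_zero])
        (by rw [map_add, hd, hd', add_zero]) =
      clsE I J i n c hc hd + clsE I J i n c' hc' hd' := by
  unfold clsE
  refine Eq.trans ?_ (J.add_extMk _ _ _ _ _ _).symm
  apply extMk_congr'
  rw [ofTorsion_add]

theorem clsE_smul (n : ℕ) (r : R) (c : J.cocomplex.X i) (hc : ∀ a ∈ I ^ n, a • c = 0)
    (hd : (J.cocomplex.d i (i + 1)).hom c = 0) :
    clsE I J i n (r • c) (fun a ha => by rw [smul_comm, hc a ha, smul_zero])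
        (by rw [map_smul, hd, smul_zero]) = r • clsE I J i n c hc hd := by
  unfold clsE
  refine Eq.trans ?_ (smul_extMk' J i r _ _).symm
  apply extMk_congr'
  rw [ofTorsion_smul]

theorem clsE_congr (n : ℕ) {c c' : J.cocomplex.X i} (h : c = c') (hc : ∀ a ∈ I ^ n, a • c = 0)
    (hd : (J.cocomplex.d i (i + 1)).hom c = 0) :
    clsE I J i n c hc hd = clsE I J i n c' (h ▸ hc) (h ▸ hd) := by
  subst h; rfl

/-- the class in `H^i_I(M)` of a cocycle `c ∈ J^i` killed by `I^n`. -/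
noncomputable def cls (n : ℕ) (c : J.cocomplex.X i) (hc : ∀ a ∈ I ^ n, a • c = 0)
    (hd : (J.cocomplex.d i (i + 1)).hom c = 0) : (localCohomology I i).obj M :=
  ι I i M n (clsE I J i n c hc hd)

theorem cls_restrict {n m : ℕ} (h : n ≤ m) (c : J.cocomplex.X i) (hc : ∀ a ∈ I ^ n, a • c = 0)
    (hd : (J.cocomplex.d i (i + 1)).hom c = 0) :
    cls I J i m c (fun a ha => hc a (Ideal.pow_le_pow_right h ha)) hd = cls I J i n c hc hd := by
  unfold cls
  rw [← ι_restrict I i M h, clsE_restrict]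

theorem cls_add (n : ℕ) (c c' : J.cocomplex.X i) (hc : ∀ a ∈ I ^ n, a • c = 0)
    (hc' : ∀ a ∈ I ^ n, a • c' = 0) (hd : (J.cocomplex.d i (i + 1)).hom c = 0)
    (hd' : (J.cocomplex.d i (i + 1)).hom c' = 0) :
    cls I J i n (c + c') (fun a ha => by rw [smul_add, hc a ha, hc' a ha, add_zero])
        (by rw [map_add, hd, hd', add_zero]) =
      cls I J i n c hc hd + cls I J i n c' hc' hd' := by
  unfold cls
  rw [clsE_add I J i n c c' hc hc' hd hd', map_add]

theorem cls_smul (n : ℕ) (r : R) (c : J.cocomplex.X i) (hc : ∀ a ∈ I ^ n, a • c = 0)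
    (hd : (J.cocomplex.d i (i + 1)).hom c = 0) :
    cls I J i n (r • c) (fun a ha => by rw [smul_comm, hc a ha, smul_zero])
        (by rw [map_smul, hd, smul_zero]) = r • cls I J i n c hc hd := by
  unfold cls
  rw [clsE_smul I J i n r c hc hd, map_smul]

theorem cls_congr (n : ℕ) {c c' : J.cocomplex.X i} (h : c = c') (hc : ∀ a ∈ I ^ n, a • c = 0)
    (hd : (J.cocomplex.d i (i + 1)).hom c = 0) :
    cls I J i n c hc hd = cls I J i n c' (h ▸ hc) (h ▸ hd) := by
  subst h; rfl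

/-- every class is a `cls` -/
theorem exists_cls (x : (localCohomology I i).obj M) :
    ∃ (n : ℕ) (c : J.cocomplex.X i) (hc : ∀ a ∈ I ^ n, a • c = 0)
      (hd : (J.cocomplex.d i (i + 1)).hom c = 0), cls I J i n c hc hd = x := by
  obtain ⟨n, e, rfl⟩ := exists_rep I i M x
  obtain ⟨f, hf, rfl⟩ := J.extMk_surjective e (i + 1) rfl
  refine ⟨n, f.hom (Submodule.Quotient.mk 1), smul_eq_zero_of_hom I f, ?_, ?_⟩
  · have := congrArg (fun φ => φ.hom (Submodule.Quotient.mk 1)) hf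
    exact this
  · unfold cls clsE
    exact congrArg (ι I i M n) (extMk_congr' J i (eq_ofTorsion I f).symm _)

open Groth.Agent.H58.ExtCompare in
theorem cls_eq_zero_iff (n : ℕ) (c : J.cocomplex.X i) (hc : ∀ a ∈ I ^ n, a • c = 0)
    (hd : (J.cocomplex.d i (i + 1)).hom c = 0) :
    cls I J i n c hc hd = 0 ↔
      ∃ (m : ℕ) (b : J.cocomplex.X ((ComplexShape.up ℕ).prev i)), (∀ a ∈ I ^ m, a • b = 0) ∧
        (J.cocomplex.d ((ComplexShape.up ℕ).prev i) i).hom b = c := by
  unfold cls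
  rw [ι_eq_zero_iff]
  constructor
  · rintro ⟨m, h, hm⟩
    rw [clsE_restrict] at hm
    unfold clsE at hm
    rw [inj_extMk_eq_zero_iff'] at hm
    obtain ⟨g, hg⟩ := hm
    refine ⟨m, g.hom (Submodule.Quotient.mk 1), smul_eq_zero_of_hom I g, ?_⟩
    have := congrArg (fun φ => φ.hom (Submodule.Quotient.mk 1)) hg
    simp only [ModuleCat.hom_comp, LinearMap.comp_apply] at this
    rw [this, ofTorsion_one]
  · rintro ⟨m, b, hb, rfl⟩
    refine ⟨max n m, le_max_left n m, ?_⟩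
    rw [clsE_restrict]
    unfold clsE
    rw [inj_extMk_eq_zero_iff']
    refine ⟨ofTorsion I _ (max n m) b (fun a ha => hb a (Ideal.pow_le_pow_right (le_max_right n m) ha)), ?_⟩
    rw [ofTorsion_comp]

end Groth.Agent.H58.LC
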