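import Groth.Agent.H58.LCFaltings

/-!
# Finiteness of local cohomology for modules that are locally free away from `V(I)`
-/
set_option autoImplicit false
set_option linter.unusedSectionVars false
universe u
open CategoryTheory CategoryTheory.Limits Opposite

namespace Groth.Agent.H58.LC
open Groth.Agent.H58

variable {R : Type u} [CommRing R] [IsNoetherianRing R]

/-- If `M_f` is projective over `R_f`, multiplication by a power of `f` on `M` factors through a
finite free module. -/
theorem exists_factor_pow (f : R) (M : Type u) [AddCommGroup M] [Module R M] [Module.Finite R M]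
    (hM : Module.Projective (Localization.Away f) (LocalizedModule (Submonoid.powers f) M)) :
    ∃ (r K : ℕ) (α : M →ₗ[R] (Fin r → R)) (β : (Fin r → R) →ₗ[R] M),
      β ∘ₗ α = f ^ K • LinearMap.id := by
  obtain ⟨r, π, hπ⟩ := Module.Finite.exists_fin' R M
  have hfp : Module.FinitePresentation R M := Module.finitePresentation_of_finite R M
  have hsurj := LocalizedModule.map_surjective (Submonoid.powers f) π hπ
  obtain ⟨σ, hσ⟩ := Module.projective_lifting_property
    (LocalizedModule.map (Submonoid.powers f) π) LinearMap.id hsurj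
  -- the `R`-linear map `M → (R^r)_f`
  let g : M →ₗ[R] LocalizedModule (Submonoid.powers f) (Fin r → R) :=
    (σ.restrictScalars R) ∘ₗ LocalizedModule.mkLinearMap (Submonoid.powers f) M
  obtain ⟨α, s, hα⟩ := Module.FinitePresentation.exists_lift_of_isLocalizedModule
    (Submonoid.powers f) (LocalizedModule.mkLinearMap (Submonoid.powers f) (Fin r → R)) g
  have hcomp : LocalizedModule.mkLinearMap (Submonoid.powers f) M ∘ₗ (π ∘ₗ α) =
      LocalizedModule.mkLinearMap (Submonoid.powers f) M ∘ₗ
        ((s : R) • (LinearMap.id : M →ₗ[R] M)) := by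
    ext m
    have h1 := LinearMap.congr_fun hα m
    simp only [LinearMap.coe_comp, Function.comp_apply, LinearMap.smul_apply,
      LocalizedModule.mkLinearMap_apply] at h1
    simp only [LinearMap.coe_comp, Function.comp_apply, LinearMap.smul_apply, LinearMap.id_coe,
      id_eq, LocalizedModule.mkLinearMap_apply]
    have h2 : LocalizedModule.map (Submonoid.powers f) π (LocalizedModule.mk (α m) 1) =
        LocalizedModule.mk (π (α m)) 1 := LocalizedModule.map_mk _ _ _ _
    rw [← h2, h1]
    have h3 : g m = σ (LocalizedModule.mk m 1) := rfl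
    rw [h3, Submonoid.smul_def]
    have h4 := LinearMap.congr_fun hσ (LocalizedModule.mk m 1)
    simp only [LinearMap.coe_comp, Function.comp_apply, LinearMap.id_coe, id_eq] at h4
    have h6 : LocalizedModule.map (Submonoid.powers f) π
        ((s : R) • σ (LocalizedModule.mk m 1)) =
        (s : R) • LocalizedModule.map (Submonoid.powers f) π (σ (LocalizedModule.mk m 1)) :=
      ((LocalizedModule.map (Submonoid.powers f) π).restrictScalars R).map_smul (s : R) _
    rw [h6, h4, LocalizedModule.smul'_mk]
  obtain ⟨t, ht⟩ := Module.Finite.exists_smul_of_comp_eq_of_isLocalizedModule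
    (Submonoid.powers f) (LocalizedModule.mkLinearMap (Submonoid.powers f) M) _ _ hcomp
  obtain ⟨K, hK⟩ : ∃ K : ℕ, ((t * s : Submonoid.powers f) : R) = f ^ K := by
    obtain ⟨K, hK⟩ := (t * s).2
    exact ⟨K, hK.symm⟩
  refine ⟨r, K, α, (t : R) • π, ?_⟩
  rw [← hK]
  ext m
  have h5 := LinearMap.congr_fun ht m
  simp only [LinearMap.smul_apply, LinearMap.coe_comp, Function.comp_apply, LinearMap.id_coe,
    id_eq, Submonoid.smul_def] at h5
  simp only [LinearMap.coe_comp, Function.comp_apply, LinearMap.smul_apply, LinearMap.id_coe,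
    id_eq, Submonoid.coe_mul, mul_smul]
  exact h5

variable (I : Ideal R)

theorem radKills_H_prod (b : Ideal R) (M N : Type u) [AddCommGroup M] [Module R M]
    [AddCommGroup N] [Module R N] (i : ℕ) (hM : RadKills b (LocCoh.H I i M))
    (hN : RadKills b (LocCoh.H I i N)) : RadKills b (LocCoh.H I i (M × N)) := by
  have hex : Function.Exact (LinearMap.inl R M N) (LinearMap.snd R M N) := by
    intro x
    constructor
    · intro hx
      exact ⟨x.1, Prod.ext rfl (by simpa using hx.symm)⟩
    · rintro ⟨y, rfl⟩
      simp
  have hS := shortExact_of (LinearMap.inl R M N) (LinearMap.snd R M N)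
    LinearMap.inl_injective LinearMap.snd_surjective hex
  exact radKills_of_exact _ _ (fun x hx => exact₂ I i hS x hx) hM hN

theorem radKills_H_pi_fin (b : Ideal R) (i : ℕ) (h : RadKills b (LocCoh.H I i R)) :
    ∀ k : ℕ, RadKills b (LocCoh.H I i (Fin k → R))
  | 0 => by
    have := subsingleton_H_of_subsingleton I (ModuleCat.of R (Fin 0 → R)) i
    exact radKills_of_subsingleton _ _
  | k + 1 => by
    have h1 := radKills_H_prod I b R (Fin k → R) i h (radKills_H_pi_fin b i h k)
    let e := ((localCohomology I i).mapIso
      (Fin.consLinearEquiv R (fun _ : Fin (k + 1) => R)).toModuleIso).toLinearEquiv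
    exact radKills_of_surjective e.toLinearMap e.surjective h1

theorem finite_H_of_locally_projective (n : ℕ)
    (hR : ∀ i : ℕ, i ≤ n → Module.Finite R (LocCoh.H I i R))
    (M : Type u) [AddCommGroup M] [Module R M] [Module.Finite R M]
    (hM : ∀ f ∈ I, Module.Projective (Localization.Away f)
      (LocalizedModule (Submonoid.powers f) M)) (i : ℕ) (hi : i ≤ n) :
    Module.Finite R (LocCoh.H I i M) := by
  obtain ⟨J, hJ, hkill⟩ := (faltings_iff I R n).1 hR
  have hradR : ∀ j : ℕ, j ≤ n → RadKills I (LocCoh.H I j R) := by
    intro j hj r hr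
    obtain ⟨k, hk⟩ := hJ hr
    exact ⟨k, fun x => hkill j hj _ hk x⟩
  apply finite_H_of_radKills I n M _ i hi
  intro j hj f hf
  obtain ⟨r, K, α, β, hβα⟩ := exists_factor_pow f M (hM f hf)
  obtain ⟨k, hk⟩ := radKills_H_pi_fin I I j (hradR j hj) r f hf
  refine ⟨k + K, fun x => ?_⟩
  have h1 : f ^ K • x = ((localCohomology I j).map (ModuleCat.ofHom β)).hom
      (((localCohomology I j).map (ModuleCat.ofHom α)).hom x) := by
    have h2 : ModuleCat.ofHom α ≫ ModuleCat.ofHom β = f ^ K • 𝟙 (ModuleCat.of R M) := by
      apply ModuleCat.hom_ext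
      exact hβα
    have h3 : ((localCohomology I j).map (ModuleCat.ofHom α ≫ ModuleCat.ofHom β)).hom x =
        f ^ K • x := by
      rw [h2, map_smul', CategoryTheory.Functor.map_id]; rfl
    rw [← h3, (localCohomology I j).map_comp]
    rfl
  rw [pow_add, mul_smul, h1, ← map_smul, hk, map_zero]

end Groth.Agent.H58.LC
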