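import Groth.Agent.H58.LCDTDerived
import Groth.Agent.H58.LCMV4
import Groth.Agent.H58.DT4

/-!
# The sequence `H^i_{a+Rb}(M) → H^i_a(M) → D_b(H^i_a(M)) → H^{i+1}_{a+Rb}(M)`
-/
set_option autoImplicit false
set_option linter.unusedSectionVars false
universe u
open CategoryTheory CategoryTheory.Limits Opposite

namespace Groth.Agent.H58.LC
open Groth.Agent.H58 Groth.Agent.H58.ExtCompare

variable {R : Type u} [CommRing R]

theorem homologyMap_smul_id (K : CochainComplex (ModuleCat.{u} R) ℕ) (r : R) (i : ℕ) :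
    HomologicalComplex.homologyMap (r • 𝟙 K) i = r • 𝟙 (K.homology i) := by
  have h1 : (HomologicalComplex.shortComplexFunctor (ModuleCat.{u} R) (ComplexShape.up ℕ) i).map
      (r • 𝟙 K) = r • 𝟙 _ := by
    ext <;> simp <;> rfl
  unfold HomologicalComplex.homologyMap
  rw [h1, ShortComplex.homologyMap_smul, ShortComplex.homologyMap_id]
  rfl

theorem smul_bijective_homology (K : CochainComplex (ModuleCat.{u} R) ℕ) (r : R)
    (h : ∀ n, Function.Bijective (fun x : K.X n => r • x)) (i : ℕ) :
    Function.Bijective (fun x : K.homology i => r • x) := by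
  have h1 : ∀ n, IsIso ((r • 𝟙 K : K ⟶ K).f n) := by
    intro n
    rw [ConcreteCategory.isIso_iff_bijective]
    exact h n
  have h2 : IsIso (r • 𝟙 K : K ⟶ K) := HomologicalComplex.Hom.isIso_of_components _
  have h3 : IsIso (HomologicalComplex.homologyMap (r • 𝟙 K) i) := inferInstance
  rw [homologyMap_smul_id] at h3
  rw [ConcreteCategory.isIso_iff_bijective] at h3
  exact h3

variable [IsNoetherianRing R] (a : Ideal R) (b : R)

/-- `b` acts bijectively on `D_{(b)}(N)` -/
theorem smul_bijective_DT (N : Type u) [AddCommGroup N] [Module R N] :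
    Function.Bijective (fun x : LocCoh.DT (Ideal.span {b}) N => b • x) := by
  have h := smul_pow_bijective_localizedModule b N 1
  have : (fun x : LocCoh.DT (Ideal.span {b}) N => b • x) =
      (dtPrincipalEquiv b N).symm ∘ (fun y => b ^ 1 • y) ∘ (dtPrincipalEquiv b N) := by
    funext x
    simp only [Function.comp_apply, pow_one]
    rw [← map_smul, LinearEquiv.symm_apply_apply]
  rw [this]
  exact (dtPrincipalEquiv b N).symm.bijective.comp (h.comp (dtPrincipalEquiv b N).bijective)

theorem mem_torsionSub_gamma_iff (E : Type u) [AddCommGroup E] [Module R E]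
    (y : DRing.torsionSub a E) :
    y ∈ DRing.torsionSub (Ideal.span {b}) (DRing.torsionSub a E) ↔
      (y : E) ∈ DRing.torsionSub (a ⊔ Ideal.span {b}) E := by
  constructor
  · rintro ⟨n, hn⟩
    refine mem_torsionSub_sup a (Ideal.span {b}) _ y.2 ⟨n, fun r hr => ?_⟩
    have := congrArg Subtype.val (hn r hr)
    exact this
  · intro h
    obtain ⟨n, hn⟩ := torsionSub_mono (le_sup_right : Ideal.span {b} ≤ a ⊔ Ideal.span {b}) h
    exact ⟨n, fun r hr => Subtype.ext (hn r hr)⟩

variable {M : ModuleCat.{u} R} (J : InjectiveResolution M)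

/-- the complex `D_b(Γ_a(J•))` -/
noncomputable abbrev DGK : CochainComplex (ModuleCat.{u} R) ℕ :=
  ((LocCoh.idealTransform (Ideal.span {b})).mapHomologicalComplex (ComplexShape.up ℕ)).obj (GK a J)

/-- `Γ_a(J•) → D_b(Γ_a(J•))` -/
noncomputable def toDGK : GK a J ⟶ DGK a b J where
  f i := (ηD (Ideal.span {b})).app ((GK a J).X i)
  comm' i j _ := ((ηD (Ideal.span {b})).naturality ((GK a J).d i j)).symm

/-- an element of `Γ_a(J^i)` as an element of the submodule -/
def subOf {i : ℕ} (x : (GK a J).X i) : ↥(DRing.torsionSub a (J.cocomplex.X i)) := x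

theorem toDGK_f_apply (i : ℕ) (x : (GK a J).X i) :
    ((toDGK a b J).f i).hom x =
      LocCoh.toDT (Ideal.span {b}) (DRing.torsionSub a (J.cocomplex.X i)) (subOf a J x) := rfl

theorem toDGK_eq_zero_iff (i : ℕ) (x : (GK a J).X i) :
    ((toDGK a b J).f i).hom x = 0 ↔
      valOf a x ∈ DRing.torsionSub (a ⊔ Ideal.span {b}) (J.cocomplex.X i) := by
  have key : LocCoh.toDT (Ideal.span {b}) (DRing.torsionSub a (J.cocomplex.X i)) (subOf a J x) = 0 ↔
      valOf a x ∈ DRing.torsionSub (a ⊔ Ideal.span {b}) (J.cocomplex.X i) := by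
    rw [← LinearMap.mem_ker, ker_toDT]
    exact mem_torsionSub_gamma_iff a b (J.cocomplex.X i) (subOf a J x)
  exact key

/-- `0 → Γ_{a+b}(J•) → Γ_a(J•) → D_b(Γ_a(J•)) → 0` -/
noncomputable def SL : ShortComplex (CochainComplex (ModuleCat.{u} R) ℕ) :=
  ShortComplex.mk (GKle (le_sup_left : a ≤ a ⊔ Ideal.span {b}) J) (toDGK a b J) (by
    ext i x
    have : ((toDGK a b J).f i).hom (((GKle (le_sup_left : a ≤ a ⊔ Ideal.span {b}) J).f i).hom x)
        = 0 := by
      rw [toDGK_eq_zero_iff, valOf_GKle]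
      exact valOf_mem _ J i x
    exact this)

theorem SL_shortExact : (SL a b J).ShortExact := by
  apply HomologicalComplex.shortExact_of_degreewise_shortExact
  intro i
  have hE : Injective (J.cocomplex.X i) := J.injective i
  have hE₀ : Module.Injective R (J.cocomplex.X i) :=
    (Module.injective_iff_injective_object R _).mpr hE
  have hG : Module.Injective R (DRing.torsionSub a (J.cocomplex.X i)) :=
    injective_torsionSub a (J.cocomplex.X i)
  have hG' : Injective ((GK a J).X i) :=
    Module.injective_object_of_injective_module R (DRing.torsionSub a (J.cocomplex.X i))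
  apply ModuleCat.shortComplex_shortExact
  · intro y
    constructor
    · intro hy
      have hy' : ((toDGK a b J).f i).hom y = 0 := hy
      rw [toDGK_eq_zero_iff] at hy'
      exact ⟨(⟨valOf a y, hy'⟩ : ↥(DRing.torsionSub (a ⊔ Ideal.span {b}) (J.cocomplex.X i))), rfl⟩
    · rintro ⟨x, rfl⟩
      have : ((toDGK a b J).f i).hom
          (((GKle (le_sup_left : a ≤ a ⊔ Ideal.span {b}) J).f i).hom x) = 0 := by
        rw [toDGK_eq_zero_iff, valOf_GKle]
        exact valOf_mem _ J i x
      exact this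
  · intro x y hxy
    apply valOf_injective _ J i
    have := congrArg (valOf a) hxy
    exact this
  · exact toDT_surjective_of_injective (Ideal.span {b}) ((GK a J).X i)


section Seq
variable (i : ℕ)

/-- `H^i(Γ_{a+b}(J•)) → H^i(Γ_a(J•))` -/
noncomputable abbrev ιL : (GK (a ⊔ Ideal.span {b}) J).homology i →ₗ[R] (GK a J).homology i :=
  (HomologicalComplex.homologyMap (GKle (le_sup_left : a ≤ a ⊔ Ideal.span {b}) J) i).hom

/-- `H^i(Γ_a(J•)) → H^i(D_b(Γ_a(J•)))` -/
noncomputable abbrev eL : (GK a J).homology i →ₗ[R] (DGK a b J).homology i :=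
  (HomologicalComplex.homologyMap (toDGK a b J) i).hom

/-- the connecting map -/
noncomputable abbrev δL : (DGK a b J).homology i →ₗ[R]
    (GK (a ⊔ Ideal.span {b}) J).homology (i + 1) :=
  ((SL_shortExact a b J).δ i (i + 1) (by simp)).hom

theorem eL_ιL (x : (GK (a ⊔ Ideal.span {b}) J).homology i) : eL a b J i (ιL a b J i x) = 0 := by
  have h : HomologicalComplex.homologyMap (GKle (le_sup_left : a ≤ a ⊔ Ideal.span {b}) J) i ≫
      HomologicalComplex.homologyMap (toDGK a b J) i = 0 := by
    rw [← HomologicalComplex.homologyMap_comp]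
    have : GKle (le_sup_left : a ≤ a ⊔ Ideal.span {b}) J ≫ toDGK a b J = 0 := (SL a b J).zero
    rw [this, HomologicalComplex.homologyMap_zero]
  exact congrArg (fun φ => φ.hom x) h

theorem exact_ιL_eL (y : (GK a J).homology i) (hy : eL a b J i y = 0) :
    ∃ x, ιL a b J i x = y :=
  (ShortComplex.moduleCat_exact_iff _).mp ((SL_shortExact a b J).homology_exact₂ i) y hy

theorem δL_eL (y : (GK a J).homology i) : δL a b J i (eL a b J i y) = 0 :=
  congrArg (fun φ => φ.hom y) ((SL_shortExact a b J).comp_δ i (i + 1) (by simp))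

theorem exact_eL_δL (z : (DGK a b J).homology i) (hz : δL a b J i z = 0) :
    ∃ y, eL a b J i y = z :=
  (ShortComplex.moduleCat_exact_iff _).mp
    ((SL_shortExact a b J).homology_exact₃ i (i + 1) (by simp)) z hz

theorem ιL_δL (z : (DGK a b J).homology i) : ιL a b J (i + 1) (δL a b J i z) = 0 :=
  congrArg (fun φ => φ.hom z) ((SL_shortExact a b J).δ_comp i (i + 1) (by simp))

theorem exact_δL_ιL (x : (GK (a ⊔ Ideal.span {b}) J).homology (i + 1))
    (hx : ιL a b J (i + 1) x = 0) : ∃ z, δL a b J i z = x :=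
  (ShortComplex.moduleCat_exact_iff _).mp
    ((SL_shortExact a b J).homology_exact₁ i (i + 1) (by simp)) x hx

/-- elements of `H^i(Γ_{a+b}(J•))` are `b`-power torsion -/
theorem isTors_homology_A (x : (GK (a ⊔ Ideal.span {b}) J).homology i) :
    ∃ n : ℕ, ∀ r ∈ (Ideal.span {b}) ^ n, r • x = 0 := by
  obtain ⟨n, hn⟩ := isTors_H (a ⊔ Ideal.span {b}) i M
    ((GKhomologyToH (a ⊔ Ideal.span {b}) J i).hom x)
  refine ⟨n, fun r hr => ?_⟩
  apply (GKhomologyToH_bijective (a ⊔ Ideal.span {b}) J i).1
  rw [map_smul, map_zero]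
  exact hn r (Ideal.pow_right_mono le_sup_right n hr)

theorem ker_eL_le : LinearMap.ker (eL a b J i) ≤
    DRing.torsionSub (Ideal.span {b}) ((GK a J).homology i) := by
  intro y hy
  obtain ⟨x, rfl⟩ := exact_ιL_eL a b J i y hy
  obtain ⟨n, hn⟩ := isTors_homology_A a b J i x
  exact ⟨n, fun r hr => by rw [← map_smul, hn r hr, map_zero]⟩

theorem isPowerTorsion_coker_eL : LocCoh.IsPowerTorsion (Ideal.span {b})
    (((DGK a b J).homology i) ⧸ LinearMap.range (eL a b J i)) := by
  intro q
  obtain ⟨z, rfl⟩ := Submodule.Quotient.mk_surjective _ q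
  obtain ⟨n, hn⟩ := isTors_homology_A a b J (i + 1) (δL a b J i z)
  refine ⟨n, fun r hr => ?_⟩
  rw [← Submodule.Quotient.mk_smul, Submodule.Quotient.mk_eq_zero]
  obtain ⟨y, hy⟩ := exact_eL_δL a b J i (r • z) (by rw [map_smul, hn r hr])
  exact ⟨y, hy⟩

theorem pow_smul_bijective {N : Type*} [AddCommGroup N] [Module R N] (r : R)
    (h : Function.Bijective (fun x : N => r • x)) (k : ℕ) :
    Function.Bijective (fun x : N => r ^ k • x) := by
  induction k with
  | zero =>
    have : (fun x : N => r ^ 0 • x) = id := by funext x; simp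
    rw [this]; exact Function.bijective_id
  | succ k ih =>
    have : (fun x : N => r ^ (k + 1) • x) = (fun x : N => r • x) ∘ (fun x : N => r ^ k • x) := by
      funext x
      simp only [Function.comp_apply, pow_succ', mul_smul]
    rw [this]
    exact h.comp ih

theorem toDT_bijective_homology_C :
    Function.Bijective (LocCoh.toDT (Ideal.span {b}) ((DGK a b J).homology i)) := by
  apply toDT_bijective_of_smul_bijective b
  apply pow_smul_bijective
  exact smul_bijective_homology (DGK a b J) b (fun n => smul_bijective_DT b _) i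

/-- the comparison `H^i(D_b(Γ_a(J•))) → D_b(H^i(Γ_a(J•)))` -/
noncomputable def ψL : (DGK a b J).homology i →ₗ[R]
    LocCoh.DT (Ideal.span {b}) ((GK a J).homology i) :=
  factorDT (Ideal.span {b}) (eL a b J i) (ker_eL_le a b J i) (isPowerTorsion_coker_eL a b J i)
    LinearMap.id

theorem ψL_eL (y : (GK a J).homology i) :
    ψL a b J i (eL a b J i y) = LocCoh.toDT (Ideal.span {b}) ((GK a J).homology i) y :=
  LinearMap.congr_fun (factorDT_comp (Ideal.span {b}) (eL a b J i) (ker_eL_le a b J i)
    (isPowerTorsion_coker_eL a b J i) LinearMap.id) y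

theorem ψL_bijective : Function.Bijective (ψL a b J i) :=
  factor_bijective (Ideal.span {b}) (eL a b J i) (ker_eL_le a b J i)
    (isPowerTorsion_coker_eL a b J i) LinearMap.id Function.bijective_id (ψL a b J i)
    (factorDT_comp (Ideal.span {b}) (eL a b J i) (ker_eL_le a b J i)
      (isPowerTorsion_coker_eL a b J i) LinearMap.id)
    (toDT_bijective_homology_C a b J i)

include J in
/-- the image of the comparison map is the `b`-power torsion -/
theorem mem_range_HmapOfLE_iff (x : (localCohomology a i).obj M) :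
    x ∈ LinearMap.range
      ((Dual2.HmapOfLE (le_sup_left : a ≤ a ⊔ Ideal.span {b}) i).app M).hom ↔
      ∃ n : ℕ, b ^ n • x = 0 := by
  obtain ⟨y, rfl⟩ := (GKhomologyToH_bijective a J i).2 x
  constructor
  · rintro ⟨w, hw⟩
    obtain ⟨x', rfl⟩ := (GKhomologyToH_bijective (a ⊔ Ideal.span {b}) J i).2 w
    rw [GKhomologyToH_GKle] at hw
    have hy : ιL a b J i x' = y := (GKhomologyToH_bijective a J i).1 hw
    obtain ⟨n, hn⟩ := isTors_homology_A a b J i x'
    refine ⟨n, ?_⟩
    rw [← hy, ← map_smul, ← map_smul,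
      hn (b ^ n) (Ideal.pow_mem_pow (Ideal.mem_span_singleton_self b) n), map_zero, map_zero]
  · rintro ⟨n, hn⟩
    have h1 : b ^ n • y = 0 :=
      (GKhomologyToH_bijective a J i).1 (by rw [map_smul, hn, map_zero])
    have h2 : LocCoh.toDT (Ideal.span {b}) ((GK a J).homology i) y = 0 := by
      rw [← LinearMap.mem_ker, ker_toDT]
      refine ⟨n, fun r hr => ?_⟩
      obtain ⟨c, rfl⟩ := (mem_span_singleton_pow b).mp hr
      rw [mul_smul, h1, smul_zero]
    have h3 : eL a b J i y = 0 :=
      (ψL_bijective a b J i).1 (by rw [ψL_eL, h2, map_zero])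
    obtain ⟨x', hx'⟩ := exact_ιL_eL a b J i y h3
    exact ⟨(GKhomologyToH _ J i).hom x', by rw [GKhomologyToH_GKle]; exact congrArg _ hx'⟩

/-- `θ_A` as a linear equivalence -/
noncomputable def θA : (GK (a ⊔ Ideal.span {b}) J).homology i ≃ₗ[R]
    (localCohomology (a ⊔ Ideal.span {b}) i).obj M :=
  LinearEquiv.ofBijective (GKhomologyToH (a ⊔ Ideal.span {b}) J i).hom
    (GKhomologyToH_bijective (a ⊔ Ideal.span {b}) J i)

/-- `θ_B` as a linear equivalence -/
noncomputable def θB : (GK a J).homology i ≃ₗ[R] (localCohomology a i).obj M :=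
  LinearEquiv.ofBijective (GKhomologyToH a J i).hom (GKhomologyToH_bijective a J i)

theorem map_ker_ιL : (LinearMap.ker (ιL a b J i)).map (θA a b J i).toLinearMap =
    LinearMap.ker ((Dual2.HmapOfLE (le_sup_left : a ≤ a ⊔ Ideal.span {b}) i).app M).hom := by
  ext w
  constructor
  · rintro ⟨x, hx, rfl⟩
    rw [LinearMap.mem_ker]
    have := GKhomologyToH_GKle (le_sup_left : a ≤ a ⊔ Ideal.span {b}) J i x
    change ((Dual2.HmapOfLE (le_sup_left : a ≤ a ⊔ Ideal.span {b}) i).app M).hom
      ((GKhomologyToH (a ⊔ Ideal.span {b}) J i).hom x) = 0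
    rw [this]
    have hx' : ιL a b J i x = 0 := hx
    rw [hx', map_zero]
  · intro hw
    obtain ⟨x, rfl⟩ := (θA a b J i).surjective w
    refine ⟨x, ?_, rfl⟩
    change ιL a b J i x = 0
    apply (GKhomologyToH_bijective a J i).1
    rw [← GKhomologyToH_GKle, map_zero]
    exact hw

theorem ker_ιL_succ : LinearMap.ker (ιL a b J (i + 1)) = LinearMap.range (δL a b J i) := by
  ext x
  constructor
  · intro hx
    exact exact_δL_ιL a b J i x hx
  · rintro ⟨z, rfl⟩
    exact ιL_δL a b J i z

theorem ker_δL : LinearMap.ker (δL a b J i) = LinearMap.range (eL a b J i) := by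
  ext z
  constructor
  · intro hz
    exact exact_eL_δL a b J i z hz
  · rintro ⟨y, rfl⟩
    exact δL_eL a b J i y

theorem map_range_eL :
    (LinearMap.range (eL a b J i)).map
      (LinearEquiv.ofBijective (ψL a b J i) (ψL_bijective a b J i)).toLinearMap =
    LinearMap.range (LocCoh.toDT (Ideal.span {b}) ((GK a J).homology i)) := by
  ext w
  constructor
  · rintro ⟨_, ⟨y, rfl⟩, rfl⟩
    exact ⟨y, (ψL_eL a b J i y).symm⟩
  · rintro ⟨y, rfl⟩
    exact ⟨eL a b J i y, ⟨y, rfl⟩, ψL_eL a b J i y⟩

/-- the kernel of the comparison map in degree `i+1` is `H^1_b(H^i_a(M))`. -/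
noncomputable def kerHmapEquiv :
    LinearMap.ker ((Dual2.HmapOfLE (le_sup_left : a ≤ a ⊔ Ideal.span {b}) (i + 1)).app M).hom
      ≃ₗ[R] (localCohomology (Ideal.span {b}) 1).obj
        (ModuleCat.of R ((localCohomology a i).obj M)) :=
  (LinearEquiv.ofEq _ _ (map_ker_ιL a b J (i + 1))).symm.trans <|
  ((θA a b J (i + 1)).submoduleMap (LinearMap.ker (ιL a b J (i + 1)))).symm.trans <|
  (LinearEquiv.ofEq _ _ (ker_ιL_succ a b J i)).trans <|
  (δL a b J i).quotKerEquivRange.symm.trans <|
  (Submodule.quotEquivOfEq _ _ (ker_δL a b J i)).trans <|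
  (Submodule.Quotient.equiv _ _ (LinearEquiv.ofBijective (ψL a b J i) (ψL_bijective a b J i))
    (map_range_eL a b J i)).trans <|
  (cokerToDTEquiv (Ideal.span {b}) ((GK a J).homology i)).trans <|
  ((localCohomology (Ideal.span {b}) 1).mapIso (θB a J i).toModuleIso).toLinearEquiv

end Seq

end Groth.Agent.H58.LC
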