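import Groth.Agent.H58.LCInjRes
import Groth.Prelude.Def_DualLC

set_option autoImplicit false
set_option linter.unusedSectionVars false
universe u
open CategoryTheory CategoryTheory.Limits Opposite

namespace Groth.Agent.H58.LC
open Groth.Agent.H58.ExtCompare

variable {R : Type u} [CommRing R]

section HmapOfLE
variable {I I' : Ideal R} (h : I ≤ I') (i : ℕ) (M : ModuleCat.{u} R)

/-- `R/I^n → R/I'^n` for `I ≤ I'`. -/
noncomputable def qLE (n : ℕ) : Q I n ⟶ Q I' n := (Dual2.quotMapOfLE h).app (op n)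

theorem qLE_one (n : ℕ) : (qLE h n).hom (Submodule.Quotient.mk 1) = Submodule.Quotient.mk 1 := rfl

theorem HmapOfLE_ιOld (n : ℕ) (y : oldExt I' i M n) :
    ((Dual2.HmapOfLE h i).app M).hom (ιOld I' i M n y) =
      ιOld I i M n ((((Ext R (ModuleCat.{u} R) i).map (qLE h n).op).app M).hom y) := by
  have h1 := congrArg (fun t => t.app M)
    (ι_colimMap (Functor.whiskerRight (NatTrans.op (Dual2.quotMapOfLE h))
      (Ext R (ModuleCat.{u} R) i)) (op (op n)))
  have h2 := ConcreteCategory.congr_hom h1 (toDiag I' i M n y)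
  exact h2

theorem HmapOfLE_ι (n : ℕ) (e : Abelian.Ext (Q I' n) M i) :
    ((Dual2.HmapOfLE h i).app M).hom (ι I' i M n e) =
      ι I i M n ((Abelian.Ext.mk₀ (qLE h n)).comp e (zero_add i)) := by
  rw [ι_apply, HmapOfLE_ιOld, ι_apply]
  congr 1
  apply (extEquiv (R := R) (Q I n) M i).injective
  rw [LinearEquiv.apply_symm_apply, extEquiv_naturality_left, LinearEquiv.apply_symm_apply]

theorem qLE_ofTorsion (n : ℕ) (c : M) (hc : ∀ a ∈ I' ^ n, a • c = 0) :
    qLE h n ≫ ofTorsion I' M n c hc =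
      ofTorsion I M n c (fun a ha => hc a (Ideal.pow_right_mono h n ha)) := by
  apply hom_ext_Q
  rw [ofTorsion_one, ModuleCat.hom_comp, LinearMap.comp_apply, qLE_one]
  exact ofTorsion_one I' M n c hc

end HmapOfLE

section Cls
variable {I I' : Ideal R} (h : I ≤ I') {M : ModuleCat.{u} R} (J : InjectiveResolution M) (i : ℕ)

theorem HmapOfLE_cls (n : ℕ) (c : J.cocomplex.X i) (hc : ∀ a ∈ I' ^ n, a • c = 0)
    (hd : (J.cocomplex.d i (i + 1)).hom c = 0) :
    ((Dual2.HmapOfLE h i).app M).hom (cls I' J i n c hc hd) =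
      cls I J i n c (fun a ha => hc a (Ideal.pow_right_mono h n ha)) hd := by
  unfold cls
  rw [HmapOfLE_ι]
  congr 1
  unfold clsE
  refine (J.mk₀_comp_extMk _ _ _ _ _).trans ?_
  apply extMk_congr'
  rw [qLE_ofTorsion]

include h in
theorem torsionSub_mono {N : Type u} [AddCommGroup N] [Module R N] :
    DRing.torsionSub I' N ≤ DRing.torsionSub I N := by
  rintro x ⟨n, hn⟩
  exact ⟨n, fun a ha => hn a (Ideal.pow_right_mono h n ha)⟩

theorem HmapOfLE_clsT (c : J.cocomplex.X i) (hc : c ∈ DRing.torsionSub I' (J.cocomplex.X i))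
    (hd : (J.cocomplex.d i (i + 1)).hom c = 0) :
    ((Dual2.HmapOfLE h i).app M).hom (clsT I' J i c hc hd) =
      clsT I J i c (torsionSub_mono h hc) hd := by
  have hcn := hc
  obtain ⟨n, hn⟩ := hcn
  rw [clsT_eq I' J i c _ hd n hn, HmapOfLE_cls h J i n c hn hd]
  exact (clsT_eq I J i _ _ _ n _).symm

end Cls

end Groth.Agent.H58.LC
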