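import Groth.Agent.H58.LCMV1
import Groth.Agent.H58.LCInfPowers
import Mathlib.Algebra.Homology.HomologySequence
import Mathlib.Algebra.Homology.HomologicalComplexAbelian

set_option autoImplicit false
set_option linter.unusedSectionVars false
universe u
open CategoryTheory CategoryTheory.Limits Opposite

namespace Groth.Agent.H58.LC
open Groth.Agent.H58.ExtCompare

variable {R : Type u} [CommRing R]

section GKle
variable {a a' : Ideal R} (h : a ≤ a') {M : ModuleCat.{u} R} (J : InjectiveResolution M) (i : ℕ)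

/-- `Γ_{a'}(J•) → Γ_a(J•)` for `a ≤ a'`. -/
noncomputable def GKle : GK a' J ⟶ GK a J where
  f n := ModuleCat.ofHom (Submodule.inclusion (torsionSub_mono h))
  comm' n m _ := by
    ext x
    rfl

theorem valOf_GKle (n : ℕ) (t : ((GK a' J).X n : Type u)) :
    valOf a (((GKle h J).f n).hom t) = valOf a' t := rfl

theorem GKhomologyToH_GKle (x : (GK a' J).homology i) :
    ((Dual2.HmapOfLE h i).app M).hom ((GKhomologyToH a' J i).hom x) =
      (GKhomologyToH a J i).hom ((HomologicalComplex.homologyMap (GKle h J) i).hom x) := by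
  obtain ⟨z, rfl⟩ := homologyπ_surjective _ x
  have h1 : (HomologicalComplex.homologyMap (GKle h J) i).hom (((GK a' J).sc i).homologyπ z) =
      ((GK a J).sc i).homologyπ
        ((ShortComplex.cyclesMap ((HomologicalComplex.shortComplexFunctor _ _ i).map
          (GKle h J))).hom z) :=
    congrArg (fun ψ => ψ.hom z) (ShortComplex.homologyπ_naturality
      ((HomologicalComplex.shortComplexFunctor _ _ i).map (GKle h J)))
  rw [h1, GKhomologyToH_π, GKhomologyToH_π, GKcyclesToH_apply, GKcyclesToH_apply,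
    HmapOfLE_clsT h]
  apply clsT_congr
  have h2 := congrArg (fun ψ => ψ.hom z) (ShortComplex.cyclesMap_i
      ((HomologicalComplex.shortComplexFunctor _ _ i).map (GKle h J)))
  exact (congrArg (valOf a) h2).symm

end GKle

section SumLemma
variable (a b : Ideal R)

theorem exists_add_of_mem_torsionSub_inf [IsNoetherianRing R] (E : Type u) [AddCommGroup E]
    [Module R E] [Module.Injective R E] (c : E) (hc : c ∈ DRing.torsionSub (a ⊓ b) E) :
    ∃ x ∈ DRing.torsionSub a E, ∃ y ∈ DRing.torsionSub b E, c = x + y := by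
  obtain ⟨k, hk⟩ := hc
  obtain ⟨m, hm⟩ := exists_pow_inf_pow_le a b k
  let K : Ideal R := a ^ m ⊓ b ^ m
  let ψ : (R ⧸ K) →ₗ[R] E := K.liftQ (LinearMap.toSpanSingleton R E c) (by
    intro r hr
    rw [LinearMap.mem_ker, LinearMap.toSpanSingleton_apply]
    exact hk r (hm hr))
  let diag : (R ⧸ K) →ₗ[R] (R ⧸ a ^ m) × (R ⧸ b ^ m) :=
    LinearMap.prod (Submodule.mapQ K (a ^ m) LinearMap.id (fun r hr => hr.1))
      (Submodule.mapQ K (b ^ m) LinearMap.id (fun r hr => hr.2))
  have hinj : Function.Injective diag := by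
    rw [injective_iff_map_eq_zero]
    intro x hx
    obtain ⟨r, rfl⟩ := Submodule.Quotient.mk_surjective _ x
    have h1 : (Submodule.Quotient.mk r : R ⧸ a ^ m) = 0 := congrArg Prod.fst hx
    have h2 : (Submodule.Quotient.mk r : R ⧸ b ^ m) = 0 := congrArg Prod.snd hx
    rw [Submodule.Quotient.mk_eq_zero] at h1 h2 ⊢
    exact ⟨h1, h2⟩
  obtain ⟨Ψ, hΨ⟩ := Module.Injective.out diag hinj ψ
  refine ⟨Ψ (Submodule.Quotient.mk 1, 0), ⟨m, fun r hr => ?_⟩,
    Ψ (0, Submodule.Quotient.mk 1), ⟨m, fun r hr => ?_⟩, ?_⟩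
  · rw [← map_smul, Prod.smul_mk, smul_zero, ← Submodule.Quotient.mk_smul, smul_eq_mul, mul_one,
      (Submodule.Quotient.mk_eq_zero _).2 hr]
    exact map_zero Ψ
  · rw [← map_smul, Prod.smul_mk, smul_zero, ← Submodule.Quotient.mk_smul, smul_eq_mul, mul_one,
      (Submodule.Quotient.mk_eq_zero _).2 hr]
    exact map_zero Ψ
  · rw [← map_add, Prod.mk_add_mk, add_zero, zero_add]
    have h1 := hΨ (Submodule.Quotient.mk 1)
    have h2 : ψ (Submodule.Quotient.mk 1) = c := by
      change K.liftQ _ _ (Submodule.Quotient.mk 1) = c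
      rw [Submodule.liftQ_apply, LinearMap.toSpanSingleton_apply, one_smul]
    rw [← h2, ← h1]
    rfl

theorem mem_torsionSub_sup {E : Type u} [AddCommGroup E] [Module R E] (c : E)
    (ha : c ∈ DRing.torsionSub a E) (hb : c ∈ DRing.torsionSub b E) :
    c ∈ DRing.torsionSub (a ⊔ b) E := by
  obtain ⟨n, hn⟩ := ha
  obtain ⟨m, hm⟩ := hb
  refine ⟨n + m, fun r hr => ?_⟩
  have h1 := Ideal.sup_pow_add_le_pow_sup_pow (I := a) (J := b) (n := n) (m := m) hr
  obtain ⟨x, hx, y, hy, rfl⟩ := Submodule.mem_sup.mp h1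
  rw [add_smul, hn x hx, hm y hy, add_zero]

end SumLemma

end Groth.Agent.H58.LC
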