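import Groth.Agent.H58.LCMV2

set_option autoImplicit false
set_option linter.unusedSectionVars false
universe u
open CategoryTheory CategoryTheory.Limits Opposite

namespace Groth.Agent.H58.LC
open Groth.Agent.H58.ExtCompare

variable {R : Type u} [CommRing R] (a b : Ideal R)

/-- `M ↦ Γ_a(M) × Γ_b(M)` -/
def gammaProd : ModuleCat.{u} R ⥤ ModuleCat.{u} R where
  obj M := ModuleCat.of R (DRing.torsionSub a M × DRing.torsionSub b M)
  map f := ModuleCat.ofHom
    (LinearMap.prodMap ((DRing.gammaI a).map f).hom ((DRing.gammaI b).map f).hom)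
  map_id M := by
    apply ModuleCat.hom_ext
    apply LinearMap.ext
    intro x
    rfl
  map_comp f g := by
    apply ModuleCat.hom_ext
    apply LinearMap.ext
    intro x
    rfl

instance : (gammaProd a b).Additive where
  map_add := by intros; rfl

variable {M : ModuleCat.{u} R} (J : InjectiveResolution M)

/-- the complex `Γ_a(J•) × Γ_b(J•)` -/
noncomputable abbrev GK2 : CochainComplex (ModuleCat.{u} R) ℕ :=
  ((gammaProd a b).mapHomologicalComplex (ComplexShape.up ℕ)).obj J.cocomplex

/-- cast -/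
def pairOf {J : InjectiveResolution M} {n : ℕ} (t : ((GK2 a b J).X n : Type u)) :
    DRing.torsionSub a (J.cocomplex.X n) × DRing.torsionSub b (J.cocomplex.X n) := t

noncomputable def p₁K : GK2 a b J ⟶ GK a J where
  f n := ModuleCat.ofHom (LinearMap.fst R _ _)
  comm' n m _ := by
    apply ModuleCat.hom_ext
    apply LinearMap.ext
    intro x
    rfl

noncomputable def p₂K : GK2 a b J ⟶ GK b J where
  f n := ModuleCat.ofHom (LinearMap.snd R _ _)
  comm' n m _ := by
    apply ModuleCat.hom_ext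
    apply LinearMap.ext
    intro x
    rfl

noncomputable def i₁K : GK a J ⟶ GK2 a b J where
  f n := ModuleCat.ofHom (LinearMap.inl R _ _)
  comm' n m _ := by
    apply ModuleCat.hom_ext
    apply LinearMap.ext
    intro x
    apply Prod.ext
    · rfl
    · exact map_zero ((DRing.gammaI b).map (J.cocomplex.d n m)).hom

noncomputable def i₂K : GK b J ⟶ GK2 a b J where
  f n := ModuleCat.ofHom (LinearMap.inr R _ _)
  comm' n m _ := by
    apply ModuleCat.hom_ext
    apply LinearMap.ext
    intro x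
    apply Prod.ext
    · exact map_zero ((DRing.gammaI a).map (J.cocomplex.d n m)).hom
    · rfl

theorem i₁K_p₁K : i₁K a b J ≫ p₁K a b J = 𝟙 _ := by
  ext n x
  rfl
theorem i₂K_p₂K : i₂K a b J ≫ p₂K a b J = 𝟙 _ := by
  ext n x
  rfl
theorem i₁K_p₂K : i₁K a b J ≫ p₂K a b J = 0 := by
  ext n x
  rfl
theorem i₂K_p₁K : i₂K a b J ≫ p₁K a b J = 0 := by
  ext n x
  rfl
theorem pK_iK : p₁K a b J ≫ i₁K a b J + p₂K a b J ≫ i₂K a b J = 𝟙 _ := by
  ext n x
  apply Prod.ext
  · change (pairOf a b x).1 + 0 = (pairOf a b x).1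
    rw [add_zero]
  · change 0 + (pairOf a b x).2 = (pairOf a b x).2
    rw [zero_add]

/-- `Γ_{a+b}(J•) → Γ_a(J•) × Γ_b(J•)` -/
noncomputable def αK : GK (a ⊔ b) J ⟶ GK2 a b J where
  f n := ModuleCat.ofHom (LinearMap.prod
    (Submodule.inclusion (torsionSub_mono (le_sup_left : a ≤ a ⊔ b)))
    (Submodule.inclusion (torsionSub_mono (le_sup_right : b ≤ a ⊔ b))))
  comm' n m _ := by
    apply ModuleCat.hom_ext
    apply LinearMap.ext
    intro x
    rfl

/-- `Γ_a(J•) × Γ_b(J•) → Γ_{a ∩ b}(J•)`, `(x, y) ↦ x - y` -/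
noncomputable def βK : GK2 a b J ⟶ GK (a ⊓ b) J where
  f n := ModuleCat.ofHom
    (Submodule.inclusion (torsionSub_mono (inf_le_left : a ⊓ b ≤ a)) ∘ₗ LinearMap.fst R _ _ -
      Submodule.inclusion (torsionSub_mono (inf_le_right : a ⊓ b ≤ b)) ∘ₗ LinearMap.snd R _ _)
  comm' n m _ := by
    apply ModuleCat.hom_ext
    apply LinearMap.ext
    intro x
    apply Subtype.ext
    change (J.cocomplex.d n m).hom ((pairOf a b x).1.1 - (pairOf a b x).2.1) =
      (J.cocomplex.d n m).hom (pairOf a b x).1.1 - (J.cocomplex.d n m).hom (pairOf a b x).2.1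
    rw [map_sub]

theorem αK_p₁K : αK a b J ≫ p₁K a b J = GKle (le_sup_left : a ≤ a ⊔ b) J := by
  ext n x
  rfl
theorem αK_p₂K : αK a b J ≫ p₂K a b J = GKle (le_sup_right : b ≤ a ⊔ b) J := by
  ext n x
  rfl
theorem βK_eq : βK a b J = p₁K a b J ≫ GKle (inf_le_left : a ⊓ b ≤ a) J -
    p₂K a b J ≫ GKle (inf_le_right : a ⊓ b ≤ b) J := by
  ext n x
  rfl
theorem αK_βK : αK a b J ≫ βK a b J = 0 := by
  ext n x
  apply Subtype.ext
  change valOf (a ⊔ b) x - valOf (a ⊔ b) x = 0
  rw [sub_self]

/-- the Mayer–Vietoris short complex of complexes -/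
noncomputable def SMV : ShortComplex (CochainComplex (ModuleCat.{u} R) ℕ) :=
  ShortComplex.mk (αK a b J) (βK a b J) (αK_βK a b J)

theorem SMV_shortExact [IsNoetherianRing R] : (SMV a b J).ShortExact := by
  apply HomologicalComplex.shortExact_of_degreewise_shortExact
  intro n
  have hE : Injective (J.cocomplex.X n) := J.injective n
  have hE' : Module.Injective R (J.cocomplex.X n) :=
    (Module.injective_iff_injective_object R _).mpr hE
  apply ModuleCat.shortComplex_shortExact
  · intro y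
    constructor
    · intro hy
      have hy' : (pairOf a b y).1.1 - (pairOf a b y).2.1 = 0 := congrArg Subtype.val hy
      rw [sub_eq_zero] at hy'
      have hmem : (pairOf a b y).1.1 ∈ DRing.torsionSub (a ⊔ b) (J.cocomplex.X n) :=
        mem_torsionSub_sup a b _ (pairOf a b y).1.2 (hy' ▸ (pairOf a b y).2.2)
      refine ⟨(⟨(pairOf a b y).1.1, hmem⟩ : DRing.torsionSub (a ⊔ b) (J.cocomplex.X n)), ?_⟩
      apply Prod.ext
      · rfl
      · apply Subtype.ext
        exact hy'
    · rintro ⟨x, rfl⟩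
      apply Subtype.ext
      change valOf (a ⊔ b) x - valOf (a ⊔ b) x = 0
      rw [sub_self]
  · intro x y hxy
    apply valOf_injective
    have := congrArg (fun t => (pairOf a b t).1.1) hxy
    exact this
  · intro c
    obtain ⟨x, hx, y, hy, hxy⟩ := exists_add_of_mem_torsionSub_inf a b (J.cocomplex.X n)
      (valOf (a ⊓ b) c) (valOf_mem (a ⊓ b) J n c)
    refine ⟨((⟨x, hx⟩, ⟨-y, Submodule.neg_mem _ hy⟩) :
      DRing.torsionSub a (J.cocomplex.X n) × DRing.torsionSub b (J.cocomplex.X n)), ?_⟩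
    apply valOf_injective
    change x - -y = valOf (a ⊓ b) c
    rw [sub_neg_eq_add, hxy]

end Groth.Agent.H58.LC
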