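import Groth.Agent.H58.LCGV

/-!
# Top local cohomology: multiplication by a parameter is surjective
-/
set_option autoImplicit false
set_option linter.unusedSectionVars false
universe u
open CategoryTheory CategoryTheory.Limits Opposite

namespace Groth.Agent.H58.LC

variable {R : Type u} [CommRing R] [IsNoetherianRing R] (I : Ideal R)

/-- If `f` avoids the minimal primes of maximal dimension then `dim M/fM < dim R`. -/
theorem supportDim_quotSMulTop_lt (d : ℕ) (hd : ringKrullDim R = d) (f : R)
    (hf : ∀ p ∈ minimalPrimes R, ringKrullDim (R ⧸ p) = d → f ∉ p)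
    (M : Type u) [AddCommGroup M] [Module R M] [Module.Finite R M] :
    Module.supportDim R (QuotSMulTop f M) < (d : WithBot ℕ∞) := by
  by_contra hcon
  rw [not_lt] at hcon
  obtain ⟨l, hl⟩ := Order.le_krullDim_iff.1 hcon
  -- the chain, viewed in `Spec R`
  let l' : LTSeries (PrimeSpectrum R) := l.map Subtype.val (fun _ _ h => h)
  have hl' : l'.length = d := hl
  have hmem : ∀ i, f ∈ (l' i).asIdeal := by
    intro i
    have h1 : ∀ P : PrimeSpectrum R, P ∈ Module.support R (QuotSMulTop f M) → f ∈ P.asIdeal := by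
      intro P hP
      rw [Module.support_quotSMulTop] at hP
      have h2 := hP.2
      rw [PrimeSpectrum.mem_zeroLocus, Set.singleton_subset_iff] at h2
      exact h2
    exact h1 _ (l i).2
  obtain ⟨q, hq, hqle⟩ := Ideal.exists_minimalPrimes_le (J := l'.head.asIdeal) (I := ⊥) bot_le
  have hqprime : q.IsPrime := hq.1.1
  -- dim R/q ≥ d
  have h1 : (d : WithBot ℕ∞) ≤ ringKrullDim (R ⧸ q) := by
    rw [ringKrullDim_quotient, Order.le_krullDim_iff]
    have hz : ∀ i, l' i ∈ PrimeSpectrum.zeroLocus (q : Set R) := by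
      intro i
      rw [PrimeSpectrum.mem_zeroLocus]
      have : l'.head ≤ l' i := l'.head_le i
      exact hqle.trans this
    refine ⟨⟨d, fun i => ⟨l' (Fin.cast (by rw [hl']) i), hz _⟩, fun i => ?_⟩, rfl⟩
    have := l'.step (Fin.cast (by rw [hl']) i)
    exact this
  have h2 : ringKrullDim (R ⧸ q) = d :=
    le_antisymm ((ringKrullDim_quotient_le q).trans hd.le) h1
  have hfq : f ∉ q := hf q hq h2
  have hne : (⟨q, hqprime⟩ : PrimeSpectrum R) < l'.head := by
    refine lt_of_le_of_ne hqle ?_
    intro heq
    apply hfq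
    have h0 : f ∈ l'.head.asIdeal := hmem 0
    rw [← heq] at h0
    exact h0
  have h3 : ((d + 1 : ℕ) : WithBot ℕ∞) ≤ ringKrullDim R := by
    rw [ringKrullDim, Order.le_krullDim_iff]
    exact ⟨l'.cons ⟨q, hqprime⟩ hne, by simp [hl']⟩
  rw [hd] at h3
  have : ((d + 1 : ℕ) : WithBot ℕ∞) ≤ ((d : ℕ) : WithBot ℕ∞) := h3
  rw [Nat.cast_le] at this
  omega

theorem smul_surjective_top (d : ℕ) (hd : ringKrullDim R = d) (f : R)
    (hf : ∀ p ∈ minimalPrimes R, ringKrullDim (R ⧸ p) = d → f ∉ p)
    (M : Type u) [AddCommGroup M] [Module R M] [Module.Finite R M] :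
    Function.Surjective (fun x : LocCoh.H I d M => f • x) := by
  -- the two short exact sequences
  let N : Submodule R M := LinearMap.range (LinearMap.lsmul R M f)
  let g : M →ₗ[R] N := (LinearMap.lsmul R M f).rangeRestrict
  have hS1 := shortExact_of (LinearMap.ker g).subtype g (Submodule.injective_subtype _)
    (LinearMap.surjective_rangeRestrict _) (LinearMap.exact_subtype_ker_map g)
  have hS2 := shortExact_of N.subtype N.mkQ (Submodule.injective_subtype _)
    (Submodule.mkQ_surjective _) (LinearMap.exact_subtype_mkQ N)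
  have hK : Subsingleton (LocCoh.H I (d + 1) (LinearMap.ker g)) := by
    apply gv I (d + 1)
    refine lt_of_le_of_lt ((Module.supportDim_le_ringKrullDim R _).trans hd.le) ?_
    exact_mod_cast Nat.lt_succ_self d
  have hQ : Subsingleton (LocCoh.H I d (M ⧸ N)) := by
    apply gv I d
    have : Module.supportDim R (M ⧸ N) = Module.supportDim R (QuotSMulTop f M) := by
      apply Module.supportDim_eq_of_equiv
      refine Submodule.quotEquivOfEq _ _ ?_
      ext x
      simp only [N, LinearMap.mem_range, LinearMap.lsmul_apply]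
      constructor
      · rintro ⟨y, rfl⟩
        exact Submodule.smul_mem_pointwise_smul y f ⊤ trivial
      · intro h
        obtain ⟨y, -, rfl⟩ := (Submodule.mem_smul_pointwise_iff_exists x f ⊤).1 h
        exact ⟨y, rfl⟩
    rw [this]
    exact supportDim_quotSMulTop_lt d hd f hf M
  intro x
  -- lift along `N → M`
  obtain ⟨y, hy⟩ := exact₂ I d hS2 x (Subsingleton.elim (h := hQ) _ _)
  -- lift along `M → N`
  obtain ⟨z, hz⟩ := exact₃ I d hS1 y (Subsingleton.elim (h := hK) _ _)
  refine ⟨z, ?_⟩
  change f • z = x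
  rw [← hy, ← hz]
  have hcomp : ModuleCat.ofHom g ≫ ModuleCat.ofHom N.subtype = f • 𝟙 (ModuleCat.of R M) := by
    apply ModuleCat.hom_ext
    apply LinearMap.ext
    intro m; rfl
  have h4 : ((localCohomology I d).map (ModuleCat.ofHom N.subtype)).hom
      (((localCohomology I d).map (ModuleCat.ofHom g)).hom z) =
      ((localCohomology I d).map (f • 𝟙 (ModuleCat.of R M))).hom z := by
    rw [← hcomp, (localCohomology I d).map_comp]; rfl
  rw [h4, map_smul', CategoryTheory.Functor.map_id]
  rfl

end Groth.Agent.H58.LC
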