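import Groth.Agent.H58.LCTorsion
import Groth.Agent.H58.InjResOf

set_option autoImplicit false
universe u
open CategoryTheory CategoryTheory.Limits Opposite

namespace Groth.Agent.H58.LC

variable {R : Type u} [CommRing R] (I : Ideal R)

/-- torsion objects -/
def IsTors (Y : ModuleCat.{u} R) : Prop := ∀ x : Y, x ∈ DRing.torsionSub I Y

theorem exists_emb [IsNoetherianRing R] (Y : ModuleCat.{u} R) :
    ∃ (G : ModuleCat.{u} R) (j : Y ⟶ G), Mono j ∧ Injective G ∧ (IsTors I Y → IsTors I G) := by
  by_cases hY : IsTors I Y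
  · obtain ⟨S, hS, e, hinj, htE, htC⟩ := exists_torsion_ses I Y hY
    refine ⟨S.X₂, e.hom ≫ S.f, ?_, hinj, fun _ => htE⟩
    have := hS.mono_f
    infer_instance
  · exact ⟨Injective.under Y, Injective.ι Y, inferInstance, inferInstance, fun h => (hY h).elim⟩

/-- chosen embedding -/
noncomputable def G [IsNoetherianRing R] (Y : ModuleCat.{u} R) : ModuleCat.{u} R :=
  (exists_emb I Y).choose

noncomputable def jG [IsNoetherianRing R] (Y : ModuleCat.{u} R) : Y ⟶ G I Y :=
  (exists_emb I Y).choose_spec.choose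

instance [IsNoetherianRing R] (Y : ModuleCat.{u} R) : Mono (jG I Y) :=
  (exists_emb I Y).choose_spec.choose_spec.1

instance [IsNoetherianRing R] (Y : ModuleCat.{u} R) : Injective (G I Y) :=
  (exists_emb I Y).choose_spec.choose_spec.2.1

theorem isTors_G [IsNoetherianRing R] (Y : ModuleCat.{u} R) (h : IsTors I Y) : IsTors I (G I Y) :=
  (exists_emb I Y).choose_spec.choose_spec.2.2 h

theorem isTors_cokernel {X Y : ModuleCat.{u} R} (f : X ⟶ Y) (h : IsTors I Y) :
    IsTors I (cokernel f) := by
  intro c
  obtain ⟨y, rfl⟩ := (ModuleCat.epi_iff_surjective (cokernel.π f)).1 inferInstance c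
  exact DRing.map_mem_torsionSub I (cokernel.π f).hom (h y)

/-- an injective resolution of a torsion module by torsion injectives -/
theorem exists_injectiveResolution_isTors [IsNoetherianRing R] (M : ModuleCat.{u} R)
    (hM : IsTors I M) : ∃ J : InjectiveResolution M, ∀ n, IsTors I (J.cocomplex.X n) :=
  ⟨InjResOf.of (G I) (jG I) M,
    InjResOf.of_X_prop (G I) (jG I) (IsTors I) (isTors_G I) (isTors_cokernel I) M hM⟩

end Groth.Agent.H58.LC
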