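import Groth.Agent.H58.LCLes
import Groth.Agent.H58.LCArith

/-!
# Transition maps kill `Ext^i(A/I^n, -)` uniformly above the cohomological dimension
-/
set_option autoImplicit false
set_option linter.unusedSectionVars false
universe u
open CategoryTheory CategoryTheory.Limits Opposite

namespace Groth.Agent.H58.LC
open Groth.Agent.H58.ExtCompare

variable {R : Type u} [CommRing R] (I : Ideal R)

theorem Qmap_comp {n m k : ℕ} (h : n ≤ m) (h' : m ≤ k) :
    Qmap I h' ≫ Qmap I h = Qmap I (h.trans h') := by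
  apply ModuleCat.hom_ext
  apply LinearMap.ext
  intro x
  obtain ⟨r, rfl⟩ := Submodule.Quotient.mk_surjective _ x
  rfl

variable (e : ℕ) (he : LocCoh.CdLE R I e) (n : ℕ)

include he in
/-- the universal class dies -/
theorem exists_transition_zero_base :
    ∃ (m : ℕ) (hm : n < m), ∀ (N : ModuleCat.{u} R) (x : Abelian.Ext (Q I n) N (e + 1)),
      (Abelian.Ext.mk₀ (Qmap I (Nat.le_of_lt hm))).comp x (zero_add (e + 1)) = 0 := by
  let P := projectiveResolution (Q I n)
  let Ω : ModuleCat.{u} R := cokernel (P.complex.d (e + 1 + 1) (e + 1))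
  let π : P.complex.X (e + 1) ⟶ Ω := cokernel.π _
  have hπ : P.complex.d (e + 1 + 1) (e + 1) ≫ π = 0 := cokernel.condition _
  let ξ : Abelian.Ext (Q I n) Ω (e + 1) := P.extMk π (e + 1 + 1) rfl hπ
  have hvan : Subsingleton ((localCohomology I (e + 1)).obj Ω) := he Ω (e + 1) (Nat.lt_succ_self e)
  -- move to level n + 1 first
  have h0 : ι I (e + 1) Ω (n + 1)
      ((Abelian.Ext.mk₀ (Qmap I (Nat.le_succ n))).comp ξ (zero_add (e + 1))) = 0 :=
    Subsingleton.elim _ _
  rw [ι_eq_zero_iff] at h0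
  obtain ⟨m, hm, h1⟩ := h0
  rw [Abelian.Ext.mk₀_comp_mk₀_assoc, Qmap_comp] at h1
  refine ⟨m, hm, fun N x => ?_⟩
  obtain ⟨f, hf, rfl⟩ := P.extMk_surjective x (e + 1 + 1) rfl
  have hfac : π ≫ cokernel.desc _ f hf = f := cokernel.π_desc _ _ _
  have h2 : P.extMk f (e + 1 + 1) rfl hf =
      ξ.comp (Abelian.Ext.mk₀ (cokernel.desc _ f hf)) (add_zero (e + 1)) := by
    rw [P.extMk_comp_mk₀]
    congr 1
    exact hfac.symm
  rw [h2, ← Abelian.Ext.comp_assoc_of_third_deg_zero, h1, Abelian.Ext.zero_comp]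

include he in
theorem exists_transition_zero :
    ∃ (m : ℕ) (hm : n < m), ∀ (i : ℕ), e < i → ∀ (N : ModuleCat.{u} R)
      (x : Abelian.Ext (Q I n) N i),
      (Abelian.Ext.mk₀ (Qmap I (Nat.le_of_lt hm))).comp x (zero_add i) = 0 := by
  obtain ⟨m, hm, hbase⟩ := exists_transition_zero_base I e he n
  refine ⟨m, hm, ?_⟩
  have key : ∀ (t : ℕ) (N : ModuleCat.{u} R) (x : Abelian.Ext (Q I n) N (e + 1 + t)),
      (Abelian.Ext.mk₀ (Qmap I (Nat.le_of_lt hm))).comp x (zero_add (e + 1 + t)) = 0 := by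
    intro t
    induction t with
    | zero => exact hbase
    | succ t ih =>
      intro N x
      -- embed `N` into an injective
      let E : ModuleCat.{u} R := Injective.under N
      let j : N ⟶ E := Injective.ι N
      have hS : (ShortComplex.mk j (cokernel.π j) (cokernel.condition j)).ShortExact :=
        { exact := ShortComplex.exact_cokernel j
          mono_f := inferInstanceAs (Mono (Injective.ι N))
          epi_g := inferInstanceAs (Epi (cokernel.π j)) }
      have h0 : x.comp (Abelian.Ext.mk₀ j) (add_zero (e + 1 + (t + 1))) = 0 :=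
        Abelian.Ext.eq_zero_of_injective _
      obtain ⟨y, hy⟩ := Abelian.Ext.covariant_sequence_exact₁ _ hS x h0
        (show e + 1 + t + 1 = e + 1 + (t + 1) by omega)
      rw [← hy, ← Abelian.Ext.comp_assoc (Abelian.Ext.mk₀ (Qmap I (Nat.le_of_lt hm))) y hS.extClass
        (zero_add _) (show e + 1 + t + 1 = e + 1 + (t + 1) by omega) (by omega), ih,
        Abelian.Ext.zero_comp]
  intro i hi N x
  obtain ⟨t, rfl⟩ : ∃ t, i = e + 1 + t := ⟨i - (e + 1), by omega⟩
  exact key t N x

end Groth.Agent.H58.LC
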